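import Groth.Agent.Flat2H.KoszulReg
import Mathlib.Algebra.Category.ModuleCat.Descent
import Mathlib.Algebra.Category.ModuleCat.ChangeOfRings
import Mathlib.RingTheory.RingHom.Flat

/-!
# Koszul complexes and additive functors, base change
-/

set_option autoImplicit false

universe w₁ w₂ v₁ v₂ u₁ u₂ u

open CategoryTheory Category Limits CochainComplex CochainComplex.HomComplex CochainComplex.mappingCone
open Groth.Agent.Flat2H.KoszulBasic Groth.Agent.Flat2H.KoszulReg
open scoped Pointwise ZeroObject

namespace Groth.Agent.Flat2H.KoszulBC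

section General

variable {A : Type w₁} [CommRing A] {B : Type w₂} [CommRing B]
  {C : Type u₁} [Category.{v₁} C] [Preadditive C] [Linear A C] [HasBinaryBiproducts C]
  {D : Type u₂} [Category.{v₂} D] [Preadditive D] [Linear B D] [HasBinaryBiproducts D]
  (F : C ⥤ D) [F.Additive]

/-- `F` transforms multiplication by `a` into multiplication by `b`. -/
def SMulRel (a : A) (b : B) : Prop := ∀ X : C, F.map (a • 𝟙 X) = b • 𝟙 (F.obj X)

/-- An additive functor commutes with cones of multiplications. -/
lemma nonempty_map_cone1_iso {a : A} {b : B} (hab : SMulRel F a b) (K : CochainComplex C ℤ) :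
    Nonempty ((F.mapHomologicalComplex (ComplexShape.up ℤ)).obj (cone1 a K) ≅
      cone1 b ((F.mapHomologicalComplex (ComplexShape.up ℤ)).obj K)) := by
  have h : (F.mapHomologicalComplex (ComplexShape.up ℤ)).map (a • 𝟙 K) =
      b • 𝟙 ((F.mapHomologicalComplex (ComplexShape.up ℤ)).obj K) := by
    ext i
    exact hab _
  refine ⟨mappingCone.mapHomologicalComplexIso (a • 𝟙 K) F ≪≫ eqToIso ?_⟩
  rw [h]

/-- An additive functor commutes with Koszul complexes. -/
lemma nonempty_map_kos_iso {l : List A} {l' : List B} (hl : List.Forall₂ (SMulRel F) l l')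
    (K : CochainComplex C ℤ) :
    Nonempty ((F.mapHomologicalComplex (ComplexShape.up ℤ)).obj (kos l K) ≅
      kos l' ((F.mapHomologicalComplex (ComplexShape.up ℤ)).obj K)) := by
  induction hl with
  | nil => exact ⟨Iso.refl _⟩
  | @cons a b l l' hab _ ih =>
    obtain ⟨e⟩ := ih
    obtain ⟨e'⟩ := nonempty_map_cone1_iso F hab (kos l K)
    exact ⟨e' ≪≫ cone1Iso b e⟩

end General

section Exact

variable {C : Type u₁} [Category.{v₁} C] [Abelian C] {D : Type u₂} [Category.{v₂} D] [Abelian D]
  (F : C ⥤ D) [F.Additive] [F.PreservesHomology]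

/-- An exact functor commutes with homology. -/
noncomputable def mapHomologyIso (K : CochainComplex C ℤ) (i : ℤ) :
    ((F.mapHomologicalComplex (ComplexShape.up ℤ)).obj K).homology i ≅ F.obj (K.homology i) :=
  (K.sc i).mapHomologyIso F

end Exact

section ModuleCat

variable {A B : Type u} [CommRing A] [CommRing B]

/-- An additive functor commutes with `M ↦ M[0]`. -/
noncomputable def mapSglIso (F : ModuleCat.{u} A ⥤ ModuleCat.{u} B) [F.Additive] (M : ModuleCat.{u} A) :
    (F.mapHomologicalComplex (ComplexShape.up ℤ)).obj (sgl M) ≅ sgl (F.obj M) :=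
  (HomologicalComplex.singleMapHomologicalComplex F (ComplexShape.up ℤ) 0).app M

lemma nonempty_kos_homology_iso (F : ModuleCat.{u} A ⥤ ModuleCat.{u} B) [F.Additive] [F.PreservesHomology]
    {l : List A} {l' : List B} (hl : List.Forall₂ (SMulRel F) l l') (M : ModuleCat.{u} A) (i : ℤ) :
    Nonempty ((kos l' (sgl (F.obj M))).homology i ≅ F.obj ((kos l (sgl M)).homology i)) := by
  obtain ⟨e⟩ := nonempty_map_kos_iso F hl (sgl M)
  exact ⟨(HomologicalComplex.homologyFunctor _ _ i).mapIso (kosIso l' (mapSglIso F M).symm ≪≫ e.symm) ≪≫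
    mapHomologyIso F _ i⟩

lemma kReg_map (F : ModuleCat.{u} A ⥤ ModuleCat.{u} B) [F.Additive] [F.PreservesHomology]
    {l : List A} {l' : List B} (hl : List.Forall₂ (SMulRel F) l l') {M : ModuleCat.{u} A} (h : KReg l M) :
    KReg l' (F.obj M) := by
  intro i hi
  exact (F.map_isZero (h i hi)).of_iso (nonempty_kos_homology_iso F hl M i).some

lemma smulRel_restrictScalars (f : A →+* B) (a : A) :
    SMulRel (ModuleCat.restrictScalars.{u} f) (f a) a := by
  intro X
  ext x
  rfl

lemma smulRel_extendScalars (f : A →+* B) (a : A) :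
    SMulRel (ModuleCat.extendScalars.{u, u, u} f) a (f a) := by
  intro X
  apply ModuleCat.ExtendScalars.hom_ext
  intro m
  let : Module A B := Module.compHom B f
  exact (TensorProduct.tmul_smul a (1 : B) m).symm.symm.trans
    (show a • ((1 : B) ⊗ₜ[A] m : TensorProduct A B X) = _ from rfl)

lemma forall₂_restrictScalars (f : A →+* B) (l : List A) :
    List.Forall₂ (SMulRel (ModuleCat.restrictScalars.{u} f)) (l.map f) l := by
  induction l with
  | nil => exact .nil
  | cons a l ih => exact .cons (smulRel_restrictScalars f a) ih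

lemma forall₂_extendScalars (f : A →+* B) (l : List A) :
    List.Forall₂ (SMulRel (ModuleCat.extendScalars.{u, u, u} f)) l (l.map f) := by
  induction l with
  | nil => exact .nil
  | cons a l ih => exact .cons (smulRel_extendScalars f a) ih

/-- Koszul-regularity of `l` on a `B`-module `N` can be tested over `A` or over `B`. -/
lemma kReg_restrictScalars_iff (f : A →+* B) (l : List A) (N : ModuleCat.{u} B) :
    KReg l ((ModuleCat.restrictScalars f).obj N) ↔ KReg (l.map f) N := by
  refine forall_congr' fun i => imp_congr Iff.rfl ?_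
  obtain ⟨e⟩ := nonempty_kos_homology_iso (ModuleCat.restrictScalars.{u} f) (forall₂_restrictScalars f l) N i
  rw [e.isZero_iff]
  constructor
  · intro h
    rw [ModuleCat.isZero_iff_subsingleton] at h ⊢
    exact h
  · exact fun h => (ModuleCat.restrictScalars.{u} f).map_isZero h

/-- The quotient ring as a module over the ring, versus as a module over itself. -/
lemma kReg_quotient_iff (l : List A) (I : Ideal A) :
    KReg l (ModuleCat.of A (A ⧸ I)) ↔
      KReg (l.map (Ideal.Quotient.mk I)) (ModuleCat.of (A ⧸ I) (A ⧸ I)) := by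
  rw [← kReg_restrictScalars_iff]
  exact Iff.rfl

/-- Append lemma for Koszul-regular sequences: if `m` is Koszul-regular in `A`, then `l ++ m` is
Koszul-regular in `A` iff the image of `l` is Koszul-regular in `A/(m)`. -/
lemma isKoszulRegularSeq_append_iff {l m : List A} (h : LCI.IsKoszulRegularSeq A m) :
    LCI.IsKoszulRegularSeq A (l ++ m) ↔
      LCI.IsKoszulRegularSeq (A ⧸ Ideal.ofList m) (l.map (Ideal.Quotient.mk (Ideal.ofList m))) := by
  rw [isKoszulRegularSeq_iff] at h
  rw [isKoszulRegularSeq_iff, isKoszulRegularSeq_iff, kReg_append_iff h, ← kReg_quotient_iff]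
  exact kReg_iff_of_linearEquiv (Submodule.quotEquivOfEq _ _ (by simp))

lemma isKoszulRegularSeq_perm_iff {l m : List A} (h : l.Perm m) :
    LCI.IsKoszulRegularSeq A l ↔ LCI.IsKoszulRegularSeq A m := by
  rw [isKoszulRegularSeq_iff, isKoszulRegularSeq_iff, kReg_perm_iff h]

lemma isKoszulRegularSeq_of_isWeaklyRegular {l : List A}
    (h : RingTheory.Sequence.IsWeaklyRegular A l) : LCI.IsKoszulRegularSeq A l :=
  (isKoszulRegularSeq_iff l).2 (kReg_of_isWeaklyRegular h)

instance extendScalars_additive (f : A →+* B) : (ModuleCat.extendScalars.{u, u, u} f).Additive :=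
  (ModuleCat.extendRestrictScalarsAdj f).left_adjoint_additive

/-- Flat base change. -/
lemma kReg_extendScalars {l : List A} {M : ModuleCat.{u} A} (h : KReg l M) (f : A →+* B) (hf : f.Flat) :
    KReg (l.map f) ((ModuleCat.extendScalars.{u, u, u} f).obj M) := by
  have := ModuleCat.preservesFiniteLimits_extendScalars_of_flat hf
  exact kReg_map _ (forall₂_extendScalars f l) h

/-- Extension of scalars of the free module of rank one. -/
lemma nonempty_extendScalars_self_iso (f : A →+* B) :
    Nonempty ((ModuleCat.extendScalars.{u, u, u} f).obj (ModuleCat.of A A) ≅ ModuleCat.of B B) := by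
  let := f.toAlgebra
  exact ⟨(TensorProduct.AlgebraTensorModule.rid A B B).toModuleIso⟩

lemma IsKoszulRegularSeq_map_of_flat {l : List A} (h : LCI.IsKoszulRegularSeq A l) (f : A →+* B)
    (hf : f.Flat) : LCI.IsKoszulRegularSeq B (l.map f) := by
  rw [isKoszulRegularSeq_iff] at h ⊢
  exact (kReg_extendScalars h f hf).of_iso (nonempty_extendScalars_self_iso f).some

lemma IsKoszulRegularSeq_of_faithfullyFlat {l : List A} (f : A →+* B)
    (hf : f.FaithfullyFlat) (h : LCI.IsKoszulRegularSeq B (l.map f)) : LCI.IsKoszulRegularSeq A l := by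
  rw [isKoszulRegularSeq_iff] at h ⊢
  have := ModuleCat.preservesFiniteLimits_extendScalars_of_flat hf.flat
  have := ModuleCat.reflectsIsomorphisms_extendScalars_of_faithfullyFlat hf
  intro i hi
  have h' := h.of_iso (nonempty_extendScalars_self_iso f).some.symm i hi
  have h2 := h'.of_iso (nonempty_kos_homology_iso (ModuleCat.extendScalars.{u, u, u} f)
    (forall₂_extendScalars f l) (ModuleCat.of A A) i).some.symm
  let z : (kos l (sgl (ModuleCat.of A A))).homology i ⟶ 0 := 0
  have hz : IsIso ((ModuleCat.extendScalars.{u, u, u} f).map z) :=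
    ⟨0, h2.eq_of_src _ _, ((ModuleCat.extendScalars.{u, u, u} f).map_isZero (isZero_zero _)).eq_of_src _ _⟩
  have := isIso_of_reflects_iso z (ModuleCat.extendScalars.{u, u, u} f)
  exact (isZero_zero _).of_iso (asIso z)

end ModuleCat

end Groth.Agent.Flat2H.KoszulBC
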