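import Mathlib.RingTheory.Regular.RegularSequence
import Mathlib.RingTheory.Regular.Flat
import Mathlib.RingTheory.MvPolynomial.Ideal
import Mathlib.RingTheory.RingHom.StandardSmooth
import Mathlib.RingTheory.Smooth.Flat
import Mathlib.RingTheory.Etale.StandardEtale
import Mathlib.RingTheory.Localization.Away.Basic

/-!
# The ideal of a section of a smooth algebra is locally generated by a regular sequence

* `isWeaklyRegular_X`: the variables form a weakly regular sequence in a polynomial ring.
* `exists_regular_of_isStandardSmooth_of_section`: for `A → B` standard smooth with a retraction `π : B → A` there are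
  `g ∈ B` with `π g = 1` and a list `l` in `B` such that in every localization of `B` at a multiplicative set
  containing `g` the ideal `ker π` is generated by `l`, and `l` is weakly regular.
-/

set_option autoImplicit false

universe u v w

namespace Groth.Agent.Flat2H.SmoothSection

open RingTheory.Sequence

section

variable (R : Type u) [CommRing R]

theorem smul_mem_span_X {σ : Type v} (s : Set σ) (i : σ) (hi : i ∉ s) (p : MvPolynomial σ R)
    (h : MvPolynomial.X i * p ∈ Ideal.span (MvPolynomial.X '' s : Set (MvPolynomial σ R))) :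
    p ∈ Ideal.span (MvPolynomial.X '' s : Set (MvPolynomial σ R)) := by
  classical
  rw [MvPolynomial.mem_ideal_span_X_image] at h ⊢
  intro m hm
  have hm' : m + Finsupp.single i 1 ∈ (MvPolynomial.X i * p).support := by
    rw [MvPolynomial.mem_support_iff] at hm ⊢
    rw [mul_comm, MvPolynomial.coeff_mul_X]
    exact hm
  obtain ⟨j, hj, hne⟩ := h _ hm'
  refine ⟨j, hj, ?_⟩
  have hij : i ≠ j := by rintro rfl; exact hi hj
  rw [Finsupp.add_apply, Finsupp.single_eq_of_ne hij.symm, add_zero] at hne
  exact hne

/-- The variables form a weakly regular sequence in a polynomial ring. -/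
theorem isWeaklyRegular_X (n : ℕ) :
    IsWeaklyRegular (MvPolynomial (Fin n) R) (List.ofFn (MvPolynomial.X : Fin n → MvPolynomial (Fin n) R)) := by
  rw [isWeaklyRegular_iff_Fin]
  intro i
  have hi : (i : ℕ) < n := by simpa using i.2
  have hset : Ideal.ofList ((List.ofFn (MvPolynomial.X : Fin n → MvPolynomial (Fin n) R)).take i) =
      Ideal.span (MvPolynomial.X '' {j : Fin n | (j : ℕ) < i} : Set (MvPolynomial (Fin n) R)) := by
    unfold Ideal.ofList
    congr 1
    ext x
    constructor
    · intro hx
      obtain ⟨k, hk, rfl⟩ := List.mem_iff_getElem.1 hx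
      have hk' : k < i ∧ k < n := by simpa using hk
      refine ⟨⟨k, hk'.2⟩, hk'.1, ?_⟩
      simp
    · rintro ⟨j, hj, rfl⟩
      refine List.mem_iff_getElem.2 ⟨j, ?_, ?_⟩
      · simpa using hj
      · simp
  rw [isSMulRegular_quotient_iff_mem_of_smul_mem]
  intro p hp
  rw [hset] at hp ⊢
  have htop : ∀ J : Ideal (MvPolynomial (Fin n) R), J • (⊤ : Submodule (MvPolynomial (Fin n) R) (MvPolynomial (Fin n) R)) = J := by
    intro J
    rw [Ideal.smul_eq_mul, Ideal.mul_top]
  rw [htop] at hp ⊢
  refine smul_mem_span_X R {j : Fin n | (j : ℕ) < i} (⟨i, hi⟩ : Fin n) (fun h => lt_irrefl (i : ℕ) h) p ?_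
  simpa using hp

end

section

variable {A : Type u} {B : Type v} [CommRing A] [CommRing B] [Algebra A B]

/-- The kernel of a section of an étale algebra is generated by an idempotent. -/
theorem exists_idempotent_of_section [Algebra.FormallyUnramified A B] [Algebra.FinitePresentation A B]
    (ρ : B →ₐ[A] A) : ∃ e : B, IsIdempotentElem e ∧ RingHom.ker ρ = Ideal.span {e} := by
  have hρ : Function.Surjective ρ := fun a => ⟨algebraMap A B a, by simp⟩
  let _ : Algebra B A := ρ.toRingHom.toAlgebra
  have : IsScalarTower A B A := IsScalarTower.of_algebraMap_eq (fun a => by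
    change a = ρ (algebraMap A B a); simp)
  exact (Ideal.isIdempotentElem_iff_of_fg _ (Algebra.FinitePresentation.ker_fG_of_surjective ρ hρ)).mp
      ((Algebra.FormallyEtale.iff_of_surjective (R := B) (S := A) hρ).mp (.of_restrictScalars (R := A)))

end

section

variable {A B : Type u} [CommRing A] [CommRing B] [Algebra A B]

theorem exists_regular_of_etale_of_section (n : ℕ) (g : MvPolynomial (Fin n) A →ₐ[A] B) (hg : g.toRingHom.Etale)
    (π : B →ₐ[A] A) :
    ∃ (c : B) (l : List B), π c = 1 ∧ (∀ x ∈ l, π x = 0) ∧ ∀ (Bg : Type w) [CommRing Bg] [Algebra B Bg]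
      (S : Submonoid B) [IsLocalization S Bg], c ∈ S →
      IsWeaklyRegular Bg (l.map (algebraMap B Bg)) ∧
        (RingHom.ker π).map (algebraMap B Bg) = Ideal.ofList (l.map (algebraMap B Bg)) := by
  classical
  -- translate the coordinates
  let a : Fin n → A := fun i => π (g (MvPolynomial.X i))
  let τ : MvPolynomial (Fin n) A →ₐ[A] MvPolynomial (Fin n) A :=
    MvPolynomial.aeval (fun i => MvPolynomial.X i - MvPolynomial.C (a i))
  let τ' : MvPolynomial (Fin n) A →ₐ[A] MvPolynomial (Fin n) A :=
    MvPolynomial.aeval (fun i => MvPolynomial.X i + MvPolynomial.C (a i))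
  have h12 : τ.comp τ' = AlgHom.id A _ := by
    ext i
    simp [τ, τ', MvPolynomial.algebraMap_eq]
  have h21 : τ'.comp τ = AlgHom.id A _ := by
    ext i
    simp [τ, τ', MvPolynomial.algebraMap_eq]
  let e : MvPolynomial (Fin n) A ≃ₐ[A] MvPolynomial (Fin n) A := AlgEquiv.ofAlgHom τ τ' h12 h21
  let g' : MvPolynomial (Fin n) A →ₐ[A] B := g.comp τ
  have hg' : g'.toRingHom.Etale := by
    have he : (e : MvPolynomial (Fin n) A →+* MvPolynomial (Fin n) A).Etale :=
      RingHom.Etale.of_bijective e.bijective
    exact RingHom.Etale.stableUnderComposition (e : MvPolynomial (Fin n) A →+* MvPolynomial (Fin n) A)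
      (g : MvPolynomial (Fin n) A →+* B) he hg
  let x : Fin n → B := fun i => g' (MvPolynomial.X i)
  have hx : ∀ i, π (x i) = 0 := by
    intro i
    simp [x, g', τ, a]
  let P := MvPolynomial (Fin n) A
  let J : Ideal B := Ideal.span (Set.range x)
  have hJ : J ≤ RingHom.ker π := by
    refine Ideal.span_le.2 ?_
    rintro _ ⟨i, rfl⟩
    exact hx i
  let _ : Algebra P B := g'.toRingHom.toAlgebra
  have : IsScalarTower A P B := IsScalarTower.of_algebraMap_eq' g'.comp_algebraMap.symm
  have : Algebra.Etale P B := hg'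
  let z : P →ₐ[A] A := MvPolynomial.aeval (fun _ => (0 : A))
  have hzC : ∀ r, z (MvPolynomial.C r) = r := fun r => MvPolynomial.aeval_C _ r
  have hzX : ∀ i, z (MvPolynomial.X i) = 0 := fun i => MvPolynomial.aeval_X _ i
  let _ : Algebra P A := z.toRingHom.toAlgebra
  have : IsScalarTower P A (B ⧸ J) := by
    refine IsScalarTower.of_algebraMap_eq' ?_
    refine MvPolynomial.ringHom_ext ?_ ?_
    · intro r
      have h1 : algebraMap P A (MvPolynomial.C r) = r := hzC r
      have h2 : algebraMap P (B ⧸ J) (MvPolynomial.C r) = algebraMap A (B ⧸ J) r := by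
        rw [← MvPolynomial.algebraMap_eq, ← IsScalarTower.algebraMap_apply A P (B ⧸ J)]
      rw [RingHom.comp_apply, h1, h2]
    · intro i
      have h1 : algebraMap P A (MvPolynomial.X i) = 0 := hzX i
      have h2 : algebraMap P (B ⧸ J) (MvPolynomial.X i) = 0 := by
        rw [IsScalarTower.algebraMap_apply P B (B ⧸ J)]
        exact Ideal.Quotient.eq_zero_iff_mem.2 (Ideal.subset_span ⟨i, rfl⟩)
      rw [RingHom.comp_apply, h1, h2, map_zero]
  have : Algebra.FormallyUnramified B (B ⧸ J) :=
    Algebra.FormallyUnramified.of_surjective (Algebra.ofId B (B ⧸ J)) Ideal.Quotient.mk_surjective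
  have : Algebra.FormallyUnramified P (B ⧸ J) := Algebra.FormallyUnramified.comp P B (B ⧸ J)
  have : Algebra.FormallyUnramified A (B ⧸ J) := Algebra.FormallyUnramified.of_restrictScalars P A (B ⧸ J)
  have : Algebra.FinitePresentation A B := Algebra.FinitePresentation.trans A P B
  have : Algebra.FinitePresentation A (B ⧸ J) :=
    Algebra.FinitePresentation.quotient (Submodule.fg_span (Set.finite_range x))
  let ρ : (B ⧸ J) →ₐ[A] A := Ideal.Quotient.liftₐ J π (fun b hb => hJ hb)
  obtain ⟨e₀, he₀, hker⟩ := exists_idempotent_of_section ρ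
  obtain ⟨e', rfl⟩ := Ideal.Quotient.mk_surjective e₀
  have hπe : π e' = 0 := by
    have : ρ (Ideal.Quotient.mk J e') = 0 := by
      rw [← RingHom.mem_ker, hker]
      exact Ideal.mem_span_singleton_self _
    exact this
  have hmul : ∀ b ∈ RingHom.ker π, (1 - e') * b ∈ J := by
    intro b hb
    have h1 : Ideal.Quotient.mk J b ∈ RingHom.ker ρ := hb
    rw [hker, Ideal.mem_span_singleton'] at h1
    obtain ⟨c, hc⟩ := h1
    rw [← Ideal.Quotient.eq_zero_iff_mem, map_mul, ← hc, map_sub, map_one]
    have : (1 - Ideal.Quotient.mk J e') * (c * Ideal.Quotient.mk J e') =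
      c * (Ideal.Quotient.mk J e' - Ideal.Quotient.mk J e' * Ideal.Quotient.mk J e') := by ring
    rw [this, he₀.eq, sub_self, mul_zero]
  have hlist : Ideal.ofList (List.ofFn x) = J := by
    unfold Ideal.ofList
    congr 1
    ext y
    simp [List.mem_ofFn]
  refine ⟨1 - e', List.ofFn x, by rw [map_sub, map_one, hπe, sub_zero], ?_, ?_⟩
  · intro y hy
    obtain ⟨i, rfl⟩ := List.mem_ofFn.1 hy
    exact hx i
  · intro Bg _ _ S _ hc
    refine ⟨?_, ?_⟩
    · let _ : Algebra P Bg := ((algebraMap B Bg).comp (algebraMap P B)).toAlgebra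
      have : IsScalarTower P B Bg := IsScalarTower.of_algebraMap_eq' rfl
      have : Module.Flat B Bg := IsLocalization.flat Bg S
      have : Module.Flat P Bg := Module.Flat.trans P B Bg
      have := IsWeaklyRegular.of_flat (S := Bg) (isWeaklyRegular_X A n)
      rw [List.map_ofFn] at this ⊢
      exact this
    · rw [← Ideal.map_ofList, hlist]
      refine le_antisymm ?_ (Ideal.map_mono hJ)
      rw [Ideal.map_le_iff_le_comap]
      intro b hb
      have h1 := Ideal.mem_map_of_mem (algebraMap B Bg) (hmul b hb)
      rw [map_mul] at h1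
      exact (Ideal.unit_mul_mem_iff_mem _ (IsLocalization.map_units Bg (⟨_, hc⟩ : S))).1 h1

end

section

variable {A B : Type u} [CommRing A] [CommRing B] [Algebra A B]

/-- The ideal of a section of a standard smooth algebra is generated by a weakly regular sequence after inverting an
element which is `1` on the section. -/
theorem exists_regular_of_isStandardSmooth_of_section (h : (algebraMap A B).IsStandardSmooth) (π : B →ₐ[A] A) :
    ∃ (c : B) (l : List B), π c = 1 ∧ (∀ x ∈ l, π x = 0) ∧ ∀ (Bg : Type w) [CommRing Bg] [Algebra B Bg]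
      (S : Submonoid B) [IsLocalization S Bg], c ∈ S →
      IsWeaklyRegular Bg (l.map (algebraMap B Bg)) ∧
        (RingHom.ker π).map (algebraMap B Bg) = Ideal.ofList (l.map (algebraMap B Bg)) := by
  obtain ⟨n, g, hgC, hg⟩ := RingHom.IsStandardSmooth.exists_etale_mvPolynomial h
  let g' : MvPolynomial (Fin n) A →ₐ[A] B := ⟨g, fun a => DFunLike.congr_fun hgC a⟩
  exact exists_regular_of_etale_of_section n g' hg π

end

end Groth.Agent.Flat2H.SmoothSection
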