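import Mathlib.RingTheory.Finiteness.Projective
import Mathlib.RingTheory.Finiteness.Prod
import Mathlib.RingTheory.Finiteness.Descent
import Mathlib.RingTheory.Flat.Basic
import Mathlib.RingTheory.Flat.Localization
import Mathlib.RingTheory.Flat.FaithfullyFlat.Descent
import Mathlib.LinearAlgebra.FreeModule.Basic
import Mathlib.LinearAlgebra.Basis.VectorSpace
import Mathlib.Algebra.Module.Projective
import Mathlib.RingTheory.Noetherian.Basic

/-!
# Elementary calculus of modules of type FP_n

`FPn A n M`: there is an exact sequence `F_n → ⋯ → F_0 → M → 0` with `F_i` finite free.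
`FPInf A M`: `FPn A n M` for all `n`.
-/

set_option autoImplicit false
universe u

namespace Groth.Agent.Flat2H

open TensorProduct

/-- `M` has a partial resolution of length `n` by finite free modules. -/
def FPn (A : Type u) [CommRing A] : ℕ → ∀ (M : Type u) [AddCommGroup M] [Module A M], Prop
  | 0, M, _, _ => Module.Finite A M
  | n + 1, M, _, _ => ∃ (k : ℕ) (f : (Fin k → A) →ₗ[A] M), Function.Surjective f ∧
      FPn A n (LinearMap.ker f)

/-- `M` has partial resolutions of every length by finite free modules (equivalently `M` is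
pseudo-coherent). -/
def FPInf (A : Type u) [CommRing A] (M : Type u) [AddCommGroup M] [Module A M] : Prop :=
  ∀ n, FPn A n M

variable {A : Type u} [CommRing A]

section basic

variable {M N : Type u} [AddCommGroup M] [Module A M] [AddCommGroup N] [Module A N]

theorem FPn.zero_iff : FPn A 0 M ↔ Module.Finite A M := Iff.rfl

theorem FPn.succ_iff {n : ℕ} : FPn A (n + 1) M ↔
    ∃ (k : ℕ) (f : (Fin k → A) →ₗ[A] M), Function.Surjective f ∧ FPn A n (LinearMap.ker f) := Iff.rfl

theorem FPn.finite {n : ℕ} (h : FPn A n M) : Module.Finite A M := by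
  cases n with
  | zero => exact h
  | succ n => obtain ⟨k, f, hf, -⟩ := h; exact Module.Finite.of_surjective f hf

theorem FPn.of_equiv {n : ℕ} (h : FPn A n M) (e : M ≃ₗ[A] N) : FPn A n N := by
  cases n with
  | zero =>
    have : Module.Finite A M := h
    exact Module.Finite.equiv e
  | succ n =>
    obtain ⟨k, f, hf, h⟩ := h
    refine ⟨k, e.toLinearMap ∘ₗ f, e.surjective.comp hf, ?_⟩
    have : LinearMap.ker (e.toLinearMap ∘ₗ f) = LinearMap.ker f := by
      ext x; simp
    rw [this]
    exact h

theorem FPn.equiv_iff {n : ℕ} (e : M ≃ₗ[A] N) : FPn A n M ↔ FPn A n N :=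
  ⟨fun h => h.of_equiv e, fun h => h.of_equiv e.symm⟩

theorem FPn.of_succ {n : ℕ} (h : FPn A (n + 1) M) : FPn A n M := by
  induction n generalizing M with
  | zero => exact h.finite
  | succ n ih =>
    obtain ⟨k, f, hf, h⟩ := h
    exact ⟨k, f, hf, ih h⟩

theorem FPn.mono {n m : ℕ} (hmn : m ≤ n) (h : FPn A n M) : FPn A m M := by
  induction hmn with
  | refl => exact h
  | step _ ih => exact ih h.of_succ

theorem FPInf.fpn (h : FPInf A M) (n : ℕ) : FPn A n M := h n

theorem FPInf.finite (h : FPInf A M) : Module.Finite A M := (h 0).finite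

theorem FPInf.of_equiv (h : FPInf A M) (e : M ≃ₗ[A] N) : FPInf A N := fun n => (h n).of_equiv e

/-- The kernel of a surjection of the form `P × Q → M'`... auxiliary: a split extension. -/
theorem ker_prodMap_equiv {M' N' : Type u} [AddCommGroup M'] [Module A M'] [AddCommGroup N'] [Module A N']
    (f : M →ₗ[A] M') (g : N →ₗ[A] N') :
    Nonempty (LinearMap.ker (f.prodMap g) ≃ₗ[A] (LinearMap.ker f × LinearMap.ker g)) := by
  refine ⟨LinearEquiv.ofLinearMap
    (LinearMap.prod
      (((LinearMap.fst A M N).comp (LinearMap.ker (f.prodMap g)).subtype).codRestrict (LinearMap.ker f) ?_)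
      (((LinearMap.snd A M N).comp (LinearMap.ker (f.prodMap g)).subtype).codRestrict (LinearMap.ker g) ?_))
    ((((LinearMap.ker f).subtype).prodMap (LinearMap.ker g).subtype).codRestrict _ ?_) ?_ ?_⟩
  · rintro ⟨⟨x, y⟩, h⟩
    simp only [LinearMap.mem_ker, LinearMap.prodMap_apply, Prod.mk_eq_zero] at h
    simpa using h.1
  · rintro ⟨⟨x, y⟩, h⟩
    simp only [LinearMap.mem_ker, LinearMap.prodMap_apply, Prod.mk_eq_zero] at h
    simpa using h.2
  · rintro ⟨⟨x, hx⟩, ⟨y, hy⟩⟩
    simp only [LinearMap.mem_ker] at hx hy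
    simp [hx, hy]
  · ext <;> simp
  · ext <;> simp

end basic

theorem FPn.of_subsingleton (n : ℕ) (M : Type u) [AddCommGroup M] [Module A M] [Subsingleton M] :
    FPn A n M := by
  induction n generalizing M with
  | zero => exact (inferInstance : Module.Finite A M)
  | succ n ih =>
    exact ⟨0, 0, fun x => ⟨0, Subsingleton.elim _ _⟩, ih _⟩

section pi

variable {M F : Type u} [AddCommGroup M] [Module A M] [AddCommGroup F] [Module A F]

/-- finite free modules. -/
theorem FPn.pi (n k : ℕ) : FPn A n (Fin k → A) := by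
  cases n with
  | zero => exact (inferInstance : Module.Finite A (Fin k → A))
  | succ n =>
    refine ⟨k, LinearMap.id, Function.surjective_id, ?_⟩
    rw [LinearMap.ker_id]
    exact FPn.of_subsingleton _ _

theorem FPn.of_equiv_pi {ι : Type*} [Finite ι] (n : ℕ) (e : F ≃ₗ[A] (ι → A)) : FPn A n F := by
  obtain ⟨k, ⟨i⟩⟩ := Finite.exists_equiv_fin ι
  exact (FPn.pi n k).of_equiv (e.trans (LinearEquiv.funCongrLeft A A i.symm)).symm

/-- `FPn (n+1)` may be checked with a surjection from any finite free module. -/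
theorem FPn.succ_of_equiv_pi {ι : Type*} [Finite ι] {n : ℕ} (e : F ≃ₗ[A] (ι → A)) (f : F →ₗ[A] M)
    (hf : Function.Surjective f) (h : FPn A n (LinearMap.ker f)) : FPn A (n + 1) M := by
  obtain ⟨k, ⟨i⟩⟩ := Finite.exists_equiv_fin ι
  let e' : F ≃ₗ[A] (Fin k → A) := e.trans (LinearEquiv.funCongrLeft A A i.symm)
  refine ⟨k, f ∘ₗ e'.symm.toLinearMap, hf.comp e'.symm.surjective, h.of_equiv ?_⟩
  refine (e'.submoduleMap (LinearMap.ker f)).trans (LinearEquiv.ofEq _ _ ?_)
  ext x
  simp only [Submodule.mem_map, LinearMap.mem_ker, LinearMap.coe_comp, Function.comp_apply]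
  constructor
  · rintro ⟨y, hy, rfl⟩; simpa using hy
  · intro hx; exact ⟨e'.symm x, hx, by simp⟩

end pi

section exact

variable {M' M M'' : Type u} [AddCommGroup M'] [Module A M'] [AddCommGroup M] [Module A M]
  [AddCommGroup M''] [Module A M'']

/-- horseshoe -/
theorem FPn.ext {n : ℕ} (f : M' →ₗ[A] M) (g : M →ₗ[A] M'') (hf : Function.Injective f)
    (hg : Function.Surjective g) (hfg : Function.Exact f g) (h' : FPn A n M') (h'' : FPn A n M'') :
    FPn A n M := by
  induction n generalizing M' M M'' with
  | zero =>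
    have h1 : Module.Finite A M' := h'
    have h2 : Module.Finite A M'' := h''
    have : Module.Finite A (M ⧸ LinearMap.range f) :=
      Module.Finite.equiv (hfg.linearEquivOfSurjective hg).symm
    exact Module.Finite.of_submodule_quotient (LinearMap.range f)
  | succ n ih =>
    obtain ⟨k, p, hp, hkp⟩ := h'
    obtain ⟨l, q, hq, hkq⟩ := h''
    obtain ⟨q', hq'⟩ := Module.projective_lifting_property g q hg
    have hq'2 : ∀ x, g (q' x) = q x := fun x => LinearMap.congr_fun hq' x
    have hgf : ∀ x, g (f x) = 0 := fun x => hfg.apply_apply_eq_zero x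
    let r : ((Fin k → A) × (Fin l → A)) →ₗ[A] M := (f ∘ₗ p).coprod q'
    have hr : Function.Surjective r := by
      intro m
      obtain ⟨y, hy⟩ := hq (g m)
      have : g (m - q' y) = 0 := by rw [map_sub, hq'2, hy, sub_self]
      obtain ⟨x', hx'⟩ := (hfg _).1 this
      obtain ⟨x, rfl⟩ := hp x'
      refine ⟨(x, y), ?_⟩
      simp [r, hx']
    refine FPn.succ_of_equiv_pi (LinearEquiv.sumArrowLequivProdArrow (Fin k) (Fin l) A A).symm r hr ?_
    -- exact sequence of kernels
    have hrel : ∀ z : (Fin k → A) × (Fin l → A), r z = f (p z.1) + q' z.2 := fun z => rfl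
    let a : LinearMap.ker p →ₗ[A] LinearMap.ker r :=
      (LinearMap.inl A _ _ ∘ₗ (LinearMap.ker p).subtype).codRestrict _ (by
        rintro ⟨x, hx⟩
        simp only [LinearMap.mem_ker] at hx ⊢
        simp [hrel, hx])
    let b : LinearMap.ker r →ₗ[A] LinearMap.ker q :=
      (LinearMap.snd A _ _ ∘ₗ (LinearMap.ker r).subtype).codRestrict _ (by
        rintro ⟨x, hx⟩
        simp only [LinearMap.mem_ker] at hx ⊢
        have := congrArg g hx
        rw [hrel, map_add, hgf, zero_add, hq'2, map_zero] at this
        simpa using this)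
    refine ih a b ?_ ?_ ?_ hkp hkq
    · intro x y hxy
      have := congrArg (fun z : LinearMap.ker r => z.1.1) hxy
      exact Subtype.ext this
    · rintro ⟨y, hy⟩
      have : g (q' y) = 0 := by rw [hq'2]; exact hy
      obtain ⟨x', hx'⟩ := (hfg _).1 this
      obtain ⟨x, hx⟩ := hp (-x')
      refine ⟨⟨(x, y), ?_⟩, ?_⟩
      · rw [LinearMap.mem_ker, hrel]
        simp [hx, hx']
      · rfl
    · rintro ⟨⟨x, y⟩, hxy⟩
      constructor
      · intro h
        have hy : y = 0 := congrArg Subtype.val h
        subst hy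
        refine ⟨⟨x, ?_⟩, ?_⟩
        · rw [LinearMap.mem_ker, hrel] at hxy
          rw [LinearMap.mem_ker]
          apply hf
          simpa using hxy
        · rfl
      · rintro ⟨z, hz⟩
        rw [← hz]
        rfl

theorem FPn.prod {n : ℕ} (h : FPn A n M) (h' : FPn A n M') : FPn A n (M × M') :=
  FPn.ext (LinearMap.inl A M M') (LinearMap.snd A M M') LinearMap.inl_injective
    LinearMap.snd_surjective Function.Exact.inl_snd h h'

/-- finite projective modules are `FPn` for all `n`. -/
theorem FPn.of_projective (n : ℕ) (P : Type u) [AddCommGroup P] [Module A P] [Module.Finite A P]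
    [Module.Projective A P] : FPn A n P := by
  induction n generalizing P with
  | zero => exact (inferInstance : Module.Finite A P)
  | succ n ih =>
    obtain ⟨k, f, hf⟩ := Module.Finite.exists_fin' A P
    obtain ⟨s, hs⟩ := Module.projective_lifting_property f LinearMap.id hf
    have hmem : ∀ x, (LinearMap.id - s ∘ₗ f : (Fin k → A) →ₗ[A] (Fin k → A)) x ∈ LinearMap.ker f := by
      intro x
      have := LinearMap.congr_fun hs (f x)
      simp only [LinearMap.coe_comp, Function.comp_apply, LinearMap.id_apply] at this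
      simp [LinearMap.mem_ker, this]
    have hret : ∀ x : LinearMap.ker f,
        ((LinearMap.id - s ∘ₗ f).codRestrict (LinearMap.ker f) hmem) x.1 = x := by
      rintro ⟨x, hx⟩
      simp only [LinearMap.mem_ker] at hx
      ext1
      simp [hx]
    have : Module.Projective A (LinearMap.ker f) :=
      Module.Projective.of_split (LinearMap.ker f).subtype
        ((LinearMap.id - s ∘ₗ f).codRestrict _ hmem) (LinearMap.ext fun x => hret x)
    have : Module.Finite A (LinearMap.ker f) :=
      Module.Finite.of_surjective ((LinearMap.id - s ∘ₗ f).codRestrict (LinearMap.ker f) hmem)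
        fun x => ⟨x.1, hret x⟩
    exact ⟨k, f, hf, ih _⟩

/-- direct summand with finite projective complement -/
theorem FPn.of_prod_projective {n : ℕ} {P : Type u} [AddCommGroup P] [Module A P] [Module.Finite A P]
    [Module.Projective A P] (h : FPn A n (M × P)) : FPn A n M := by
  cases n with
  | zero =>
    have : Module.Finite A (M × P) := h
    exact Module.Finite.of_surjective (LinearMap.fst A M P) (LinearMap.fst_surjective (R := A))
  | succ n =>
    obtain ⟨k, f, hf, hk⟩ := h
    refine ⟨k, LinearMap.fst A M P ∘ₗ f, (LinearMap.fst_surjective (R := A)).comp hf, ?_⟩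
    -- 0 → ker f → ker (fst ∘ f) → P → 0
    let a : LinearMap.ker f →ₗ[A] LinearMap.ker (LinearMap.fst A M P ∘ₗ f) :=
      Submodule.inclusion (by
        intro x hx
        simp only [LinearMap.mem_ker] at hx ⊢
        simp [hx])
    let b : LinearMap.ker (LinearMap.fst A M P ∘ₗ f) →ₗ[A] P :=
      LinearMap.snd A M P ∘ₗ f ∘ₗ Submodule.subtype _
    refine FPn.ext a b (Submodule.inclusion_injective _) ?_ ?_ hk (FPn.of_projective n P)
    · intro p
      obtain ⟨x, hx⟩ := hf (0, p)
      exact ⟨⟨x, by simp [LinearMap.mem_ker, hx]⟩, by simp [b, hx]⟩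
    · rintro ⟨x, hx⟩
      constructor
      · intro h
        refine ⟨⟨x, ?_⟩, rfl⟩
        rw [LinearMap.mem_ker] at hx ⊢
        exact Prod.ext hx h
      · rintro ⟨⟨y, hy⟩, hyx⟩
        have : y = x := congrArg Subtype.val hyx
        subst this
        simp only [LinearMap.mem_ker] at hy
        simp [b, hy]

/-- Kernel: `M''` is `FPn (n+1)`, `M` is `FPn n` ⟹ `M'` is `FPn n`. -/
theorem FPn.left {n : ℕ} (f : M' →ₗ[A] M) (g : M →ₗ[A] M'') (hf : Function.Injective f)
    (hg : Function.Surjective g) (hfg : Function.Exact f g) (h : FPn A n M)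
    (h'' : FPn A (n + 1) M'') : FPn A n M' := by
  obtain ⟨k, q, hq, hkq⟩ := h''
  obtain ⟨q', hq'⟩ := Module.projective_lifting_property g q hg
  have hq'2 : ∀ x, g (q' x) = q x := fun x => LinearMap.congr_fun hq' x
  have hgf : ∀ x, g (f x) = 0 := fun x => hfg.apply_apply_eq_zero x
  -- 0 → ker q → M' × A^k → M → 0
  let r : (M' × (Fin k → A)) →ₗ[A] M := f.coprod q'
  have hrel : ∀ z : M' × (Fin k → A), r z = f z.1 + q' z.2 := fun z => rfl
  have hr : Function.Surjective r := by
    intro m
    obtain ⟨y, hy⟩ := hq (g m)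
    have : g (m - q' y) = 0 := by rw [map_sub, hq'2, hy, sub_self]
    obtain ⟨x', hx'⟩ := (hfg _).1 this
    exact ⟨(x', y), by simp [hrel, hx']⟩
  let b : LinearMap.ker r →ₗ[A] LinearMap.ker q :=
    (LinearMap.snd A _ _ ∘ₗ (LinearMap.ker r).subtype).codRestrict _ (by
      rintro ⟨x, hx⟩
      simp only [LinearMap.mem_ker] at hx ⊢
      have := congrArg g hx
      rw [hrel, map_add, hgf, zero_add, hq'2, map_zero] at this
      simpa using this)
  have hb : Function.Bijective b := by
    constructor
    · rw [← LinearMap.ker_eq_bot, LinearMap.ker_eq_bot']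
      rintro ⟨⟨x, y⟩, hxy⟩ h
      have hy : y = 0 := congrArg Subtype.val h
      subst hy
      rw [LinearMap.mem_ker, hrel] at hxy
      have : x = 0 := hf (by simpa using hxy)
      subst this
      rfl
    · rintro ⟨y, hy⟩
      have : g (q' y) = 0 := by rw [hq'2]; exact hy
      obtain ⟨x', hx'⟩ := (hfg _).1 this
      refine ⟨⟨(-x', y), ?_⟩, rfl⟩
      rw [LinearMap.mem_ker, hrel]
      simp [hx']
  have hker : FPn A n (LinearMap.ker r) := hkq.of_equiv (LinearEquiv.ofBijective b hb).symm
  have : FPn A n (M' × (Fin k → A)) :=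
    FPn.ext (LinearMap.ker r).subtype r (Submodule.subtype_injective _) hr
      (by intro x; simp) hker h
  exact this.of_prod_projective

/-- Quotient: `M` is `FPn (n+1)`, `M'` is `FPn n` ⟹ `M''` is `FPn (n+1)`. -/
theorem FPn.right {n : ℕ} (f : M' →ₗ[A] M) (g : M →ₗ[A] M'') (hf : Function.Injective f)
    (hg : Function.Surjective g) (hfg : Function.Exact f g) (h' : FPn A n M')
    (h : FPn A (n + 1) M) : FPn A (n + 1) M'' := by
  obtain ⟨k, p, hp, hkp⟩ := h
  have hgf : ∀ x, g (f x) = 0 := fun x => hfg.apply_apply_eq_zero x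
  refine ⟨k, g ∘ₗ p, hg.comp hp, ?_⟩
  -- 0 → ker p → ker (g ∘ p) → M' → 0
  have key : ∀ x : LinearMap.ker (g ∘ₗ p), ∃ y, f y = p x.1 := fun x => (hfg _).1 x.2
  let b : LinearMap.ker (g ∘ₗ p) →ₗ[A] M' :=
    (LinearEquiv.ofInjective f hf).symm.toLinearMap ∘ₗ
      ((p ∘ₗ Submodule.subtype _).codRestrict (LinearMap.range f) (fun x => key x))
  have hb : ∀ x, f (b x) = p x.1 := by
    intro x
    have := LinearEquiv.apply_symm_apply (LinearEquiv.ofInjective f hf)
      (((p ∘ₗ Submodule.subtype _).codRestrict (LinearMap.range f) (fun x => key x)) x)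
    exact congrArg Subtype.val this
  let a : LinearMap.ker p →ₗ[A] LinearMap.ker (g ∘ₗ p) :=
    Submodule.inclusion (by intro x hx; simp only [LinearMap.mem_ker] at hx ⊢; simp [hx])
  refine FPn.ext a b (Submodule.inclusion_injective _) ?_ ?_ hkp h'
  · intro y
    obtain ⟨x, hx⟩ := hp (f y)
    refine ⟨⟨x, by simp [LinearMap.mem_ker, hx, hgf]⟩, hf ?_⟩
    rw [hb]
    exact hx
  · rintro ⟨x, hx⟩
    constructor
    · intro h
      refine ⟨⟨x, ?_⟩, rfl⟩
      have := hb ⟨x, hx⟩
      rw [h, map_zero] at this
      exact this.symm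
    · rintro ⟨⟨y, hy⟩, hyx⟩
      have : y = x := congrArg Subtype.val hyx
      subst this
      apply hf
      rw [hb, map_zero]
      exact hy

theorem FPn.right_zero (g : M →ₗ[A] M'') (hg : Function.Surjective g) (h : FPn A 0 M) : FPn A 0 M'' := by
  have : Module.Finite A M := h
  exact Module.Finite.of_surjective g hg

theorem FPInf.ext (f : M' →ₗ[A] M) (g : M →ₗ[A] M'') (hf : Function.Injective f)
    (hg : Function.Surjective g) (hfg : Function.Exact f g) (h' : FPInf A M') (h'' : FPInf A M'') :
    FPInf A M := fun n => FPn.ext f g hf hg hfg (h' n) (h'' n)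

theorem FPInf.left (f : M' →ₗ[A] M) (g : M →ₗ[A] M'') (hf : Function.Injective f)
    (hg : Function.Surjective g) (hfg : Function.Exact f g) (h : FPInf A M) (h'' : FPInf A M'') :
    FPInf A M' := fun n => FPn.left f g hf hg hfg (h n) (h'' (n + 1))

theorem FPInf.right (f : M' →ₗ[A] M) (g : M →ₗ[A] M'') (hf : Function.Injective f)
    (hg : Function.Surjective g) (hfg : Function.Exact f g) (h' : FPInf A M') (h : FPInf A M) :
    FPInf A M'' := fun n => by
  cases n with
  | zero => exact FPn.right_zero g hg (h 0)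
  | succ n => exact FPn.right f g hf hg hfg (h' n) (h (n + 1))

theorem FPInf.of_projective (P : Type u) [AddCommGroup P] [Module A P] [Module.Finite A P]
    [Module.Projective A P] : FPInf A P := fun n => FPn.of_projective n P

/-- Schanuel: the kernel of any surjection from an `FPn n` module onto an `FPn (n+1)` module is `FPn n`. -/
theorem FPn.ker {n : ℕ} (g : M →ₗ[A] M'') (hg : Function.Surjective g) (h : FPn A n M)
    (h'' : FPn A (n + 1) M'') : FPn A n (LinearMap.ker g) :=
  FPn.left (LinearMap.ker g).subtype g (Submodule.subtype_injective _) hg (by intro x; simp) h h''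

theorem FPInf.ker (g : M →ₗ[A] M'') (hg : Function.Surjective g) (h : FPInf A M)
    (h'' : FPInf A M'') : FPInf A (LinearMap.ker g) := fun n => FPn.ker g hg (h n) (h'' (n + 1))

theorem FPn.of_ker {n : ℕ} (g : M →ₗ[A] M'') (hg : Function.Surjective g) (h : FPn A (n + 1) M)
    (h' : FPn A n (LinearMap.ker g)) : FPn A (n + 1) M'' :=
  FPn.right (LinearMap.ker g).subtype g (Submodule.subtype_injective _) hg (by intro x; simp) h' h

theorem FPInf.of_ker (g : M →ₗ[A] M'') (hg : Function.Surjective g) (h : FPInf A M)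
    (h' : FPInf A (LinearMap.ker g)) : FPInf A M'' :=
  FPInf.right (LinearMap.ker g).subtype g (Submodule.subtype_injective _) hg (by intro x; simp) h' h

/-- `FPn (n+1)` iff finite and the kernel of every surjection from a finite projective is `FPn n`. -/
theorem FPn.succ_iff_forall {n : ℕ} : FPn A (n + 1) M ↔ Module.Finite A M ∧
    ∀ (k : ℕ) (f : (Fin k → A) →ₗ[A] M), Function.Surjective f → FPn A n (LinearMap.ker f) := by
  constructor
  · intro h
    exact ⟨h.finite, fun k f hf => FPn.ker f hf (FPn.pi n k) h⟩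
  · rintro ⟨h, h'⟩
    obtain ⟨k, f, hf⟩ := Module.Finite.exists_fin' A M
    exact ⟨k, f, hf, h' k f hf⟩

end exact

/-- Over a Noetherian ring, finite modules are `FPInf`. -/
theorem FPInf.of_isNoetherianRing [IsNoetherianRing A] (M : Type u) [AddCommGroup M] [Module A M]
    [Module.Finite A M] : FPInf A M := by
  intro n
  induction n generalizing M with
  | zero => exact (inferInstance : Module.Finite A M)
  | succ n ih =>
    obtain ⟨k, f, hf⟩ := Module.Finite.exists_fin' A M
    exact ⟨k, f, hf, ih _⟩

end Groth.Agent.Flat2H
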