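import Groth.Agent.Flat2H.PCModule
import Groth.Agent.Flat2H.FPInf

/-!
# Bridge: `DRing.IsPseudoCoherentModule' A M ↔ FPInf A M`
-/

set_option autoImplicit false
universe u

attribute [local instance] HasDerivedCategory.standard

namespace Groth.Agent.Flat2H.PCBridge

open Groth.Agent.Flat2H.FPn Groth.Agent.Flat2H

variable {A : Type u} [CommRing A]

theorem fp_iff_fpn (n : ℕ) : ∀ (M : Type u) [AddCommGroup M] [Module A M],
    FP A n M ↔ FPn A n M := by
  induction n with
  | zero => intro M _ _; exact Iff.rfl
  | succ n ih =>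
    intro M _ _
    constructor
    · rintro ⟨k, f, hf, h⟩
      exact ⟨k, f, hf, (ih _).1 h⟩
    · rintro ⟨k, f, hf, h⟩
      exact ⟨k, f, hf, (ih _).2 h⟩

theorem pc_iff_fpInf (M : Type u) [AddCommGroup M] [Module A M] : PC A M ↔ FPInf A M :=
  forall_congr' fun n => fp_iff_fpn n M

/-- A module is pseudo-coherent in the derived sense iff it is of type `FP_n` for all `n`. -/
theorem isPseudoCoherentModule'_iff (M : Type u) [AddCommGroup M] [Module A M] :
    DRing.IsPseudoCoherentModule' A M ↔ FPInf A M :=
  (PCModule.isPseudoCoherentModule'_iff_pc M).trans (pc_iff_fpInf M)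

theorem fpInf_of_isPerfectModule (M : Type u) [AddCommGroup M] [Module A M]
    (h : DRing.IsPerfectModule A M) : FPInf A M :=
  (pc_iff_fpInf M).1 (PCModule.pc_of_isPerfectModule M h)

end Groth.Agent.Flat2H.PCBridge
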