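import Groth.Agent.Flat2H.KoszulReg
import Groth.Agent.Flat2H.TorDim
import Groth.Agent.Flat2H.PCBridge
import Mathlib.Algebra.Homology.ShortComplex.ModuleCat

/-!
# The Koszul resolution of `A/(l)` for a Koszul-regular sequence `l`
-/

set_option autoImplicit false

universe w v u

open CategoryTheory Category Limits CochainComplex CochainComplex.HomComplex CochainComplex.mappingCone
open Groth.Agent.Flat2H.KoszulBasic Groth.Agent.Flat2H.KoszulReg Groth.Agent.Flat2H.TorDim
open scoped Pointwise

namespace Groth.Agent.Flat2H.KoszulRes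

variable {A : Type u} [CommRing A]

/-- The terms of a mapping cone of complexes of modules. -/
noncomputable def mappingConeXEquiv {K L : CochainComplex (ModuleCat.{u} A) ℤ} (φ : K ⟶ L) (i j : ℤ)
    (hij : i + 1 = j) :
    ((mappingCone φ).X i : Type u) ≃ₗ[A] Prod (K.X j : Type u) (L.X i : Type u) :=
  LinearEquiv.ofLinearMap
    (((fst φ).1.v i j hij).hom.prod ((snd φ).v i i (add_zero i)).hom)
    (((inl φ).v j i (by omega)).hom.coprod ((inr φ).f i).hom)
    (by
      apply LinearMap.ext
      rintro ⟨a, b⟩
      have h1 := congrArg (fun f => f.hom a) (inl_v_fst_v φ j i hij)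
      have h2 := congrArg (fun f => f.hom a) (inl_v_snd_v φ j i (by omega))
      have h3 := congrArg (fun f => f.hom b) (inr_f_fst_v φ i j hij)
      have h4 := congrArg (fun f => f.hom b) (inr_f_snd_v φ i)
      simp only [ModuleCat.hom_comp, LinearMap.comp_apply, ModuleCat.hom_id, LinearMap.id_apply,
        ModuleCat.hom_zero, LinearMap.zero_apply] at h1 h2 h3 h4
      refine Prod.ext ?_ ?_
      · simp [h1, h3]
      · simp [h2, h4])
    (by
      apply LinearMap.ext
      intro x
      have h := congrArg (fun f => f.hom x) (id_X φ i j hij)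
      simpa using h)

lemma free_kos_X (l : List A) (K : CochainComplex (ModuleCat.{u} A) ℤ)
    (hK : ∀ i, Module.Free A (K.X i)) (i : ℤ) : Module.Free A ((kos l K).X i) := by
  induction l generalizing i with
  | nil => exact hK i
  | cons f l ih =>
    have := ih i
    have := ih (i + 1)
    exact Module.Free.of_equiv (mappingConeXEquiv (f • 𝟙 (kos l K)) i (i + 1) rfl).symm

lemma finite_kos_X (l : List A) (K : CochainComplex (ModuleCat.{u} A) ℤ)
    (hK : ∀ i, Module.Finite A (K.X i)) (i : ℤ) : Module.Finite A ((kos l K).X i) := by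
  induction l generalizing i with
  | nil => exact hK i
  | cons f l ih =>
    have := ih i
    have := ih (i + 1)
    exact Module.Finite.equiv (mappingConeXEquiv (f • 𝟙 (kos l K)) i (i + 1) rfl).symm

lemma finite_free_sgl_X (M : ModuleCat.{u} A) [Module.Finite A M] [Module.Free A M] (i : ℤ) :
    Module.Finite A ((sgl M).X i) ∧ Module.Free A ((sgl M).X i) := by
  by_cases hi : i = 0
  · subst hi
    let e : ((sgl M).X 0 : Type u) ≃ₗ[A] M :=
      (HomologicalComplex.singleObjXSelf (ComplexShape.up ℤ) 0 M).toLinearEquiv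
    exact ⟨Module.Finite.equiv e.symm, Module.Free.of_equiv e.symm⟩
  · have h := isZero_sgl_X M i (by omega)
    rw [ModuleCat.isZero_iff_subsingleton] at h
    exact ⟨inferInstance, inferInstance⟩

lemma finite_free_koszul_X (l : List A) : DRing.TermwiseFiniteFree (Koszul.koszul A l) := by
  rw [koszul_eq_kos]
  exact fun i => ⟨finite_kos_X l _ (fun i => (finite_free_sgl_X _ i).1) i,
    free_kos_X l _ (fun i => (finite_free_sgl_X _ i).2) i⟩

lemma vanishesOutside_koszul (l : List A) :
    DRing.VanishesOutside (Koszul.koszul A l) (-l.length) 0 := by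
  rw [koszul_eq_kos]
  exact fun i hi => isZero_kos_sgl_X l _ i hi

section
attribute [local instance] HasDerivedCategory.standard

/-- For `l` Koszul-regular, the module `A/(l)` is perfect. -/
theorem isPerfectModule_quotient {l : List A} (h : LCI.IsKoszulRegularSeq A l) :
    DRing.IsPerfectModule A (A ⧸ Ideal.ofList l) := by
  refine ⟨Koszul.koszul A l, -l.length, 0, vanishesOutside_koszul l, fun i => ?_, ?_⟩
  · have := (finite_free_koszul_X l i).1
    have := (finite_free_koszul_X l i).2
    exact ⟨inferInstance, inferInstance⟩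
  · obtain ⟨e⟩ := nonempty_Q_kos_iso_of_kReg ((isKoszulRegularSeq_iff l).1 h)
    rw [koszul_eq_kos]
    refine ⟨e ≪≫ DerivedCategory.Q.mapIso ((CochainComplex.singleFunctor _ 0).mapIso
      (LinearEquiv.toModuleIso (Submodule.quotEquivOfEq (Ideal.ofList l • ⊤ : Submodule A A)
        (Ideal.ofList l) (by simp)))) ≪≫ ?_⟩
    exact ((DerivedCategory.singleFunctorIsoCompQ _ 0).app _).symm

end

/-- For `l` Koszul-regular, `A/(l)` is of type `FP_∞`. -/
theorem fpInf_quotient {l : List A} (h : LCI.IsKoszulRegularSeq A l) :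
    FPInf A (A ⧸ Ideal.ofList l) :=
  PCBridge.fpInf_of_isPerfectModule _ (isPerfectModule_quotient h)

lemma nonempty_homology_equiv_of_subsingleton (S : ShortComplex (ModuleCat.{u} A))
    (h : Subsingleton (S.X₃ : Type u)) :
    Nonempty ((S.homology : Type u) ≃ₗ[A] (S.X₂ ⧸ LinearMap.range S.f.hom)) := by
  have hk : LinearMap.ker S.g.hom = ⊤ := by
    ext x; simp [Subsingleton.elim (S.g.hom x) 0]
  let e1 : (S.homology : Type u) ≃ₗ[A] _ := S.moduleCatHomologyIso.toLinearEquiv
  let e2 : LinearMap.ker S.g.hom ≃ₗ[A] S.X₂ := LinearEquiv.ofTop _ hk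
  refine ⟨e1.trans (Submodule.Quotient.equiv _ _ e2 ?_)⟩
  ext x
  constructor
  · rintro ⟨y, ⟨z, rfl⟩, rfl⟩
    exact ⟨z, rfl⟩
  · rintro ⟨z, rfl⟩
    exact ⟨_, ⟨z, rfl⟩, rfl⟩

/-- Tor dimension of `H^0` of a bounded flat resolution. -/
theorem hasTorDimLE_homology_zero (K : CochainComplex (ModuleCat.{u} A) ℤ) (r : ℕ)
    (hflat : ∀ i, Module.Flat A (K.X i)) (hlow : ∀ i : ℤ, i < -r → IsZero (K.X i))
    (h1 : IsZero (K.X 1)) (hex : ∀ i : ℤ, i < 0 → K.ExactAt i) :
    DRing.HasTorDimLE A r (K.homology 0) := by
  have key : ∀ (j : ℕ) (i i' : ℤ), i = -r + j → i + 1 = i' → i < 0 →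
      DRing.HasTorDimLE A j (LinearMap.range (K.d i i').hom) := by
    intro j
    induction j with
    | zero =>
      intro i i' hi hi' hi0
      have hE := PCModule.exact_of_exactAt K (i - 1) i i' (by omega) hi' (hex i hi0)
      have hz := hlow (i - 1) (by omega)
      rw [ModuleCat.isZero_iff_subsingleton] at hz
      have hinj : Function.Injective (K.d i i').hom := by
        rw [← LinearMap.ker_eq_bot, hE.linearMap_ker_eq, LinearMap.range_eq_bot]
        ext x
        rw [Subsingleton.elim x 0, map_zero, map_zero]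
      have := hflat i
      exact HasTorDimLE.of_linearEquiv (LinearEquiv.ofInjective _ hinj) (HasTorDimLE.of_flat 0)
    | succ j ih =>
      intro i i' hi hi' hi0
      have hE := PCModule.exact_of_exactAt K (i - 1) i i' (by omega) hi' (hex i hi0)
      have hr := ih (i - 1) i (by push_cast at hi; omega) (by omega) (by omega)
      have := hflat i
      rw [hasTorDimLE_succ_iff_ker (K.d i i').hom.rangeRestrict (LinearMap.surjective_rangeRestrict _) j]
      refine HasTorDimLE.of_linearEquiv (LinearEquiv.ofEq _ _ ?_) hr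
      rw [LinearMap.ker_rangeRestrict, hE.linearMap_ker_eq]
  have h1' := h1
  rw [ModuleCat.isZero_iff_subsingleton] at h1'
  have hsub : Subsingleton ((K.sc' (-1) 0 1).X₃ : Type u) := h1'
  obtain ⟨e⟩ := nonempty_homology_equiv_of_subsingleton (K.sc' (-1) 0 1) hsub
  have e0 : (K.homology 0 : Type u) ≃ₗ[A] ((K.sc' (-1) 0 1).homology : Type u) :=
    (ShortComplex.homologyMapIso (K.isoSc' (-1) 0 1 (by simp) (by simp))).toLinearEquiv
  have e' := e0.trans e
  refine HasTorDimLE.of_linearEquiv e'.symm ?_
  have hX0 : Module.Flat A (K.X 0) := hflat 0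
  cases r with
  | zero =>
    have hz := hlow (-1) (by norm_num)
    rw [ModuleCat.isZero_iff_subsingleton] at hz
    have hb : LinearMap.range (K.d (-1) 0).hom = ⊥ := by
      rw [LinearMap.range_eq_bot]
      ext x
      rw [Subsingleton.elim x 0, map_zero, map_zero]
    exact HasTorDimLE.of_linearEquiv (Submodule.quotEquivOfEqBot _ hb).symm (HasTorDimLE.of_flat 0)
  | succ s =>
    have hs := key s (-1) 0 (by push_cast; omega) (by norm_num) (by norm_num)
    exact (hasTorDimLE_succ_iff (LinearMap.range (K.d (-1) 0).hom).subtype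
      (LinearMap.range (K.d (-1) 0).hom).mkQ (Submodule.subtype_injective _)
      (Submodule.mkQ_surjective _) (LinearMap.exact_subtype_mkQ _) s).2 hs

/-- For `l` Koszul-regular, `A/(l)` has tor dimension at most the length of `l`. -/
theorem hasTorDimLE_quotient {l : List A} (h : LCI.IsKoszulRegularSeq A l) :
    DRing.HasTorDimLE A l.length (A ⧸ Ideal.ofList l) := by
  have h' := (isKoszulRegularSeq_iff l).1 h
  obtain ⟨e⟩ := nonempty_homology_zero_equiv l (ModuleCat.of A A)
  have := hasTorDimLE_homology_zero (kos l (sgl (ModuleCat.of A A))) l.length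
    (fun i => by
      have := free_kos_X l (sgl (ModuleCat.of A A)) (fun i => (finite_free_sgl_X _ i).2) i
      infer_instance)
    (fun i hi => isZero_kos_sgl_X l _ i (Or.inl hi)) (isZero_kos_sgl_X l _ 1 (Or.inr one_pos))
    (fun i hi => by
      rw [HomologicalComplex.exactAt_iff_isZero_homology]
      exact h' i hi.ne)
  exact HasTorDimLE.of_linearEquiv (e.trans (Submodule.quotEquivOfEq (Ideal.ofList l • ⊤ : Submodule A A)
        (Ideal.ofList l) (by simp))) this

end Groth.Agent.Flat2H.KoszulRes
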