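import Mathlib.RingTheory.Regular.RegularSequence
import Mathlib.RingTheory.Regular.Flat
import Mathlib.RingTheory.Localization.Away.Basic
import Mathlib.RingTheory.Localization.AtPrime.Basic
import Mathlib.Algebra.Module.LocalizedModule.Submodule
import Mathlib.Algebra.Module.LocalizedModule.Exact

/-!
# Spreading out regular sequences

* `isWeaklyRegular_of_associated`: multiplying the members of a weakly regular sequence by units.
* `exists_isWeaklyRegular_away`: for a f.g. module over a Noetherian ring, weak regularity at a prime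
  spreads out to a basic open neighbourhood.
* `exists_away_generated_by_weaklyRegular`: if `I_p` is generated by a (weakly) regular sequence then so is `I_g`
  for some `g ∉ p`.
-/

set_option autoImplicit false

universe u v w

namespace Groth.Agent.Flat2H.RegSpread

open RingTheory.Sequence
open scoped Pointwise

section

variable {R : Type u} [CommRing R]

theorem isWeaklyRegular_of_associated {rs rs' : List R} (h : List.Forall₂ Associated rs rs') :
    ∀ {M : Type v} [AddCommGroup M] [Module R M], IsWeaklyRegular M rs → IsWeaklyRegular M rs' := by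
  induction h with
  | nil => intro M _ _ h; exact h
  | @cons a b l₁ l₂ hab hl ih =>
    intro M _ _ h
    rw [isWeaklyRegular_cons_iff] at h ⊢
    obtain ⟨u, rfl⟩ := hab
    have hs : (a * (u : R)) • (⊤ : Submodule R M) = a • ⊤ := by
      rw [mul_smul]
      congr 1
      ext x
      refine ⟨fun _ => trivial, fun _ => ?_⟩
      refine ⟨(↑u⁻¹ : R) • x, trivial, ?_⟩
      simp [smul_smul]
    refine ⟨?_, ?_⟩
    · have := h.1
      intro x y hxy
      apply this
      have h2 : ∀ z : M, (a * (u : R)) • z = (u : R) • (a • z) := by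
        intro z; rw [smul_smul, mul_comm]
      simp only [h2] at hxy
      exact (IsUnit.smul_left_cancel u.isUnit).1 hxy
    · have e : QuotSMulTop a M ≃ₗ[R] QuotSMulTop (a * (u : R)) M := Submodule.quotEquivOfEq _ _ hs.symm
      exact (LinearEquiv.isWeaklyRegular_congr e l₂).1 (ih h.2)

/-- Criterion in terms of elements for a localization: if `N` is a localization of `M` at `S`, then the sequence `rs`
is weakly regular on `N` iff for each `i` multiplication by `rs[i]` satisfies the cancellation property up to `S`. -/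
theorem isWeaklyRegular_localized_iff (S : Submonoid R) {M : Type v} {N : Type w} [AddCommGroup M] [Module R M]
    [AddCommGroup N] [Module R N] (f : M →ₗ[R] N) [IsLocalizedModule S f] (rs : List R) :
    IsWeaklyRegular N rs ↔
      ∀ (i : Fin rs.length) (x : M), rs[i] • x ∈ Ideal.ofList (rs.take i) • (⊤ : Submodule R M) →
        ∃ s ∈ S, s • x ∈ Ideal.ofList (rs.take i) • (⊤ : Submodule R M) := by
  rw [isWeaklyRegular_iff_Fin]
  refine forall_congr' fun i => ?_
  have key : ∀ (J : Ideal R) (x : M), f x ∈ J • (⊤ : Submodule R N) ↔ ∃ s ∈ S, s • x ∈ J • (⊤ : Submodule R M) := by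
    intro J x
    have hloc : J • (⊤ : Submodule R N) = Submodule.localized₀ S f (J • (⊤ : Submodule R M)) := by
      rw [Submodule.localized₀_smul, Submodule.localized₀_top]
    rw [hloc]
    constructor
    · rintro ⟨m, hm, s, hs⟩
      rw [IsLocalizedModule.mk'_eq_iff] at hs
      have : f m = f ((s : R) • x) := by rw [hs, map_smul]; rfl
      obtain ⟨c, hc⟩ := (IsLocalizedModule.eq_iff_exists S f).1 this
      refine ⟨(c : R) * s, S.mul_mem c.2 s.2, ?_⟩
      rw [mul_smul]
      have hc' : (c : R) • m = (c : R) • ((s : R) • x) := hc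
      rw [← hc']
      exact Submodule.smul_mem _ _ hm
    · rintro ⟨s, hs, hx⟩
      exact ⟨s • x, hx, ⟨s, hs⟩, by
        rw [IsLocalizedModule.mk'_eq_iff, map_smul]; rfl⟩
  rw [isSMulRegular_quotient_iff_mem_of_smul_mem]
  constructor
  · intro h x hx
    refine (key _ x).1 (h (f x) ?_)
    rw [← map_smul]
    exact (key _ _).2 ⟨1, S.one_mem, by simpa using hx⟩
  · intro h y hy
    obtain ⟨⟨m, s⟩, hms⟩ := IsLocalizedModule.mk'_surjective S f y
    have hms' : IsLocalizedModule.mk' f m s = y := hms
    rw [IsLocalizedModule.mk'_eq_iff] at hms'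
    have h1 : f (rs[i] • m) ∈ Ideal.ofList (rs.take i) • (⊤ : Submodule R N) := by
      rw [map_smul, hms']
      have : rs[i] • (s • y) = (s : R) • (rs[i] • y) := by
        rw [smul_comm]; rfl
      rw [this]
      exact Submodule.smul_mem _ _ hy
    obtain ⟨t, ht, htm⟩ := (key _ _).1 h1
    rw [smul_comm] at htm
    obtain ⟨t', ht', htm'⟩ := h _ htm
    have h2 : f m ∈ Ideal.ofList (rs.take i) • (⊤ : Submodule R N) :=
      (key _ _).2 ⟨t' * t, S.mul_mem ht' ht, by rw [mul_smul]; exact htm'⟩
    rw [hms'] at h2
    have h3 : y = IsLocalizedModule.mk' f m s := hms.symm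
    have hu := IsLocalizedModule.map_units f s
    rw [Module.End.isUnit_iff] at hu
    -- `y = s⁻¹ • (s • y)`
    have hloc : Ideal.ofList (rs.take i) • (⊤ : Submodule R N) =
        Submodule.localized₀ S f (Ideal.ofList (rs.take i) • (⊤ : Submodule R M)) := by
      rw [Submodule.localized₀_smul, Submodule.localized₀_top]
    have h2' : s • y ∈ Submodule.localized₀ S f (Ideal.ofList (rs.take i) • (⊤ : Submodule R M)) := by
      rw [← hloc]; exact h2
    rw [hloc]
    obtain ⟨m', hm', s', hs'⟩ := h2'
    refine ⟨m', hm', s' * s, ?_⟩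
    rw [IsLocalizedModule.mk'_eq_iff] at hs' ⊢
    rw [hs', mul_smul]

/-- Weak regularity of a sequence on a Noetherian module at a prime spreads out: there is `g ∉ p` such that the sequence
is weakly regular on every localization at a multiplicative set containing `g`. -/
theorem exists_isWeaklyRegular_of_mem (p : Ideal R) [p.IsPrime] {M : Type v} {N : Type w} [AddCommGroup M] [Module R M]
    [IsNoetherian R M] [AddCommGroup N] [Module R N] (f : M →ₗ[R] N) [IsLocalizedModule p.primeCompl f] (rs : List R)
    (h : IsWeaklyRegular N rs) :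
    ∃ g, g ∉ p ∧ ∀ (i : Fin rs.length) (x : M), rs[i] • x ∈ Ideal.ofList (rs.take i) • (⊤ : Submodule R M) →
        g • x ∈ Ideal.ofList (rs.take i) • (⊤ : Submodule R M) := by
  rw [isWeaklyRegular_localized_iff p.primeCompl f] at h
  have key : ∀ i : Fin rs.length, ∃ s, s ∉ p ∧ ∀ x : M, rs[i] • x ∈ Ideal.ofList (rs.take i) • (⊤ : Submodule R M) →
      s • x ∈ Ideal.ofList (rs.take i) • (⊤ : Submodule R M) := by
    intro i
    have hfg : ((Ideal.ofList (rs.take i) • (⊤ : Submodule R M)).comap (LinearMap.lsmul R M rs[i])).FG :=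
      IsNoetherian.noetherian _
    obtain ⟨t, ht⟩ := hfg
    have h1 : ∀ x : t, ∃ s ∈ p.primeCompl, s • (x : M) ∈ Ideal.ofList (rs.take i) • (⊤ : Submodule R M) := by
      intro x
      refine h i x ?_
      have : (x : M) ∈ Submodule.span R (t : Set M) := Submodule.subset_span x.2
      rw [ht] at this
      exact this
    choose s hs hsx using h1
    refine ⟨∏ x, s x, ?_, ?_⟩
    · exact Submonoid.prod_mem (S := p.primeCompl) fun x _ => hs x
    · intro x hx
      have hx' : x ∈ Submodule.span R (t : Set M) := by
        rw [ht]; exact hx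
      induction hx' using Submodule.span_induction with
      | mem x hxt =>
        classical
        rw [← Finset.mul_prod_erase Finset.univ s (Finset.mem_univ (⟨x, hxt⟩ : t)), mul_comm, mul_smul]
        exact Submodule.smul_mem _ _ (hsx ⟨x, hxt⟩)
      | zero => simp
      | add x y hxm hym hx1 hy1 =>
        rw [smul_add]
        have hmx : rs[i] • x ∈ Ideal.ofList (rs.take i) • (⊤ : Submodule R M) := by
          have := hxm; rw [ht] at this; exact this
        have hmy : rs[i] • y ∈ Ideal.ofList (rs.take i) • (⊤ : Submodule R M) := by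
          have := hym; rw [ht] at this; exact this
        exact Submodule.add_mem _ (hx1 hmx) (hy1 hmy)
      | smul a x hxm hx1 =>
        have hmx : rs[i] • x ∈ Ideal.ofList (rs.take i) • (⊤ : Submodule R M) := by
          have := hxm; rw [ht] at this; exact this
        rw [smul_comm]
        exact Submodule.smul_mem _ _ (hx1 hmx)
  choose s hs hsx using key
  classical
  refine ⟨∏ i, s i, Submonoid.prod_mem (S := p.primeCompl) fun x _ => hs x, fun i x hx => ?_⟩
  rw [← Finset.mul_prod_erase Finset.univ s (Finset.mem_univ i), mul_comm, mul_smul]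
  exact Submodule.smul_mem _ _ (hsx i x hx)

theorem isWeaklyRegular_of_forall_smul_mem {g : R} (S : Submonoid R) (hg : g ∈ S) {M : Type v} {N : Type w}
    [AddCommGroup M] [Module R M] [AddCommGroup N] [Module R N] (f : M →ₗ[R] N) [IsLocalizedModule S f] (rs : List R)
    (h : ∀ (i : Fin rs.length) (x : M), rs[i] • x ∈ Ideal.ofList (rs.take i) • (⊤ : Submodule R M) →
        g • x ∈ Ideal.ofList (rs.take i) • (⊤ : Submodule R M)) : IsWeaklyRegular N rs :=
  (isWeaklyRegular_localized_iff S f rs).2 fun i x hx => ⟨g, hg, h i x hx⟩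

end

section

variable {P : Type u} [CommRing P] [IsNoetherianRing P]

/-- If the localization `I_p` of an ideal in a Noetherian ring is generated by a weakly regular sequence, then so is `I_g`
for some `g ∉ p`. -/
theorem exists_away_generated_by_weaklyRegular (p : Ideal P) [p.IsPrime] (I : Ideal P)
    (Pp : Type v) [CommRing Pp] [Algebra P Pp] [IsLocalization.AtPrime Pp p] (rs : List Pp) (hrs : IsWeaklyRegular Pp rs)
    (hI : I.map (algebraMap P Pp) = Ideal.ofList rs) :
    ∃ (g : P) (l : List P), g ∉ p ∧ ∀ (Pg : Type w) [CommRing Pg] [Algebra P Pg] (S : Submonoid P)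
      [IsLocalization S Pg], g ∈ S → IsWeaklyRegular Pg (l.map (algebraMap P Pg)) ∧
        I.map (algebraMap P Pg) = Ideal.ofList (l.map (algebraMap P Pg)) := by
  classical
  -- replace `rs` by numerators
  have hnum : ∀ r : Pp, ∃ a : P, Associated r (algebraMap P Pp a) := by
    intro r
    obtain ⟨⟨a, s⟩, h⟩ := IsLocalization.surj p.primeCompl r
    obtain ⟨u, hu⟩ := IsLocalization.map_units Pp s
    exact ⟨a, u, by rw [hu]; exact h⟩
  choose num hnum using hnum
  set l : List P := rs.map num with hl
  have hass : List.Forall₂ Associated rs (l.map (algebraMap P Pp)) := by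
    rw [hl, List.map_map]
    clear hl hrs hI
    induction rs with
    | nil => exact List.Forall₂.nil
    | cons a t ih => exact List.Forall₂.cons (hnum a) ih
  have hreg : IsWeaklyRegular Pp (l.map (algebraMap P Pp)) := isWeaklyRegular_of_associated hass hrs
  have hspan : Ideal.ofList rs = Ideal.ofList (l.map (algebraMap P Pp)) := by
    clear hreg hI
    clear_value l
    revert hass
    generalize l.map (algebraMap P Pp) = l'
    intro hass
    clear hl hrs
    induction hass with
    | nil => rfl
    | cons hab _ ih =>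
      rw [Ideal.ofList_cons, Ideal.ofList_cons, ih]
      congr 1
      obtain ⟨u, rfl⟩ := hab
      exact (Ideal.span_singleton_mul_right_unit u.isUnit _).symm
  rw [hspan] at hI
  rw [isWeaklyRegular_map_algebraMap_iff] at hreg
  obtain ⟨g₁, hg₁, h₁⟩ := exists_isWeaklyRegular_of_mem p (Algebra.linearMap P Pp) l hreg
  -- generators of `I`
  have hmem : ∀ (J : Ideal P) (a : P), algebraMap P Pp a ∈ J.map (algebraMap P Pp) → ∃ s ∉ p, s * a ∈ J := by
    intro J a ha
    rw [IsLocalization.algebraMap_mem_map_algebraMap_iff p.primeCompl] at ha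
    obtain ⟨s, hs, hsa⟩ := ha
    exact ⟨s, hs, hsa⟩
  have hspread : ∀ (J J' : Ideal P), J.map (algebraMap P Pp) ≤ J'.map (algebraMap P Pp) → ∃ s ∉ p, ∀ a ∈ J, s * a ∈ J' := by
    intro J J' hJ
    obtain ⟨t, ht⟩ : J.FG := IsNoetherian.noetherian J
    have h1 : ∀ x : t, ∃ s ∉ p, s * (x : P) ∈ J' := fun x =>
      hmem J' x (hJ (Ideal.mem_map_of_mem _ (by rw [← ht]; exact Submodule.subset_span x.2)))
    choose s hs hsx using h1
    refine ⟨∏ x, s x, Submonoid.prod_mem (S := p.primeCompl) fun x _ => hs x, ?_⟩
    have : J ≤ Submodule.comap (LinearMap.lsmul P P (∏ x, s x)) J' := by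
      rw [← ht]
      refine Submodule.span_le.2 ?_
      intro x hxt
      change (∏ x, s x) * x ∈ J'
      rw [← Finset.mul_prod_erase Finset.univ s (Finset.mem_univ (⟨x, hxt⟩ : t)), mul_assoc, mul_left_comm]
      exact Ideal.mul_mem_left _ _ (hsx ⟨x, hxt⟩)
    intro a ha
    exact this ha
  rw [← Ideal.map_ofList] at hI
  obtain ⟨g₂, hg₂, h₂⟩ := hspread I (Ideal.ofList l) hI.le
  obtain ⟨g₃, hg₃, h₃⟩ := hspread (Ideal.ofList l) I hI.ge
  refine ⟨g₁ * g₂ * g₃, l, ?_, ?_⟩
  · exact p.primeCompl.mul_mem (p.primeCompl.mul_mem hg₁ hg₂) hg₃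
  · intro Pg _ _ S _ hg
    refine ⟨?_, ?_⟩
    · rw [isWeaklyRegular_map_algebraMap_iff]
      refine isWeaklyRegular_of_forall_smul_mem S hg (Algebra.linearMap P Pg) l fun i x hx => ?_
      rw [mul_assoc, mul_comm, mul_smul]
      exact Submodule.smul_mem _ _ (h₁ i x hx)
    · rw [← Ideal.map_ofList]
      have hunit : ∀ c : P, (∃ d, c * d = g₁ * g₂ * g₃) → IsUnit (algebraMap P Pg c) := by
        rintro c ⟨d, hd⟩
        have h4 : IsUnit (algebraMap P Pg (g₁ * g₂ * g₃)) := IsLocalization.map_units Pg (⟨_, hg⟩ : S)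
        rw [← hd, map_mul] at h4
        exact isUnit_of_mul_isUnit_left h4
      apply le_antisymm
      · rw [Ideal.map_le_iff_le_comap]
        intro a ha
        have := Ideal.mem_map_of_mem (algebraMap P Pg) (h₂ a ha)
        rw [map_mul] at this
        exact (Ideal.unit_mul_mem_iff_mem _ (hunit g₂ ⟨g₁ * g₃, by ring⟩)).1 this
      · rw [Ideal.map_le_iff_le_comap]
        intro a ha
        have := Ideal.mem_map_of_mem (algebraMap P Pg) (h₃ a ha)
        rw [map_mul] at this
        exact (Ideal.unit_mul_mem_iff_mem _ (hunit g₃ ⟨g₁ * g₂, by ring⟩)).1 this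

end

end Groth.Agent.Flat2H.RegSpread
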