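import Groth.Prelude.Def_BlowUp2
import Groth.Prelude.Def_MoreMor
import Groth.Agent.Flat2H.FamRestrict

/-!
# Effective Cartier divisors and ample families (Stacks 0GTS)
-/

set_option autoImplicit false
universe u

open CategoryTheory AlgebraicGeometry TopologicalSpace Opposite

namespace Groth.Agent.Flat2H.CartierAmple

open Groth.Agent.Fdesc.LocGen Groth.Agent.Flat2H.FamExt Groth.Agent.Flat2H.FamDict
  Groth.Agent.Flat2H.FamOpen Groth.Agent.Flat2H.FamRestrict

variable {X : Scheme.{u}}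

/-- Restrictions of nonzerodivisors from an affine open are nonzerodivisors. -/
theorem ores_mem_nonZeroDivisors {W V : X.Opens} (hW : IsAffineOpen W) (h : V ≤ W) {f : Γ(X, W)}
    (hf : f ∈ nonZeroDivisors Γ(X, W)) : ores h f ∈ nonZeroDivisors Γ(X, V) := by
  rw [mem_nonZeroDivisors_iff_right]
  intro a ha
  have hcov : ∀ x : V, ∃ s : Γ(X, W), X.basicOpen s ≤ V ∧ x.1 ∈ X.basicOpen s := fun x ↦
    hW.exists_basicOpen_le x (h x.2)
  choose s hsV hxs using hcov
  refine ores_ext (fun x ↦ X.basicOpen (s x)) hsV (fun x hx ↦ Opens.mem_iSup.2 ⟨⟨x, hx⟩, hxs _⟩) fun x ↦ ?_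
  rw [map_zero]
  have hloc := hW.isLocalization_basicOpen (s x)
  have h1 : ores (X.basicOpen_le (s x)) f ∈ nonZeroDivisors Γ(X, X.basicOpen (s x)) :=
    IsLocalization.map_nonZeroDivisors_le (Submonoid.powers (s x)) _ ⟨f, hf, rfl⟩
  have h2 := congrArg (ores (hsV x)) ha
  rw [map_mul, map_zero, ores_ores] at h2
  exact (mem_nonZeroDivisors_iff_right.1 h1) _ h2

theorem exists_affine_cartier {D : X.IdealSheafData} (hD : BlowUp.IsEffCartierIdeal D) (U : X.Opens) (x : X)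
    (hx : x ∈ U) : ∃ V : X.affineOpens, x ∈ V.1 ∧ V.1 ≤ U ∧
      ∃ f : Γ(X, V.1), f ∈ nonZeroDivisors Γ(X, V.1) ∧ D.ideal V = Ideal.span {f} := by
  obtain ⟨V, hxV, f, hf, hfD⟩ := hD x
  obtain ⟨s, hsU, hxs⟩ := V.2.exists_basicOpen_le (V := U) ⟨x, hx⟩ hxV
  refine ⟨X.affineBasicOpen s, hxs, hsU, ores (X.basicOpen_le s) f,
    ores_mem_nonZeroDivisors V.2 _ hf, ?_⟩
  have h1 := D.map_ideal_basicOpen V s
  rw [hfD, Ideal.map_span, Set.image_singleton] at h1
  exact h1.symm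

/-- two local equations of an effective Cartier divisor differ by a unit -/
theorem exists_unit {D : X.IdealSheafData} {V V' : X.affineOpens} {f : Γ(X, V.1)} {f' : Γ(X, V'.1)}
    (hf : f ∈ nonZeroDivisors Γ(X, V.1))
    (hfD : D.ideal V = Ideal.span {f}) (hfD' : D.ideal V' = Ideal.span {f'}) :
    ∃ n : Γ(X, V.1 ⊓ V'.1), ores inf_le_left f * n = ores inf_le_right f' := by
  have hT : ∀ T : X.affineOpens, ∀ (h : T.1 ≤ V.1 ⊓ V'.1), ∃ n : Γ(X, T.1),
      ores (h.trans inf_le_left) f * n = ores (h.trans inf_le_right) f' := by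
    intro T h
    have h1 : D.ideal T = Ideal.span {ores (h.trans inf_le_left) f} := by
      rw [← D.map_ideal (h.trans inf_le_left : T ≤ V), hfD, Ideal.map_span, Set.image_singleton]
      rfl
    have h2 : D.ideal T = Ideal.span {ores (h.trans inf_le_right) f'} := by
      rw [← D.map_ideal (h.trans inf_le_right : T ≤ V'), hfD', Ideal.map_span, Set.image_singleton]
      rfl
    have h3 : ores (h.trans inf_le_right) f' ∈ Ideal.span {ores (h.trans inf_le_left) f} := by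
      rw [← h1, h2]; exact Ideal.mem_span_singleton_self _
    obtain ⟨c, hc⟩ := Ideal.mem_span_singleton'.1 h3
    exact ⟨c, by rw [mul_comm]; exact hc⟩
  choose n hn using hT
  let ι := {T : X.affineOpens // T.1 ≤ V.1 ⊓ V'.1}
  obtain ⟨t, ht⟩ := ores_glue (V := V.1 ⊓ V'.1) (fun T : ι ↦ T.1.1) (fun T ↦ T.2) (by
      intro x hx
      obtain ⟨_, ⟨T, hT, rfl⟩, hxT, hTV⟩ := X.isBasis_affineOpens.exists_subset_of_mem_open
        (show x ∈ ((V.1 ⊓ V'.1 : X.Opens) : Set X) from hx) (V.1 ⊓ V'.1).2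
      exact Opens.mem_iSup.2 ⟨⟨⟨T, hT⟩, hTV⟩, hxT⟩) (fun T : ι ↦ n T.1 T.2) (by
      intro T T'
      have e1 := congrArg (ores (inf_le_left : T.1.1 ⊓ T'.1.1 ≤ T.1.1)) (hn T.1 T.2)
      have e2 := congrArg (ores (inf_le_right : T.1.1 ⊓ T'.1.1 ≤ T'.1.1)) (hn T'.1 T'.2)
      rw [map_mul, ores_ores, ores_ores] at e1 e2
      have hz : ores ((inf_le_left.trans T.2).trans inf_le_left) f ∈ nonZeroDivisors Γ(X, T.1.1 ⊓ T'.1.1) :=
        ores_mem_nonZeroDivisors V.2 _ hf
      have e3 := e1.trans e2.symm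
      rw [← sub_eq_zero, ← mul_sub] at e3
      exact sub_eq_zero.1 ((mem_nonZeroDivisors_iff_left.1 hz) _ e3))
  refine ⟨t, ?_⟩
  refine ores_ext (fun T : ι ↦ T.1.1) (fun T ↦ T.2) (by
      intro x hx
      obtain ⟨_, ⟨T, hT, rfl⟩, hxT, hTV⟩ := X.isBasis_affineOpens.exists_subset_of_mem_open
        (show x ∈ ((V.1 ⊓ V'.1 : X.Opens) : Set X) from hx) (V.1 ⊓ V'.1).2
      exact Opens.mem_iSup.2 ⟨⟨⟨T, hT⟩, hTV⟩, hxT⟩) fun T ↦ ?_
  rw [map_mul, ores_ores, ores_ores, ht T]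
  exact hn T.1 T.2

theorem compl_support_inf {D : X.IdealSheafData} {V : X.affineOpens} {f : Γ(X, V.1)}
    (hfD : D.ideal V = Ideal.span {f}) : V.1 ⊓ D.support.compl = X.basicOpen f := by
  ext x
  constructor
  · rintro ⟨hxV, hx⟩
    have h1 : x ∉ D.support := hx
    rw [D.mem_support_iff_of_mem hxV, hfD, Scheme.zeroLocus_span, Scheme.mem_zeroLocus_iff] at h1
    push Not at h1
    obtain ⟨g, hg, hx'⟩ := h1
    rw [Set.mem_singleton_iff] at hg
    rwa [hg] at hx'
  · intro hx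
    have hxV : x ∈ V.1 := X.basicOpen_le _ hx
    refine ⟨hxV, ?_⟩
    change x ∉ D.support
    rw [D.mem_support_iff_of_mem hxV, hfD, Scheme.zeroLocus_span, Scheme.mem_zeroLocus_iff]
    push Not
    exact ⟨f, rfl, hx⟩

/-- Trivialization data for a Cartier divisor together with an invertible module. -/
theorem exists_cartier_data [CompactSpace X] {D : X.IdealSheafData} (hD : BlowUp.IsEffCartierIdeal D)
    {L : X.Modules} (hL : PicF.IsInvertible L) :
    ∃ (N : ℕ) (W : Fin N → X.Opens) (g n : ∀ i j, Γ(X, W i ⊓ W j)) (f : ∀ j, Γ(X, W j)),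
      (∀ j, IsAffineOpen (W j)) ∧ Trivs L W g ∧ IsFam W n f ∧ (∀ i, n i i = 1) ∧
      (∀ i j k (V : X.Opens) (hi : V ≤ W i) (hj : V ≤ W j) (hk : V ≤ W k),
        ores (le_inf hi hj) (n i j) * ores (le_inf hj hk) (n j k) = ores (le_inf hi hk) (n i k)) ∧
      locus f = D.support.compl := by
  obtain ⟨N, W, g, hW, hT⟩ := exists_trivs hL (fun V ↦ ∃ (hV : IsAffineOpen V) (f : Γ(X, V)),
    f ∈ nonZeroDivisors Γ(X, V) ∧ D.ideal ⟨V, hV⟩ = Ideal.span {f}) (fun U x hx ↦ by
      obtain ⟨V, hxV, hVU, f, hf, hfD⟩ := exists_affine_cartier hD U x hx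
      exact ⟨V.1, hxV, hVU, V.2, f, hf, hfD⟩)
  choose hWa f hf hfD using hW
  choose n hn using fun i j ↦ exists_unit (V := ⟨W i, hWa i⟩) (V' := ⟨W j, hWa j⟩) (hf i) (hfD i) (hfD j)
  have hcoc : ∀ i j k (V : X.Opens) (hi : V ≤ W i) (hj : V ≤ W j) (hk : V ≤ W k),
        ores (le_inf hi hj) (n i j) * ores (le_inf hj hk) (n j k) = ores (le_inf hi hk) (n i k) := by
    intro i j k V hi hj hk
    have e1 := congrArg (ores (le_inf hi hj)) (hn i j)
    have e2 := congrArg (ores (le_inf hj hk)) (hn j k)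
    have e3 := congrArg (ores (le_inf hi hk)) (hn i k)
    rw [map_mul, ores_ores, ores_ores] at e1 e2 e3
    have hz : ores hi (f i) ∈ nonZeroDivisors Γ(X, V) := ores_mem_nonZeroDivisors (hWa i) _ (hf i)
    rw [← e1, ← e3, mul_assoc, ← sub_eq_zero, ← mul_sub] at e2
    exact sub_eq_zero.1 ((mem_nonZeroDivisors_iff_left.1 hz) _ e2)
  refine ⟨N, W, g, n, f, hWa, hT, hn, ?_, hcoc, ?_⟩
  · intro i
    have e := hn i i
    have hz : ores inf_le_left (f i) ∈ nonZeroDivisors Γ(X, W i ⊓ W i) :=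
      ores_mem_nonZeroDivisors (hWa i) _ (hf i)
    have e' : ores inf_le_left (f i) * n i i = ores (inf_le_left : W i ⊓ W i ≤ W i) (f i) * 1 := by
      rw [mul_one]; exact e
    rw [← sub_eq_zero, ← mul_sub] at e'
    exact sub_eq_zero.1 ((mem_nonZeroDivisors_iff_left.1 hz) _ e')
  · have h1 : ∀ j, X.basicOpen (f j) = W j ⊓ D.support.compl := fun j ↦
      (compl_support_inf (V := ⟨W j, hWa j⟩) (hfD j)).symm
    simp only [locus, h1]
    rw [← iSup_inf_eq, hT.iSup_eq, top_inf_eq]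

theorem isUnit_of_cocycle {ι : Type*} {W : ι → X.Opens} {n : ∀ i j, Γ(X, W i ⊓ W j)} (h1 : ∀ i, n i i = 1)
    (h : ∀ i j k (V : X.Opens) (hi : V ≤ W i) (hj : V ≤ W j) (hk : V ≤ W k),
        ores (le_inf hi hj) (n i j) * ores (le_inf hj hk) (n j k) = ores (le_inf hi hk) (n i k)) (i j : ι) :
    IsUnit (n i j) := by
  have e := h i j i (W i ⊓ W j) inf_le_left inf_le_right inf_le_left
  rw [h1 i, map_one, ores_refl] at e
  exact IsUnit.of_mul_eq_one _ e

/-- The complement of an effective Cartier divisor is retrocompact. -/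
theorem isCompact_inf_compl [CompactSpace X] {D : X.IdealSheafData} (hD : BlowUp.IsEffCartierIdeal D)
    {A : X.Opens} (hA : IsCompact (A : Set X)) : IsCompact ((A ⊓ D.support.compl : X.Opens) : Set X) := by
  obtain ⟨N, W, g, n, f, hWa, hT, hfam, hn1, hcoc, hloc⟩ :=
    exists_cartier_data hD (isInvertible_structureModule (X := X))
  rw [← hloc]
  exact isCompact_inf_locus hfam (isUnit_of_cocycle hn1 hcoc) hT.1 hA

/-- The affine loci of an ample module on an open subscheme. -/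
theorem exists_locus_of_isAmple_restrict {ι : Type*} {L : X.Modules} {W : ι → X.Opens}
    {g : ∀ i j, Γ(X, W i ⊓ W j)} (hT : Trivs L W g) {U : X.Opens}
    (hL : CohB1.IsAmple (L.restrict U.ι)) (x : X) (hx : x ∈ U) (T : ι → X.Opens) (hTW : ∀ j, T j ≤ W j)
    (hTU : ∀ j, T j ≤ U) (hUT : U ≤ ⨆ j, T j) :
    ∃ (m : ℕ) (b : ∀ j, Γ(X, T j)), IsFam T (fun i j ↦ ores (inf_le_inf (hTW i) (hTW j)) (g i j) ^ (m + 1)) b ∧
      x ∈ locus b ∧ IsAffineOpen (locus b) ∧ locus b ≤ U := by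
  have h1 := (hT.restrict U.ι).refine' (fun j ↦ U.ι ⁻¹ᵁ T j) (fun y ↦ by
    obtain ⟨j, hj⟩ := Opens.mem_iSup.1 (hUT (show U.ι.base y ∈ U from y.2))
    exact ⟨j, hj⟩) id (fun j ↦ U.ι.preimage_mono (hTW j))
  obtain ⟨m, b', hb', hxb', haff⟩ := (h1.isAmple_iff.1 hL).2 ⟨x, hx⟩
  obtain ⟨b, hb, hbb', hloc, hle⟩ := exists_fam_of_restrict T hTU
    (fun i j ↦ ores (inf_le_inf (hTW i) (hTW j)) (g i j) ^ (m + 1)) b' (by
      intro i j
      have h2 := hb' i j
      beta_reduce at h2 ⊢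
      rw [map_pow, app_ores]
      exact h2)
  refine ⟨m, b, hb, ?_, ?_, hle⟩
  · have : (⟨x, hx⟩ : U) ∈ U.ι ⁻¹ᵁ locus b := by rw [hloc]; exact hxb'
    exact this
  · apply isAffineOpen_of_preimage_ι hle
    rw [hloc]
    exact haff

/-- **Stacks 0GTS.** -/
theorem hasAmpleFamily {m : ℕ} (D : Fin m → X.IdealSheafData)
    (hD : ∀ i, BlowUp.IsEffCartierIdeal (D i)) (hcap : ⋂ i, ((D i).support : Set ↑X) = ∅)
    (L : Fin m → X.Modules) (hL : ∀ i, PicF.IsInvertible (L i))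
    (hamp : ∀ i, CohB1.IsAmple ((L i).restrict (Scheme.Opens.ι (D i).support.compl))) :
    MoreMor.HasAmpleFamily X := by
  have hcov : ∀ x : X, ∃ i, x ∈ (D i).support.compl := by
    intro x
    by_contra hx
    push Not at hx
    have : x ∈ ⋂ i, ((D i).support : Set ↑X) := by
      rw [Set.mem_iInter]
      intro i
      by_contra hx'
      exact hx i hx'
    rw [hcap] at this
    exact this
  -- compactness
  have hXc : CompactSpace X := by
    refine ⟨?_⟩
    have h1 : (Set.univ : Set X) = ⋃ i, ((D i).support.compl : Set X) := by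
      ext x
      simp only [Set.mem_univ, Set.mem_iUnion, true_iff]
      obtain ⟨i, hi⟩ := hcov x
      exact ⟨i, hi⟩
    rw [h1]
    refine isCompact_iUnion fun i ↦ ?_
    have := (hamp i).2.1
    exact isCompact_iff_compactSpace.2 this
  -- affine loci in each piece
  have hloc : ∀ i (x : X), x ∈ (D i).support.compl → ∃ A : X.Opens, x ∈ A ∧ IsAffineOpen A ∧
      A ≤ (D i).support.compl := by
    intro i x hx
    obtain ⟨N, W, g, -, hT⟩ := exists_trivs (hL i) (fun _ ↦ True) (fun U x hx ↦ ⟨U, hx, le_rfl, trivial⟩)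
    obtain ⟨k, b, -, hxb, haff, hle⟩ := exists_locus_of_isAmple_restrict hT (hamp i) x hx
      (fun j ↦ (D i).support.compl ⊓ W j) (fun j ↦ inf_le_right) (fun j ↦ inf_le_left) (by
        rw [← inf_iSup_eq, hT.iSup_eq, inf_top_eq])
    exact ⟨locus b, hxb, haff, hle⟩
  -- quasi-separatedness
  have hXqs : QuasiSeparatedSpace X := by
    choose i hi using hcov
    choose A hxA hA hAU using fun x ↦ hloc (i x) x (hi x)
    refine Scheme.quasiSeparatedSpace_of_isOpenCover A ?_ hA ?_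
    · rw [IsOpenCover, eq_top_iff]
      intro x _
      exact Opens.mem_iSup.2 ⟨x, hxA x⟩
    · intro x y
      have hqs : IsQuasiSeparated (((D (i y)).support.compl : X.Opens) : Set X) :=
        (isQuasiSeparated_iff_quasiSeparatedSpace _ (D (i y)).support.compl.isOpen).2
          (quasiSeparatedSpace_of_isAmple (hamp (i y)))
      have h1 : IsCompact ((A x ⊓ (D (i y)).support.compl : X.Opens) : Set X) :=
        isCompact_inf_compl (hD _) (hA x).isCompact
      have h2 := hqs _ _ (show ((A x ⊓ (D (i y)).support.compl : X.Opens) : Set X) ⊆ _ from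
        fun z hz ↦ hz.2) (A x ⊓ (D (i y)).support.compl).isOpen h1
        (show ((A y : X.Opens) : Set X) ⊆ _ from hAU y) (A y).isOpen (hA y).isCompact
      have h3 : (A x : Set X) ∩ (A y : Set X) =
          ((A x ⊓ (D (i y)).support.compl : X.Opens) : Set X) ∩ (A y : Set X) := by
        ext z
        constructor
        · rintro ⟨hz, hz'⟩
          exact ⟨⟨hz, hAU y hz'⟩, hz'⟩
        · rintro ⟨⟨hz, -⟩, hz'⟩
          exact ⟨hz, hz'⟩
      rw [h3]
      exact h2
  refine ⟨hXc, fun x ↦ ?_⟩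
  obtain ⟨i, hi⟩ := hcov x
  obtain ⟨N, W, g, n, f, hWa, hT, hfam, hn1, hcoc, hlocf⟩ := exists_cartier_data (hD i) (hL i)
  have hnu := isUnit_of_cocycle hn1 hcoc
  obtain ⟨k, b, hb, hxb, haff, hle⟩ := exists_locus_of_isAmple_restrict hT (hamp i) x hi
    (fun j ↦ X.basicOpen (f j)) (fun j ↦ X.basicOpen_le _)
    (fun j ↦ hlocf ▸ basicOpen_le_locus f j) (by rw [← hlocf]; exact le_rfl)
  have hcc : ∀ i j, IsCompact ((W i ⊓ W j : X.Opens) : Set X) := fun i j ↦
    (hWa i).isCompact.inter_of_isOpen (hWa j).isCompact (W i).isOpen (W j).isOpen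
  obtain ⟨m₀, hm₀⟩ := exists_ext W (fun j ↦ (hWa j).isCompact) (fun j ↦ (hWa j).isQuasiSeparated) hcc
    (fun i j ↦ g i j ^ (k + 1)) n f hfam b (by
      intro j l
      have h2 := hb j l
      beta_reduce at h2 ⊢
      rw [map_pow]
      exact h2)
  obtain ⟨c, hc, hc'⟩ := hm₀ m₀ le_rfl
  -- multiply once more by `f`
  let c' : ∀ j, Γ(X, W j) := fun j ↦ f j * c j
  let γ : ∀ i j, Γ(X, W i ⊓ W j) := fun i j ↦ g i j ^ (k + 1) * n i j ^ (m₀ + 1)
  have hc'fam : IsFam W γ c' := by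
    intro j l
    have e1 := hc j l
    have e2 := hfam j l
    simp only [c', γ, map_mul]
    rw [← e1, ← e2]
    ring
  have hDc : ∀ j, X.basicOpen (c' j) = X.basicOpen (b j) := by
    intro j
    have e1 : X.basicOpen (c' j) = X.basicOpen (f j) ⊓ X.basicOpen (c j) := X.basicOpen_mul _ _
    rw [e1, ← basicOpen_res (c j) (X.basicOpen_le (f j)), hc' j, Scheme.basicOpen_mul]
    rw [X.basicOpen_of_isUnit ((isUnit_res_basicOpen (f j) (X.basicOpen_le _) le_rfl).pow m₀)]
    exact inf_eq_right.2 (X.basicOpen_le _)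
  have hlocc : locus c' = locus b := by
    simp only [locus, hDc]
  obtain ⟨M, hM⟩ := exists_trivs_of_cocycle W hT.1 γ (fun i ↦ by simp only [γ]; rw [hT.self, hn1, one_pow, one_pow, one_mul])
    (by
      intro i j l V hi' hj hl
      simp only [γ, map_mul, map_pow]
      rw [← hT.cocycle i j l hi' hj hl, ← hcoc i j l V hi' hj hl]
      ring)
  obtain ⟨s, hs⟩ := (hM.tensorPow 1).exists_sec c' (by
    intro j l
    have h2 := hc'fam j l
    beta_reduce at h2 ⊢
    rw [pow_one]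
    exact h2)
  have hs' : CohB1.genLocus (CohB1.tensorPow M 1) s = locus b := hs.trans hlocc
  exact ⟨M, 1, s, hM.isInvertible, le_rfl, hs' ▸ hxb, hs' ▸ haff⟩

end Groth.Agent.Flat2H.CartierAmple
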