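import Groth.Agent.Flat2H.LimitSections

/-!
# Ampleness descends to a stage of a cofiltered limit (Stacks, Lemma 09MT)
-/

set_option autoImplicit false
universe u

open CategoryTheory Limits AlgebraicGeometry TopologicalSpace Opposite

namespace Groth.Agent.Flat2H.AmpleLimit

open Groth.Agent.Fdesc.LocGen Groth.Agent.Flat2H.FamExt Groth.Agent.Flat2H.FamDict
open Groth.Agent.Flat2H.FamOpen Groth.Agent.Flat2H.LimitSections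

theorem IsFam.appLE {X Y : Scheme.{u}} (f : Y ⟶ X) {ι : Type*} {W : ι → X.Opens}
    {g : ∀ i j, Γ(X, W i ⊓ W j)} {b : ∀ j, Γ(X, W j)} (hb : IsFam W g b)
    (W' : ι → Y.Opens) (hW : ∀ j, W' j ≤ f ⁻¹ᵁ W j) :
    IsFam W' (fun i j ↦ f.appLE (W i ⊓ W j) (W' i ⊓ W' j) (inf_le_inf (hW i) (hW j)) (g i j))
      (fun j ↦ f.appLE (W j) (W' j) (hW j) (b j)) := by
  intro i j
  have h := congrArg (f.appLE (W i ⊓ W j) (W' i ⊓ W' j) (inf_le_inf (hW i) (hW j))) (hb i j)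
  rw [map_mul, appLE_ores, appLE_ores] at h
  rw [ores_appLE, ores_appLE]
  exact h

/-- common stage for finitely many objects of `Over i` -/
theorem exists_over {I : Type u} [Category.{u} I] [IsCofiltered I] {i : I} {κ : Type*} [Finite κ]
    (j : κ → Over i) : ∃ k : Over i, ∀ a, Nonempty (k ⟶ j a) := by
  classical
  have := Fintype.ofFinite κ
  obtain ⟨k, hk⟩ := IsCofiltered.inf_objs_exists (Finset.univ.image j)
  exact ⟨k, fun a ↦ hk (Finset.mem_image_of_mem j (Finset.mem_univ a))⟩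

variable {I : Type u} [Category.{u} I] [IsCofiltered I] {D : I ⥤ Scheme.{u}} {c : Cone D}
  [∀ {i j} (f : i ⟶ j), IsAffineHom (D.map f)]

/-- Finitely many sections over compact opens of a stage are simultaneously defined at a later stage. -/
theorem exists_sections (hc : IsLimit c) [∀ i, QuasiSeparatedSpace (D.obj i)] {i : I} {κ : Type*} [Finite κ]
    (W : κ → (D.obj i).Opens) (hW : ∀ k, IsCompact (W k : Set (D.obj i)))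
    (s : ∀ k, Γ(c.pt, c.π.app i ⁻¹ᵁ W k)) :
    ∃ (j : I) (f : j ⟶ i) (t : ∀ k, Γ(D.obj j, D.map f ⁻¹ᵁ W k)),
      ∀ k, (c.π.app j).appLE (D.map f ⁻¹ᵁ W k) (c.π.app i ⁻¹ᵁ W k) (le_preimage D c f (W k)) (t k) = s k := by
  choose j f t ht using fun k ↦ exists_app_eq hc (W k) (hW k) (s k)
  obtain ⟨m, hm⟩ := exists_over (fun k ↦ Over.mk (f k))
  have hm' : ∀ k, D.map m.hom ⁻¹ᵁ W k ≤ D.map (hm k).some.left ⁻¹ᵁ D.map (f k) ⁻¹ᵁ W k := by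
    intro k
    rw [← Scheme.Hom.comp_preimage, ← D.map_comp]
    have : (hm k).some.left ≫ f k = m.hom := Over.w (hm k).some
    rw [this]
  refine ⟨m.left, m.hom, fun k ↦ (D.map (hm k).some.left).appLE _ _ (hm' k) (t k), fun k ↦ ?_⟩
  rw [appLE_appLE, appLE_congr_hom (c.w (hm k).some.left)]
  exact ht k

/-- Finitely many equalities of sections over compact opens of a stage hold at a later stage. -/
theorem exists_eqs (hc : IsLimit c) {i : I} {κ : Type*} [Finite κ]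
    (W : κ → (D.obj i).Opens) (hW : ∀ k, IsCompact (W k : Set (D.obj i)))
    (s t : ∀ k, Γ(D.obj i, W k))
    (h : ∀ k, (c.π.app i).app (W k) (s k) = (c.π.app i).app (W k) (t k)) :
    ∃ (j : I) (f : j ⟶ i), ∀ k, (D.map f).app (W k) (s k) = (D.map f).app (W k) (t k) := by
  choose j f hf using fun k ↦ exists_app_map_eq_map_of_isLimit _ _ hc (hW k) (s k) (t k) (h k)
  obtain ⟨m, hm⟩ := exists_over (fun k ↦ Over.mk (f k))
  have hm' : ∀ k, D.map m.hom ⁻¹ᵁ W k ≤ D.map (hm k).some.left ⁻¹ᵁ D.map (f k) ⁻¹ᵁ W k := by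
    intro k
    rw [← Scheme.Hom.comp_preimage, ← D.map_comp]
    have : (hm k).some.left ≫ f k = m.hom := Over.w (hm k).some
    rw [this]
  refine ⟨m.left, m.hom, fun k ↦ ?_⟩
  have h1 := congrArg ((D.map (hm k).some.left).appLE _ _ (hm' k)) (hf k)
  have h2 : D.map (hm k).some.left ≫ D.map (f k) = D.map m.hom := by
    rw [← D.map_comp]
    congr 1
    exact Over.w (hm k).some
  rw [← Scheme.Hom.appLE_eq_app, appLE_appLE, appLE_appLE, appLE_congr_hom h2, appLE_congr_hom h2] at h1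
  rw [← Scheme.Hom.appLE_eq_app]
  exact h1

theorem app_comp_inf {X Y Z : Scheme.{u}} (f : Y ⟶ X) (f' : Z ⟶ Y) {h : Z ⟶ X} (hh : f' ≫ f = h)
    {U V : X.Opens} (g : Γ(X, U ⊓ V)) (hle : f' ⁻¹ᵁ (f ⁻¹ᵁ U ⊓ f ⁻¹ᵁ V) ≤ h ⁻¹ᵁ U ⊓ h ⁻¹ᵁ V) :
    (f'.app (f ⁻¹ᵁ U ⊓ f ⁻¹ᵁ V) (show Γ(Y, f ⁻¹ᵁ U ⊓ f ⁻¹ᵁ V) from f.app (U ⊓ V) g)) =
      ores hle (show Γ(Z, h ⁻¹ᵁ U ⊓ h ⁻¹ᵁ V) from h.app (U ⊓ V) g) := by
  subst hh
  have h1 := appLE_appLE f' f (U := U ⊓ V) (V := f ⁻¹ᵁ U ⊓ f ⁻¹ᵁ V) (W := f' ⁻¹ᵁ (f ⁻¹ᵁ U ⊓ f ⁻¹ᵁ V)) le_rfl le_rfl g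
  rw [Scheme.Hom.appLE_eq_app f'] at h1
  have h2 := Scheme.Hom.appLE_eq_app f (U := U ⊓ V)
  have h3 : f.appLE (U ⊓ V) (f ⁻¹ᵁ U ⊓ f ⁻¹ᵁ V) le_rfl g = f.app (U ⊓ V) g := by rw [← h2]; rfl
  rw [h3] at h1
  exact h1

theorem appLE_app_inf {X Y Z : Scheme.{u}} (f : Y ⟶ X) (f' : Z ⟶ Y) {h : Z ⟶ X} (hh : f' ≫ f = h)
    {U V : X.Opens} (g : Γ(X, U ⊓ V)) (hle : h ⁻¹ᵁ U ⊓ h ⁻¹ᵁ V ≤ f' ⁻¹ᵁ (f ⁻¹ᵁ U ⊓ f ⁻¹ᵁ V)) :
    (f'.appLE (f ⁻¹ᵁ U ⊓ f ⁻¹ᵁ V) _ hle (show Γ(Y, f ⁻¹ᵁ U ⊓ f ⁻¹ᵁ V) from f.app (U ⊓ V) g)) =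
      (show Γ(Z, h ⁻¹ᵁ U ⊓ h ⁻¹ᵁ V) from h.app (U ⊓ V) g) := by
  subst hh
  have h1 := appLE_appLE f' f (U := U ⊓ V) (V := f ⁻¹ᵁ U ⊓ f ⁻¹ᵁ V) (W := f' ⁻¹ᵁ (f ⁻¹ᵁ U ⊓ f ⁻¹ᵁ V)) le_rfl le_rfl g
  have h2 := Scheme.Hom.appLE_eq_app f (U := U ⊓ V)
  have h3 : f.appLE (U ⊓ V) (f ⁻¹ᵁ U ⊓ f ⁻¹ᵁ V) le_rfl g = f.app (U ⊓ V) g := by rw [← h2]; rfl
  have h4 : (f' ≫ f).appLE (U ⊓ V) (f' ⁻¹ᵁ (f ⁻¹ᵁ U ⊓ f ⁻¹ᵁ V)) le_rfl g = (f' ≫ f).app (U ⊓ V) g := by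
    rw [← Scheme.Hom.appLE_eq_app (f' ≫ f)]; rfl
  rw [h3, h4] at h1
  exact h1

omit [IsCofiltered I] [∀ {i j : I} (f : i ⟶ j), IsAffineHom (D.map f)] in
theorem preimage_comp_eq {i j k : I} (f : j ⟶ i) (f' : k ⟶ j) (U : (D.obj i).Opens) :
    D.map (f' ≫ f) ⁻¹ᵁ U = D.map f' ⁻¹ᵁ (D.map f ⁻¹ᵁ U) := by
  rw [← Scheme.Hom.comp_preimage, ← D.map_comp]

/-- **Families descend**: a compatible family over the limit is defined at a later stage. -/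
theorem exists_family (hc : IsLimit c) [∀ i, QuasiSeparatedSpace (D.obj i)] {i : I} {ι : Type*} [Finite ι]
    (W : ι → (D.obj i).Opens) (hW : ∀ k, IsCompact (W k : Set (D.obj i)))
    (g : ∀ k l, Γ(D.obj i, W k ⊓ W l)) (b : ∀ k, Γ(c.pt, c.π.app i ⁻¹ᵁ W k))
    (hb : IsFam (fun k ↦ c.π.app i ⁻¹ᵁ W k) (fun k l ↦ (c.π.app i).app (W k ⊓ W l) (g k l)) b) :
    ∃ (j : I) (f : j ⟶ i) (b' : ∀ k, Γ(D.obj j, D.map f ⁻¹ᵁ W k)),
      IsFam (fun k ↦ D.map f ⁻¹ᵁ W k) (fun k l ↦ (D.map f).app (W k ⊓ W l) (g k l)) b' ∧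
      ∀ k, (c.π.app j).appLE (D.map f ⁻¹ᵁ W k) (c.π.app i ⁻¹ᵁ W k) (le_preimage D c f (W k)) (b' k) = b k := by
  obtain ⟨j, f, t, ht⟩ := exists_sections hc W hW b
  have hWc : ∀ k, IsCompact ((D.map f ⁻¹ᵁ W k : (D.obj j).Opens) : Set (D.obj j)) := fun k ↦
    QuasiCompact.isCompact_preimage _ (W k).2 (hW k)
  have hWW : ∀ p : ι × ι, IsCompact ((D.map f ⁻¹ᵁ W p.1 ⊓ D.map f ⁻¹ᵁ W p.2 : (D.obj j).Opens) : Set (D.obj j)) :=
    fun p ↦ QuasiSeparatedSpace.inter_isCompact _ _ (D.map f ⁻¹ᵁ W p.1).2 (hWc p.1) (D.map f ⁻¹ᵁ W p.2).2 (hWc p.2)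
  let gj : ∀ p : ι × ι, Γ(D.obj j, D.map f ⁻¹ᵁ W p.1 ⊓ D.map f ⁻¹ᵁ W p.2) := fun p ↦
    (D.map f).app (W p.1 ⊓ W p.2) (g p.1 p.2)
  let s1 : ∀ p : ι × ι, Γ(D.obj j, D.map f ⁻¹ᵁ W p.1 ⊓ D.map f ⁻¹ᵁ W p.2) := fun p ↦
    ores inf_le_left (t p.1) * gj p
  let s2 : ∀ p : ι × ι, Γ(D.obj j, D.map f ⁻¹ᵁ W p.1 ⊓ D.map f ⁻¹ᵁ W p.2) := fun p ↦
    ores inf_le_right (t p.2)
  have heq : ∀ p : ι × ι, (c.π.app j).app (D.map f ⁻¹ᵁ W p.1 ⊓ D.map f ⁻¹ᵁ W p.2) (s1 p) =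
      (c.π.app j).app (D.map f ⁻¹ᵁ W p.1 ⊓ D.map f ⁻¹ᵁ W p.2) (s2 p) := by
    rintro ⟨k, l⟩
    dsimp only [s1, s2, gj]
    have hle : c.π.app j ⁻¹ᵁ (D.map f ⁻¹ᵁ W k ⊓ D.map f ⁻¹ᵁ W l) ≤ c.π.app i ⁻¹ᵁ W k ⊓ c.π.app i ⁻¹ᵁ W l := by
      have h1 := preimage_preimage D c f (W k)
      have h2 := preimage_preimage D c f (W l)
      rw [← h1, ← h2]
      exact le_rfl
    have h := congrArg (ores hle) (hb k l)
    rw [map_mul, ores_ores, ores_ores, ← ht k, ← ht l, ores_appLE, ores_appLE] at h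
    have h3 : ores hle ((c.π.app i).app (W k ⊓ W l) (g k l)) =
        (c.π.app j).app (D.map f ⁻¹ᵁ W k ⊓ D.map f ⁻¹ᵁ W l) ((D.map f).app (W k ⊓ W l) (g k l)) :=
      (app_comp_inf (D.map f) (c.π.app j) (c.w f) (g k l) hle).symm
    rw [map_mul, ← Scheme.Hom.appLE_eq_app (c.π.app j), appLE_ores, appLE_ores]
    rw [h3, ← Scheme.Hom.appLE_eq_app (c.π.app j)] at h
    exact h
  obtain ⟨j', f', hf'⟩ := exists_eqs hc _ hWW _ _ heq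
  have hle : ∀ k, D.map (f' ≫ f) ⁻¹ᵁ W k ≤ D.map f' ⁻¹ᵁ (D.map f ⁻¹ᵁ W k) := fun k ↦ (preimage_comp_eq f f' _).le
  refine ⟨j', f' ≫ f, fun k ↦ (D.map f').appLE _ _ (hle k) (t k), ?_, fun k ↦ ?_⟩
  · intro k l
    have hle2 : D.map (f' ≫ f) ⁻¹ᵁ W k ⊓ D.map (f' ≫ f) ⁻¹ᵁ W l ≤
      D.map f' ⁻¹ᵁ (D.map f ⁻¹ᵁ W k ⊓ D.map f ⁻¹ᵁ W l) := inf_le_inf (hle k) (hle l)
    have h := congrArg (ores hle2) (hf' (k, l))
    dsimp only [s1, s2, gj] at h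
    rw [← Scheme.Hom.appLE_eq_app (D.map f'), ores_appLE, ores_appLE, map_mul, appLE_ores, appLE_ores] at h
    rw [show (D.map f').appLE _ _ hle2 ((D.map f).app (W k ⊓ W l) (g k l)) =
      (D.map (f' ≫ f)).app (W k ⊓ W l) (g k l) from
        appLE_app_inf (D.map f) (D.map f') (D.map_comp f' f).symm (g k l) hle2] at h
    dsimp only
    rw [ores_appLE, ores_appLE]
    exact h
  · rw [appLE_appLE, appLE_congr_hom (c.w f')]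
    exact ht k

/-- the preimage of the locus of a family under `appLE` transport -/
theorem preimage_locus_le {X Y : Scheme.{u}} (f : Y ⟶ X) {ι : Type*} {W : ι → X.Opens} (b : ∀ j, Γ(X, W j))
    (W' : ι → Y.Opens) (hW : ∀ j, W' j ≤ f ⁻¹ᵁ W j) (hW' : ∀ j, f ⁻¹ᵁ W j ≤ W' j) :
    f ⁻¹ᵁ locus b = locus (W := W') (fun j ↦ f.appLE (W j) (W' j) (hW j) (b j)) := by
  have : W' = fun j ↦ f ⁻¹ᵁ W j := by
    funext j
    exact le_antisymm (hW j) (hW' j)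
  subst this
  rw [preimage_locus]
  simp only [Scheme.Hom.appLE_eq_app]

/-- a family at one level gives a family further up, and the locus pulls back -/
theorem exists_push {X Y Z : Scheme.{u}} (f : Y ⟶ X) (f' : Z ⟶ Y) {h : Z ⟶ X} (hh : f' ≫ f = h) {ι : Type*}
    {W : ι → X.Opens} {g : ∀ k l, Γ(X, W k ⊓ W l)} {b : ∀ k, Γ(Y, f ⁻¹ᵁ W k)}
    (hb : IsFam (fun k ↦ f ⁻¹ᵁ W k) (fun k l ↦ f.app (W k ⊓ W l) (g k l)) b) :
    ∃ b' : ∀ k, Γ(Z, h ⁻¹ᵁ W k), IsFam (fun k ↦ h ⁻¹ᵁ W k) (fun k l ↦ h.app (W k ⊓ W l) (g k l)) b' ∧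
      locus b' = f' ⁻¹ᵁ locus b := by
  subst hh
  refine ⟨fun k ↦ f'.app (f ⁻¹ᵁ W k) (b k), ?_, (preimage_locus f' b).symm⟩
  intro k l
  have h1 := IsFam.app f' hb k l
  have h2 := appLE_app_inf f f' rfl (g k l) (U := W k) (V := W l) le_rfl
  dsimp only at h1 ⊢
  have h3 : f'.appLE (f ⁻¹ᵁ W k ⊓ f ⁻¹ᵁ W l) (f' ⁻¹ᵁ (f ⁻¹ᵁ W k ⊓ f ⁻¹ᵁ W l)) le_rfl (f.app (W k ⊓ W l) (g k l)) =
    f'.app (f ⁻¹ᵁ W k ⊓ f ⁻¹ᵁ W l) (f.app (W k ⊓ W l) (g k l)) := by rw [Scheme.Hom.appLE_eq_app]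
  rw [← h3] at h1
  refine Eq.trans ?_ h1
  congr 1
  exact h2.symm

/-- **Ampleness descends** (Stacks 09MT). -/
theorem exists_isAmple_pullback (hc : IsLimit c) [∀ i, CompactSpace (D.obj i)]
    [∀ i, QuasiSeparatedSpace (D.obj i)] {i : I} {L : (D.obj i).Modules} (hL : PicF.IsInvertible L)
    (hamp : CohB1.IsAmple ((Scheme.Modules.pullback (c.π.app i)).obj L)) :
    ∃ (j : I) (f : j ⟶ i), CohB1.IsAmple ((Scheme.Modules.pullback (D.map f)).obj L) := by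
  obtain ⟨n, W, g, hWa, hW⟩ := exists_trivs hL (fun U ↦ IsAffineOpen U) (by
    intro U x hx
    obtain ⟨_, ⟨V, hV, rfl⟩, hxV, hVU⟩ := (D.obj i).isBasis_affineOpens.exists_subset_of_mem_open
      (show x ∈ (U : Set (D.obj i)) from hx) U.2
    exact ⟨V, hxV, hVU, hV⟩)
  have hWc : ∀ k, IsCompact (W k : Set (D.obj i)) := fun k ↦ (hWa k).isCompact
  have hfam := ((hW.pullback (c.π.app i)).isAmple_iff.1 hamp).2
  -- every point has a family at some stage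
  have key : ∀ x : c.pt, ∃ (j : Over i) (m : ℕ) (b' : ∀ k, Γ(D.obj j.left, D.map j.hom ⁻¹ᵁ W k)),
      IsFam (fun k ↦ D.map j.hom ⁻¹ᵁ W k) (fun k l ↦ (D.map j.hom).app (W k ⊓ W l) (g k l ^ (m + 1))) b' ∧
      IsAffineOpen (locus b') ∧ x ∈ c.π.app j.left ⁻¹ᵁ locus b' := by
    intro x
    obtain ⟨m, b, hb, hxb, hba⟩ := hfam x
    obtain ⟨j, f, b', hb', hbb'⟩ := exists_family hc W hWc (fun k l ↦ g k l ^ (m + 1)) b (by
      intro k l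
      have h1 := hb k l
      dsimp only at h1 ⊢
      rw [map_pow]
      exact h1)
    have hloc : c.π.app j ⁻¹ᵁ locus b' = locus b := by
      rw [preimage_locus_le (c.π.app j) b' (fun k ↦ c.π.app i ⁻¹ᵁ W k) (fun k ↦ le_preimage D c f (W k))
        (fun k ↦ (preimage_preimage D c f (W k)).le)]
      congr 1
      funext k
      exact hbb' k
    have hunit : ∀ k l, IsUnit ((fun k l ↦ (D.map f).app (W k ⊓ W l) (g k l ^ (m + 1))) k l) := fun k l ↦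
      ((hW.isUnit k l).pow _).map ((D.map f).app (W k ⊓ W l)).hom
    have hcov : ∀ y : D.obj j, ∃ k, y ∈ D.map f ⁻¹ᵁ W k := fun y ↦ hW.1 _
    have hcpt : IsCompact ((locus b' : (D.obj j).Opens) : Set (D.obj j)) := by
      have := isCompact_inf_locus hb' hunit hcov (A := ⊤) isCompact_univ
      rwa [top_inf_eq] at this
    obtain ⟨j', f', hf'⟩ := exists_isAffineOpen_preimage hc (locus b') hcpt (by rw [hloc]; exact hba)
    obtain ⟨b'', hb'', hl''⟩ := exists_push (D.map f) (D.map f') (D.map_comp f' f).symm hb'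
    refine ⟨Over.mk (f' ≫ f), m, b'', hb'', hl'' ▸ hf', ?_⟩
    change x ∈ c.π.app j' ⁻¹ᵁ locus b''
    rw [hl'', preimage_preimage D c f', hloc]
    exact hxb
  choose j m b hb hba hxb using key
  have hcp : CompactSpace c.pt := Scheme.compactSpace_of_isLimit _ _ hc
  obtain ⟨t, ht⟩ := isCompact_univ.elim_finite_subcover
    (fun x : c.pt ↦ ((c.π.app (j x).left ⁻¹ᵁ locus (b x) : c.pt.Opens) : Set c.pt)) (fun x ↦ Opens.isOpen _)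
    (fun x _ ↦ Set.mem_iUnion.2 ⟨x, hxb x⟩)
  obtain ⟨k, hk⟩ := exists_over (fun x : t ↦ j x.1)
  -- the loci at stage `k`
  have hpush : ∀ x : t, ∃ b' : ∀ l, Γ(D.obj k.left, D.map k.hom ⁻¹ᵁ W l),
      IsFam (fun l ↦ D.map k.hom ⁻¹ᵁ W l)
        (fun l l' ↦ (D.map k.hom).app (W l ⊓ W l') (g l l' ^ (m x.1 + 1))) b' ∧
      locus b' = D.map (hk x).some.left ⁻¹ᵁ locus (b x.1) := fun x ↦
    exists_push (D.map (j x.1).hom) (D.map (hk x).some.left)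
      (by rw [← D.map_comp]; congr 1; exact Over.w (hk x).some) (hb x.1)
  choose b' hb' hloc using hpush
  let U : (D.obj k.left).Opens := ⨆ x : t, locus (b' x)
  have hU : c.π.app k.left ⁻¹ᵁ U = ⊤ := by
    rw [eq_top_iff]
    intro x _
    obtain ⟨y, hy, hxy⟩ := Set.mem_iUnion₂.1 (ht (Set.mem_univ x))
    refine Opens.mem_iSup.2 ⟨⟨y, hy⟩, ?_⟩
    change x ∈ c.π.app k.left ⁻¹ᵁ locus (b' ⟨y, hy⟩)
    rw [hloc ⟨y, hy⟩, preimage_preimage D c]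
    exact hxy
  obtain ⟨l, f, hf⟩ := exists_map_eq_top D c hc U hU
  refine ⟨l, f ≫ k.hom, (hW.pullback (D.map (f ≫ k.hom))).isAmple_iff.2 ⟨inferInstance, fun y ↦ ?_⟩⟩
  have hy : D.map f y ∈ U := hf.ge (Set.mem_univ y)
  obtain ⟨x, hx⟩ := Opens.mem_iSup.1 hy
  obtain ⟨b'', hb'', hl''⟩ := exists_push (D.map k.hom) (D.map f) (D.map_comp f k.hom).symm (hb' x)
  refine ⟨m x.1, b'', ?_, ?_, ?_⟩
  · intro k' l'
    have h1 := hb'' k' l'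
    dsimp only at h1 ⊢
    rw [map_pow] at h1
    exact h1
  · change y ∈ locus b''
    rw [hl'']
    exact hx
  · change IsAffineOpen (locus b'')
    rw [hl'', hloc x]
    exact ((hba x.1).preimage _).preimage _

end Groth.Agent.Flat2H.AmpleLimit
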