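import Groth.Agent.Ega3B.LimInv4
import Groth.Agent.Flat2H.AmpleLimit

/-!
# Noetherian models of polarized proper flat morphisms

* `Mdl.exists_isAmple`: ampleness of an invertible module descends to a base change of a model;
* `exists_proper_flat_ample_model(_Spec)`: `(X → Spec A proper flat f.p., L ample)` comes from a finitely generated
  subring, with `X₀ → Spec A₀` proper flat f.p. and `L₀` ample.
-/

set_option autoImplicit false
universe u
open CategoryTheory Limits AlgebraicGeometry TopologicalSpace Opposite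

namespace Groth.Agent.Flat2H.AmpleModel

open Groth.Agent.CalgA.LimFP Groth.Agent.Ega3B.LimInv Groth.Agent.Flat2H.FamDict Groth.Agent.Fdesc.LocGen

variable {I : Type u} [SmallCategory I] {D : I ⥤ Scheme.{u}} {c : Cone D}
  [IsCofiltered I] [∀ (i j : I) (f : i ⟶ j), IsAffineHom (D.map f)] (hc : IsLimit c)
  [∀ i, CompactSpace (D.obj i)] [∀ i, QuasiSeparatedSpace (D.obj i)]
  {X : Scheme.{u}} {f' : X ⟶ c.pt}

attribute [local instance] Mdl.lfp Mdl.qc Mdl.qs

include hc in
/-- An invertible module on a model whose pullback to the limit is ample becomes ample at a later stage. -/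
theorem Mdl.exists_isAmple {i : I} (M : Mdl f' i) {L₀ : M.A.Modules} (hL₀ : PicF.IsInvertible L₀)
    (h : CohB1.IsAmple ((Scheme.Modules.pullback M.p).obj L₀)) :
    ∃ (j : I) (a : j ⟶ i), CohB1.IsAmple ((Scheme.Modules.pullback (pullback.fst M.f (D.map a))).obj L₀) := by
  have h1 : ∀ {j k : Over i} (a : j ⟶ k), IsAffineHom ((bcDiagram D M.f).map a) :=
    fun a => isAffineHom_bcDiagram_map a
  have h2 : ∀ j, CompactSpace ((bcDiagram D M.f).obj j) := fun j => compactSpace_bcDiagram_obj j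
  have h3 : ∀ j, QuasiSeparatedSpace ((bcDiagram D M.f).obj j) := fun j => quasiSeparatedSpace_bcDiagram_obj j
  let j₀ : Over i := Over.mk (𝟙 i)
  let q : (bcDiagram D M.f).obj j₀ ⟶ M.A := pullback.fst M.f (D.map (𝟙 i))
  have hq : PicF.IsInvertible ((Scheme.Modules.pullback q).obj L₀) := isInvertible_pullback q hL₀
  have hπ : (bcCone M.h).π.app j₀ ≫ q = M.p := by
    simp only [q, bcCone]
    exact pullback.lift_fst _ _ _
  have h4 : CohB1.IsAmple ((Scheme.Modules.pullback ((bcCone M.h).π.app j₀)).obj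
      ((Scheme.Modules.pullback q).obj L₀)) := by
    refine isAmple_of_iso ?_ h
    exact (Scheme.Modules.pullbackCongr hπ).symm.app L₀ ≪≫ (Scheme.Modules.pullbackComp _ q).symm.app L₀
  obtain ⟨j, a, hj⟩ := AmpleLimit.exists_isAmple_pullback (isLimitBcCone hc M.h) hq h4
  refine ⟨j.left, j.hom, isAmple_of_iso ?_ hj⟩
  have hq' : (bcDiagram D M.f).map a ≫ q = pullback.fst M.f (D.map j.hom) := by
    simp only [q, bcDiagram]
    exact pullback.lift_fst _ _ _
  exact (Scheme.Modules.pullbackComp _ q).app L₀ ≪≫ (Scheme.Modules.pullbackCongr hq').app L₀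

include hc in
/-- A polarized proper flat finitely presented `X` over the limit comes from a stage. -/
theorem exists_proper_flat_ample_model [IsProper f'] [Flat f'] [LocallyOfFinitePresentation f'] {L : X.Modules}
    (hL : CohB1.IsAmple L) :
    ∃ (i : I) (X₀ : Scheme.{u}) (f₀ : X₀ ⟶ D.obj i) (p : X ⟶ X₀) (L₀ : X₀.Modules),
      IsPullback p f' f₀ (c.π.app i) ∧ IsProper f₀ ∧ Flat f₀ ∧ LocallyOfFinitePresentation f₀ ∧
      CohB1.IsAmple L₀ ∧ Nonempty ((Scheme.Modules.pullback p).obj L₀ ≅ L) := by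
  obtain ⟨i, ⟨M⟩⟩ := exists_mdl (D := D) (c := c) hc (f' := f')
  obtain ⟨j, a, h⟩ := Mdl.exists_isProper hc M
  obtain ⟨j', a', h'⟩ := Mdl.exists_flat hc (M.bc a)
  obtain ⟨k, b, L₀, hL₀, ⟨e⟩⟩ := Mdl.exists_invertible hc ((M.bc a).bc a') hL.1
  let N := (((M.bc a).bc a').bc b)
  obtain ⟨l, d, hl⟩ := Mdl.exists_isAmple hc N hL₀ (isAmple_of_iso e.symm hL)
  refine ⟨l, _, (N.bc d).f, (N.bc d).p, (Scheme.Modules.pullback (pullback.fst N.f (D.map d))).obj L₀, (N.bc d).h,
    inferInstance, inferInstance, inferInstance, hl, ⟨?_⟩⟩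
  have hp : (N.bc d).p ≫ pullback.fst N.f (D.map d) = N.p := by
    simp only [Mdl.bc]
    exact pullback.lift_fst _ _ _
  exact (Scheme.Modules.pullbackComp _ _).app L₀ ≪≫ (Scheme.Modules.pullbackCongr hp).app L₀ ≪≫ e

section Spec

open Groth.Agent.Flat2D.SpecFGLimit

/-- A polarized proper flat finitely presented `X` over `Spec A` comes from the spectrum of a finitely
generated subring. -/
theorem exists_proper_flat_ample_model_Spec (A : Type u) [CommRing A] {X : Scheme.{u}}
    (f : X ⟶ Spec (CommRingCat.of A))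
    [IsProper f] [Flat f] [LocallyOfFinitePresentation f] {L : X.Modules} (hL : CohB1.IsAmple L) :
    ∃ (S : Subalgebra ℤ A) (_ : S.FG) (X₀ : Scheme.{u}) (f₀ : X₀ ⟶ Spec (CommRingCat.of S)) (p : X ⟶ X₀)
      (L₀ : X₀.Modules), IsPullback p f f₀ (Spec.map (CommRingCat.ofHom S.val.toRingHom)) ∧ IsProper f₀ ∧
      Flat f₀ ∧ LocallyOfFinitePresentation f₀ ∧ CohB1.IsAmple L₀ ∧
      Nonempty ((Scheme.Modules.pullback p).obj L₀ ≅ L) := by
  have i1 : ∀ i, CompactSpace ((specDiagram A).obj i) := fun i => inferInstance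
  have i2 : ∀ i, QuasiSeparatedSpace ((specDiagram A).obj i) := fun i => inferInstance
  have i3 : LocallyOfFinitePresentation (Y := (specCone A).pt) f := ‹_›
  have i4 : IsProper (Y := (specCone A).pt) f := ‹_›
  have i5 : Flat (Y := (specCone A).pt) f := ‹_›
  obtain ⟨i, X₀, f₀, p, L₀, h1, h2, h3, h4, h5, h6⟩ := exists_proper_flat_ample_model (D := specDiagram A)
    (c := specCone A) (isLimitSpecCone A) (f' := f) hL
  exact ⟨i.unop.1, i.unop.2, X₀, f₀, p, L₀, h1, h2, h3, h4, h5, h6⟩

end Spec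

end Groth.Agent.Flat2H.AmpleModel
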