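import Mathlib.AlgebraicGeometry.Morphisms.RingHomProperties
import Mathlib.AlgebraicGeometry.Pullbacks
import Mathlib.AlgebraicGeometry.AffineScheme

/-!
# Properties of the diagonal, affine-locally

`of_diagonal`: if a property `P` of morphisms with `HasRingHomProperty P Q` holds for the diagonal of `f`, then `Q` holds
for the multiplication maps `B ⊗_A B → B` for all affine opens.
-/

set_option autoImplicit false
universe u

open CategoryTheory CategoryTheory.Limits AlgebraicGeometry TensorProduct

namespace Groth.Agent.Flat2H.DiagLocal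

/-- A local property of the diagonal restricts to open pieces. -/
theorem diagonal_of_openImmersion (P : MorphismProperty Scheme.{u}) [IsZariskiLocalAtTarget P]
    [IsZariskiLocalAtSource P] {X Y X' Y' : Scheme.{u}} (f : X ⟶ Y) (f' : X' ⟶ Y') (u : X' ⟶ X) (v : Y' ⟶ Y)
    [IsOpenImmersion u] [IsOpenImmersion v] (w : f' ≫ v = u ≫ f) (h : P (pullback.diagonal f)) :
    P (pullback.diagonal f') := by
  let j : pullback f' f' ⟶ pullback f f := pullback.map f' f' f f u u v w w
  have h1 : pullback.diagonal f' ≫ j = u ≫ pullback.diagonal f := by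
    apply pullback.hom_ext
    · rw [Category.assoc, Category.assoc, pullback.diagonal_fst, pullback.lift_fst, pullback.diagonal_fst_assoc,
        Category.comp_id]
    · rw [Category.assoc, Category.assoc, pullback.diagonal_snd, pullback.lift_snd, pullback.diagonal_snd_assoc,
        Category.comp_id]
  have h2 : P (pullback.diagonal f' ≫ j) := by
    rw [h1]
    exact IsZariskiLocalAtSource.comp h u
  have h3 : IsPullback (𝟙 _) (pullback.diagonal f') (pullback.diagonal f' ≫ j) j :=
    IsPullback.of_horiz_isIso_mono ⟨by simp⟩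
  exact IsZariskiLocalAtTarget.of_isPullback h3 h2

variable (P : MorphismProperty Scheme.{u})
  {Q : ∀ {R S : Type u} [CommRing R] [CommRing S], (R →+* S) → Prop}

theorem of_diagonal_Spec (hPQ : HasRingHomProperty P Q) (R S : Type u) [CommRing R] [CommRing S] [Algebra R S]
    (h : P (pullback.diagonal (Spec.map (CommRingCat.ofHom (algebraMap R S))))) :
    Q (Algebra.TensorProduct.lmul' R : S ⊗[R] S →ₐ[R] S).toRingHom := by
  rw [diagonal_SpecMap, P.cancel_right_of_respectsIso] at h
  exact (HasRingHomProperty.Spec_iff (P := P)).1 h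

/-- If `P` holds for the diagonal of `f` then `Q` holds for the multiplication map of `O_X(U)` over `O_Y(V)`. -/
theorem of_diagonal (hPQ : HasRingHomProperty P Q) {X Y : Scheme.{u}} (f : X ⟶ Y) (h : P (pullback.diagonal f))
    {V : Y.Opens} {U : X.Opens} (hV : IsAffineOpen V) (hU : IsAffineOpen U) (e : U ≤ f ⁻¹ᵁ V) :
    letI := (f.appLE V U e).hom.toAlgebra
    Q (Algebra.TensorProduct.lmul' Γ(Y, V) : Γ(X, U) ⊗[Γ(Y, V)] Γ(X, U) →ₐ[Γ(Y, V)] Γ(X, U)).toRingHom := by
  let _ := (f.appLE V U e).hom.toAlgebra
  refine of_diagonal_Spec P hPQ Γ(Y, V) Γ(X, U) ?_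
  refine diagonal_of_openImmersion P f _ hU.fromSpec hV.fromSpec ?_ h
  exact hV.SpecMap_appLE_fromSpec f hU e

end Groth.Agent.Flat2H.DiagLocal
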