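import Groth.Agent.Flat2H.FPInf
import Mathlib.RingTheory.Finiteness.Descent
import Mathlib.LinearAlgebra.TensorProduct.Pi
import Mathlib.RingTheory.Localization.Finiteness
import Mathlib.RingTheory.Localization.BaseChange
import Mathlib.RingTheory.Flat.Localization
import Mathlib.RingTheory.Flat.FaithfullyFlat.Descent
import Mathlib.RingTheory.Polynomial.Basic
import Mathlib.RingTheory.Polynomial.Quotient
import Mathlib.Algebra.MvPolynomial.Equiv

/-!
# Modules of type FP_n: flat base change, descent, Zariski locality, change of rings
-/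

set_option autoImplicit false
universe u

namespace Groth.Agent.Flat2H

open TensorProduct

section basechange

variable {A : Type u} [CommRing A]

theorem baseChange_exact_data (B : Type u) [CommRing B] [Algebra A B] [Module.Flat A B]
    {M' M M'' : Type u} [AddCommGroup M'] [Module A M'] [AddCommGroup M] [Module A M]
    [AddCommGroup M''] [Module A M''] (f : M' →ₗ[A] M) (g : M →ₗ[A] M'') (hf : Function.Injective f)
    (hg : Function.Surjective g) (hfg : Function.Exact f g) :
    Function.Injective (f.baseChange B) ∧ Function.Surjective (g.baseChange B) ∧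
      Function.Exact (f.baseChange B) (g.baseChange B) :=
  ⟨Module.Flat.lTensor_preserves_injective_linearMap (M := B) f hf,
    LinearMap.lTensor_surjective B hg, lTensor_exact B hfg hg⟩

/-- flat base change -/
theorem FPn.baseChange (B : Type u) [CommRing B] [Algebra A B] [Module.Flat A B] {n : ℕ}
    {M : Type u} [AddCommGroup M] [Module A M] (h : FPn A n M) : FPn B n (B ⊗[A] M) := by
  induction n generalizing M with
  | zero =>
    have : Module.Finite A M := h
    exact (inferInstance : Module.Finite B (B ⊗[A] M))
  | succ n ih =>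
    obtain ⟨k, f, hf, hk⟩ := h
    obtain ⟨h1, h2, h3⟩ := baseChange_exact_data B (LinearMap.ker f).subtype f
      (Submodule.subtype_injective _) hf (by intro x; simp)
    exact FPn.right _ _ h1 h2 h3 (ih hk)
      (FPn.of_equiv_pi (n + 1) (TensorProduct.piScalarRight A B B (Fin k)))

theorem FPInf.baseChange (B : Type u) [CommRing B] [Algebra A B] [Module.Flat A B]
    {M : Type u} [AddCommGroup M] [Module A M] (h : FPInf A M) : FPInf B (B ⊗[A] M) :=
  fun n => (h n).baseChange B

theorem FPn.of_isBaseChange {B : Type u} [CommRing B] [Algebra A B] [Module.Flat A B] {n : ℕ}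
    {M N : Type u} [AddCommGroup M] [Module A M] [AddCommGroup N] [Module A N] [Module B N]
    [IsScalarTower A B N] {g : M →ₗ[A] N} (hg : IsBaseChange B g) (h : FPn A n M) : FPn B n N :=
  (h.baseChange B).of_equiv hg.equiv

theorem FPInf.of_isBaseChange {B : Type u} [CommRing B] [Algebra A B] [Module.Flat A B]
    {M N : Type u} [AddCommGroup M] [Module A M] [AddCommGroup N] [Module A N] [Module B N]
    [IsScalarTower A B N] {g : M →ₗ[A] N} (hg : IsBaseChange B g) (h : FPInf A M) : FPInf B N :=
  fun n => (h n).of_isBaseChange hg

/-- Descent along any family of flat ring maps that detects finite generation. -/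
theorem FPn.descend {ι : Type*} (B : ι → Type u) [∀ i, CommRing (B i)] [∀ i, Algebra A (B i)]
    [∀ i, Module.Flat A (B i)]
    (H : ∀ (M : Type u) [AddCommGroup M] [Module A M],
      (∀ i, Module.Finite (B i) (B i ⊗[A] M)) → Module.Finite A M)
    {n : ℕ} {M : Type u} [AddCommGroup M] [Module A M] (h : ∀ i, FPn (B i) n (B i ⊗[A] M)) :
    FPn A n M := by
  induction n generalizing M with
  | zero => exact H M h
  | succ n ih =>
    have hfin : Module.Finite A M := H M fun i => (h i).finite
    obtain ⟨k, f, hf⟩ := Module.Finite.exists_fin' A M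
    refine ⟨k, f, hf, ih fun i => ?_⟩
    obtain ⟨h1, h2, h3⟩ := baseChange_exact_data (B i) (LinearMap.ker f).subtype f
      (Submodule.subtype_injective _) hf (by intro x; simp)
    exact FPn.left _ _ h1 h2 h3
      (FPn.of_equiv_pi n (TensorProduct.piScalarRight A (B i) (B i) (Fin k))) (h i)

/-- faithfully flat descent -/
theorem FPn.of_faithfullyFlat (B : Type u) [CommRing B] [Algebra A B] [Module.FaithfullyFlat A B]
    {n : ℕ} {M : Type u} [AddCommGroup M] [Module A M] (h : FPn B n (B ⊗[A] M)) : FPn A n M := by
  refine FPn.descend (fun _ : Unit => B) ?_ (fun _ => h)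
  intro M _ _ hM
  have := hM ()
  exact Module.Finite.of_finite_tensorProduct_of_faithfullyFlat B

theorem FPInf.of_faithfullyFlat (B : Type u) [CommRing B] [Algebra A B] [Module.FaithfullyFlat A B]
    {M : Type u} [AddCommGroup M] [Module A M] (h : FPInf B (B ⊗[A] M)) : FPInf A M :=
  fun n => (h n).of_faithfullyFlat B

/-- Zariski locality -/
theorem FPn.of_localizationSpan (s : Set A) (hs : Ideal.span s = ⊤) {n : ℕ} {M : Type u}
    [AddCommGroup M] [Module A M]
    (h : ∀ g : s, FPn (Localization.Away g.1) n (Localization.Away g.1 ⊗[A] M)) : FPn A n M := by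
  refine FPn.descend (fun g : s => Localization.Away g.1) ?_ h
  intro M _ _ hM
  refine Module.Finite.of_localizationSpan' s hs (Rₚ := fun g => Localization.Away g.1)
    (Mₚ := fun g : s => Localization.Away g.1 ⊗[A] M)
    (fun g => TensorProduct.mk A (Localization.Away g.1) M 1) hM

theorem FPInf.of_localizationSpan (s : Set A) (hs : Ideal.span s = ⊤) {M : Type u}
    [AddCommGroup M] [Module A M]
    (h : ∀ g : s, FPInf (Localization.Away g.1) (Localization.Away g.1 ⊗[A] M)) : FPInf A M :=
  fun n => FPn.of_localizationSpan s hs fun g => h g n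

end basechange

section restrict

variable {R S : Type u} [CommRing R] [CommRing S] [Algebra R S]

theorem FPn.pi_of {n : ℕ} {M : Type u} [AddCommGroup M] [Module R M] (h : FPn R n M) (k : ℕ) :
    FPn R n (Fin k → M) := by
  induction k with
  | zero => exact FPn.of_subsingleton _ _
  | succ k ih => exact (h.prod ih).of_equiv (Fin.consLinearEquiv R (fun _ : Fin (k + 1) => M))

theorem FPn.of_smul_tower (h : FPInf R S) {n : ℕ} {M : Type u} [AddCommGroup M] [Module R M]
    [Module S M] [IsScalarTower R S M] (hM : FPn S n M) : FPn R n M := by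
  induction n generalizing M with
  | zero =>
    have : Module.Finite S M := hM
    have := h.finite
    exact Module.Finite.trans S M
  | succ n ih =>
    obtain ⟨k, f, hf, hk⟩ := hM
    exact FPn.right ((LinearMap.ker f).subtype.restrictScalars R) (f.restrictScalars R)
      (Submodule.subtype_injective _) hf (by intro x; simp) (ih hk) ((h (n + 1)).pi_of k)

theorem FPn.to_smul_tower (h : FPInf R S) {n : ℕ} {M : Type u} [AddCommGroup M] [Module R M]
    [Module S M] [IsScalarTower R S M] (hM : FPn R n M) : FPn S n M := by
  induction n generalizing M with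
  | zero =>
    have : Module.Finite R M := hM
    exact Module.Finite.of_restrictScalars_finite R S M
  | succ n ih =>
    have : Module.Finite R M := hM.finite
    have : Module.Finite S M := Module.Finite.of_restrictScalars_finite R S M
    obtain ⟨k, f, hf⟩ := Module.Finite.exists_fin' S M
    refine ⟨k, f, hf, ih ?_⟩
    exact FPn.left ((LinearMap.ker f).subtype.restrictScalars R) (f.restrictScalars R)
      (Submodule.subtype_injective _) hf (by intro x; simp) ((h n).pi_of k) hM

/-- If `S` is `FPInf` over `R`, an `S`-module is `FPn` over `S` iff it is so over `R`. -/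
theorem FPn.tower_iff (h : FPInf R S) {n : ℕ} {M : Type u} [AddCommGroup M] [Module R M]
    [Module S M] [IsScalarTower R S M] : FPn S n M ↔ FPn R n M :=
  ⟨FPn.of_smul_tower h, FPn.to_smul_tower h⟩

theorem FPInf.tower_iff (h : FPInf R S) {M : Type u} [AddCommGroup M] [Module R M]
    [Module S M] [IsScalarTower R S M] : FPInf S M ↔ FPInf R M :=
  ⟨fun hM n => FPn.of_smul_tower h (hM n), fun hM n => FPn.to_smul_tower h (hM n)⟩

/-- If `algebraMap R S` is bijective then `S` is `FPInf` over `R`. -/
theorem FPInf.of_bijective (h : Function.Bijective (algebraMap R S)) : FPInf R S :=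
  (FPInf.of_projective (A := R) R).of_equiv (LinearEquiv.ofBijective (Algebra.linearMap R S) h)

/-- Quotient by a nonzerodivisor: if `R → S` is surjective with kernel generated by a
nonzerodivisor, `S` is `FPInf` over `R`. -/
theorem FPInf.of_ker_span_singleton (hs : Function.Surjective (algebraMap R S)) (a : R)
    (ha : a ∈ nonZeroDivisors R) (hk : RingHom.ker (algebraMap R S) = Ideal.span {a}) :
    FPInf R S := by
  refine FPInf.right (LinearMap.mulLeft R a) (Algebra.linearMap R S) ?_ hs ?_
    (FPInf.of_projective R) (FPInf.of_projective R)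
  · intro x y hxy
    simp only [LinearMap.mulLeft_apply] at hxy
    have : a * (x - y) = 0 := by rw [mul_sub, hxy, sub_self]
    exact sub_eq_zero.1 ((mul_left_mem_nonZeroDivisors_eq_zero_iff ha).1 this)
  · intro x
    have : Algebra.linearMap R S x = 0 ↔ x ∈ Ideal.span {a} := by
      rw [← hk]; rfl
    rw [this, Ideal.mem_span_singleton']
    constructor
    · rintro ⟨b, rfl⟩; exact ⟨b, by simp [mul_comm]⟩
    · rintro ⟨b, rfl⟩; exact ⟨b, by simp [mul_comm]⟩

theorem FPInf.trans_alg {T : Type u} [CommRing T] [Algebra R T] [Algebra S T] [IsScalarTower R S T]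
    (h : FPInf R S) (h' : FPInf S T) : FPInf R T := (FPInf.tower_iff h).1 h'

end restrict

end Groth.Agent.Flat2H
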