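import Mathlib.RingTheory.Finiteness.Basic
import Mathlib.RingTheory.Finiteness.Finsupp
import Mathlib.RingTheory.Finiteness.Cardinality
import Mathlib.LinearAlgebra.FreeModule.Basic
import Mathlib.LinearAlgebra.FreeModule.Finite.Basic
import Mathlib.LinearAlgebra.Basis.VectorSpace
import Mathlib.Algebra.Exact.Basic
import Mathlib.Algebra.Module.Projective
import Mathlib.RingTheory.Finiteness.Projective

/-!
# Modules of type `FP_n` and `FP_∞`

`FP R n M`: `M` has a partial resolution `F_n → ⋯ → F_0 → M → 0` by finite free modules.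
`PC R M`: for all `n` (pseudo-coherent modules).
-/

set_option autoImplicit false
universe u

namespace Groth.Agent.Flat2H.FPn

variable (R : Type u) [CommRing R]

/-- `M` is of type `FP_n`. -/
def FP : ℕ → ∀ (M : Type u) [AddCommGroup M] [Module R M], Prop
  | 0, M, _, _ => Module.Finite R M
  | n + 1, M, _, _ => ∃ (k : ℕ) (f : (Fin k → R) →ₗ[R] M), Function.Surjective f ∧
      FP n (LinearMap.ker f)

/-- Pseudo-coherent modules: of type `FP_n` for all `n`. -/
def PC (M : Type u) [AddCommGroup M] [Module R M] : Prop := ∀ n, FP R n M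

variable {R}
variable {M M' M'' : Type u} [AddCommGroup M] [Module R M] [AddCommGroup M'] [Module R M']
  [AddCommGroup M''] [Module R M'']

theorem fp_zero_iff : FP R 0 M ↔ Module.Finite R M := Iff.rfl

theorem fp_succ_iff {n : ℕ} : FP R (n + 1) M ↔ ∃ (k : ℕ) (f : (Fin k → R) →ₗ[R] M),
    Function.Surjective f ∧ FP R n (LinearMap.ker f) := Iff.rfl

theorem FP.finite {n : ℕ} (h : FP R n M) : Module.Finite R M := by
  cases n with
  | zero => exact h
  | succ n =>
    obtain ⟨k, f, hf, -⟩ := h
    exact Module.Finite.of_surjective f hf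

theorem FP.of_equiv {n : ℕ} (e : M ≃ₗ[R] M') (h : FP R n M) : FP R n M' := by
  cases n with
  | zero =>
    have : Module.Finite R M := h
    exact Module.Finite.equiv e
  | succ n =>
    obtain ⟨k, f, hf, hk⟩ := h
    refine ⟨k, e.toLinearMap ∘ₗ f, e.surjective.comp hf, ?_⟩
    have : LinearMap.ker (e.toLinearMap ∘ₗ f) = LinearMap.ker f := by
      rw [LinearEquiv.ker_comp]
    rw [this]
    exact hk

theorem fp_congr {n : ℕ} (e : M ≃ₗ[R] M') : FP R n M ↔ FP R n M' :=
  ⟨FP.of_equiv e, FP.of_equiv e.symm⟩

theorem FP.of_succ {n : ℕ} (h : FP R (n + 1) M) : FP R n M := by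
  induction n generalizing M with
  | zero => exact h.finite
  | succ n ih =>
    obtain ⟨k, f, hf, hk⟩ := h
    exact ⟨k, f, hf, ih hk⟩

theorem FP.of_le {n m : ℕ} (hnm : n ≤ m) (h : FP R m M) : FP R n M := by
  induction m, hnm using Nat.le_induction with
  | base => exact h
  | succ m _ ih => exact ih h.of_succ

theorem FP.of_subsingleton [Subsingleton M] (n : ℕ) : FP R n M := by
  induction n generalizing M with
  | zero => exact (inferInstance : Module.Finite R M)
  | succ n ih =>
    refine ⟨0, 0, fun x => ⟨0, Subsingleton.elim _ _⟩, ih⟩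

/-- Horseshoe: extensions of `FP_n` modules are `FP_n`. -/
theorem FP.of_exact_mid {n : ℕ} (f : M' →ₗ[R] M) (g : M →ₗ[R] M'') (hf : Function.Injective f)
    (hg : Function.Surjective g) (hfg : Function.Exact f g) (h' : FP R n M') (h'' : FP R n M'') :
    FP R n M := by
  induction n generalizing M M' M'' with
  | zero =>
    have : Module.Finite R M' := h'
    have : Module.Finite R M'' := h''
    have h1 : Module.Finite R (LinearMap.range f) := Module.Finite.range f
    have : LinearMap.ker g = LinearMap.range f := hfg.linearMap_ker_eq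
    have h2 : (LinearMap.ker g).FG := by rw [this]; exact Module.Finite.iff_fg.1 h1
    refine ⟨Submodule.fg_of_fg_map_of_fg_inf_ker g ?_ ?_⟩
    · rw [Submodule.map_top, LinearMap.range_eq_top.2 hg]; exact Module.Finite.fg_top
    · rwa [top_inf_eq]
  | succ n ih =>
    obtain ⟨a, p, hp, hpk⟩ := h'
    obtain ⟨b, q, hq, hqk⟩ := h''
    obtain ⟨q', hq'⟩ := Module.projective_lifting_property g q hg
    -- the map (Fin a → R) × (Fin b → R) → M
    let r : (Fin a → R) × (Fin b → R) →ₗ[R] M := (f ∘ₗ p).coprod q'
    have hrapp : ∀ z, r z = f (p z.1) + q' z.2 := fun z => rfl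
    have hr : Function.Surjective r := by
      intro m
      obtain ⟨y, hy⟩ := hq (g m)
      have : g (m - q' y) = 0 := by
        rw [map_sub, ← hy, ← hq', LinearMap.comp_apply, sub_self]
      obtain ⟨m', hm'⟩ := (hfg _).1 this
      obtain ⟨x, hx⟩ := hp m'
      refine ⟨(x, y), ?_⟩
      rw [hrapp]
      simp only [hx, hm']
      abel
    -- kernels
    let α : LinearMap.ker p →ₗ[R] LinearMap.ker r :=
      LinearMap.codRestrict _ ((LinearMap.inl R (Fin a → R) (Fin b → R)) ∘ₗ (LinearMap.ker p).subtype)
        (by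
          rintro ⟨x, hx⟩
          rw [LinearMap.mem_ker] at hx
          rw [LinearMap.mem_ker, hrapp]
          simp [hx])
    have hgr : ∀ z, g (r z) = q z.2 := by
      intro z
      rw [hrapp, map_add, hfg.apply_apply_eq_zero, zero_add, ← LinearMap.comp_apply, hq']
    let β : LinearMap.ker r →ₗ[R] LinearMap.ker q :=
      LinearMap.codRestrict _ ((LinearMap.snd R (Fin a → R) (Fin b → R)) ∘ₗ (LinearMap.ker r).subtype)
        (by
          rintro ⟨x, hx⟩
          simp only [LinearMap.mem_ker] at hx ⊢
          have := hgr x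
          rw [hx, map_zero] at this
          simpa using this.symm)
    have hα : Function.Injective α := by
      intro x y hxy
      have := congrArg (fun z => z.1.1) hxy
      exact Subtype.ext this
    have hβ : Function.Surjective β := by
      rintro ⟨y, hy⟩
      have h1 : g (q' y) = 0 := by
        rw [← LinearMap.comp_apply, hq']; exact hy
      obtain ⟨m', hm'⟩ := (hfg _).1 h1
      obtain ⟨x, hx⟩ := hp m'
      refine ⟨⟨(-x, y), ?_⟩, ?_⟩
      · rw [LinearMap.mem_ker, hrapp]
        simp [hx, hm']
      · rfl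
    have hαβ : Function.Exact α β := by
      rintro ⟨⟨x, y⟩, hz⟩
      constructor
      · intro h
        have hy : y = 0 := congrArg Subtype.val h
        subst hy
        have hz' : f (p x) = 0 := by
          rw [LinearMap.mem_ker, hrapp] at hz
          simpa using hz
        have : p x = 0 := hf (by rw [hz', map_zero])
        exact ⟨⟨x, this⟩, rfl⟩
      · rintro ⟨w, hw⟩
        have := congrArg (fun z => z.1.2) hw
        apply Subtype.ext
        exact this.symm
    have hker : FP R n (LinearMap.ker r) := ih α β hα hβ hαβ hpk hqk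
    -- transport to Fin (a + b) → R
    let e : (Fin (a + b) → R) ≃ₗ[R] (Fin a → R) × (Fin b → R) :=
      (LinearEquiv.funCongrLeft R R finSumFinEquiv).trans (LinearEquiv.sumArrowLequivProdArrow _ _ R R)
    refine ⟨a + b, r ∘ₗ e.toLinearMap, hr.comp e.surjective, ?_⟩
    have : (LinearMap.ker (r ∘ₗ e.toLinearMap)) ≃ₗ[R] LinearMap.ker r := by
      refine LinearEquiv.ofBijective
        (LinearMap.codRestrict _ (e.toLinearMap ∘ₗ (LinearMap.ker (r ∘ₗ e.toLinearMap)).subtype) ?_) ⟨?_, ?_⟩
      · rintro ⟨x, hx⟩
        exact hx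
      · intro x y hxy
        have := congrArg Subtype.val hxy
        exact Subtype.ext (e.injective this)
      · rintro ⟨y, hy⟩
        refine ⟨⟨e.symm y, ?_⟩, ?_⟩
        · rw [LinearMap.mem_ker] at hy ⊢
          simpa using hy
        · apply Subtype.ext
          simp
    exact hker.of_equiv this.symm

theorem FP.prod {n : ℕ} (h' : FP R n M') (h'' : FP R n M'') : FP R n (M' × M'') :=
  FP.of_exact_mid (LinearMap.inl R M' M'') (LinearMap.snd R M' M'') LinearMap.inl_injective
    LinearMap.snd_surjective (by
      intro x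
      constructor
      · intro h
        exact ⟨x.1, Prod.ext rfl h.symm⟩
      · rintro ⟨y, rfl⟩
        rfl) h' h''

/-- quotients: `M'` `FP_n`, `M` `FP_{n+1}` gives `M''` `FP_{n+1}`. -/
theorem FP.of_exact_right {n : ℕ} (f : M' →ₗ[R] M) (g : M →ₗ[R] M'')
    (hf : Function.Injective f)
    (hg : Function.Surjective g) (hfg : Function.Exact f g) (h' : FP R n M')
    (h : FP R (n + 1) M) : FP R (n + 1) M'' := by
  obtain ⟨k, p, hp, hk⟩ := h
  refine ⟨k, g ∘ₗ p, hg.comp hp, ?_⟩
  -- 0 → ker p → ker (g ∘ p) → M' → 0
  let e := LinearEquiv.ofInjective f hf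
  let α : LinearMap.ker p →ₗ[R] LinearMap.ker (g ∘ₗ p) :=
    Submodule.inclusion (LinearMap.ker_le_ker_comp p g)
  let β : LinearMap.ker (g ∘ₗ p) →ₗ[R] M' :=
    e.symm.toLinearMap ∘ₗ (LinearMap.codRestrict (LinearMap.range f)
      (p ∘ₗ (LinearMap.ker (g ∘ₗ p)).subtype) (by
        rintro ⟨x, hx⟩
        exact (hfg _).1 hx))
  have hβe : ∀ x, f (β x) = p x.1 := by
    intro x
    have : e (β x) = ⟨p x.1, (hfg _).1 x.2⟩ := e.apply_symm_apply _
    have := congrArg Subtype.val this
    simpa [e] using this
  refine FP.of_exact_mid α β (Submodule.inclusion_injective _) ?_ ?_ hk h'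
  · intro m'
    obtain ⟨x, hx⟩ := hp (f m')
    refine ⟨⟨x, ?_⟩, hf ?_⟩
    · rw [LinearMap.mem_ker, LinearMap.comp_apply, hx, hfg.apply_apply_eq_zero]
    · rw [hβe, hx]
  · intro x
    constructor
    · intro h
      have : p x.1 = 0 := by rw [← hβe, h, map_zero]
      exact ⟨⟨x.1, this⟩, rfl⟩
    · rintro ⟨y, rfl⟩
      apply hf
      rw [hβe, map_zero]
      exact y.2

/-- kernels: `M` `FP_n`, `M''` `FP_{n+1}` gives `M'` `FP_n`. -/
theorem FP.of_exact_left {n : ℕ} (f : M' →ₗ[R] M) (g : M →ₗ[R] M'')
    (hf : Function.Injective f)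
    (hg : Function.Surjective g) (hfg : Function.Exact f g) (h : FP R n M)
    (h'' : FP R (n + 1) M'') : FP R n M' := by
  obtain ⟨k, q, hq, hk⟩ := h''
  obtain ⟨q', hq'⟩ := Module.projective_lifting_property g q hg
  -- the module M' × F'' is an extension of M by ker q
  let r : (M' × (Fin k → R)) →ₗ[R] M := f.coprod q'
  have hr : Function.Surjective r := by
    intro m
    obtain ⟨y, hy⟩ := hq (g m)
    have : g (m - q' y) = 0 := by
      rw [map_sub, ← hy, ← hq', LinearMap.comp_apply, sub_self]
    obtain ⟨m', hm'⟩ := (hfg _).1 this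
    refine ⟨(m', y), ?_⟩
    simp only [r, LinearMap.coprod_apply, hm']
    abel
  have hgr : ∀ z, g (r z) = q z.2 := by
    intro z
    simp only [r, LinearMap.coprod_apply, map_add]
    rw [hfg.apply_apply_eq_zero, zero_add, ← LinearMap.comp_apply, hq']
  -- ker r ≃ ker q
  let β : LinearMap.ker r →ₗ[R] LinearMap.ker q :=
    LinearMap.codRestrict _ ((LinearMap.snd R M' (Fin k → R)) ∘ₗ (LinearMap.ker r).subtype)
      (by
        rintro ⟨x, hx⟩
        simp only [LinearMap.mem_ker] at hx ⊢
        have := hgr x
        rw [hx, map_zero] at this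
        simpa using this.symm)
  have hβ : Function.Bijective β := by
    constructor
    · rw [injective_iff_map_eq_zero]
      rintro ⟨⟨x, y⟩, hz⟩ h
      have hy : y = 0 := congrArg Subtype.val h
      subst hy
      rw [LinearMap.mem_ker] at hz
      have : f x = 0 := by simpa [r] using hz
      have hx : x = 0 := hf (by rw [this, map_zero])
      subst hx
      rfl
    · rintro ⟨y, hy⟩
      have h1 : g (q' y) = 0 := by
        rw [← LinearMap.comp_apply, hq']; exact hy
      obtain ⟨m', hm'⟩ := (hfg _).1 h1
      refine ⟨⟨(-m', y), ?_⟩, rfl⟩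
      rw [LinearMap.mem_ker]
      simp [r, hm']
  have hker : FP R n (LinearMap.ker r) := hk.of_equiv (LinearEquiv.ofBijective β hβ).symm
  have hP : FP R n (M' × (Fin k → R)) :=
    FP.of_exact_mid (LinearMap.ker r).subtype r (Submodule.injective_subtype _) hr
      (LinearMap.exact_subtype_ker_map r) hker h
  -- M' is a quotient of M' × F'' by F''
  cases n with
  | zero =>
    have : Module.Finite R (M' × (Fin k → R)) := hP
    exact Module.Finite.of_surjective (LinearMap.fst R M' (Fin k → R)) LinearMap.fst_surjective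
  | succ n =>
    refine FP.of_exact_right (LinearMap.inr R M' (Fin k → R)) (LinearMap.fst R M' (Fin k → R))
      LinearMap.inr_injective LinearMap.fst_surjective ?_ ?_ hP
    · intro x
      constructor
      · intro h
        exact ⟨x.2, Prod.ext h.symm rfl⟩
      · rintro ⟨y, rfl⟩
        rfl
    · -- finite free is FP_n
      clear hP hker
      cases n with
      | zero => exact (inferInstance : Module.Finite R (Fin k → R))
      | succ n =>
        refine ⟨k, LinearMap.id, Function.surjective_id, ?_⟩
        have : Subsingleton (LinearMap.ker (LinearMap.id : (Fin k → R) →ₗ[R] (Fin k → R))) := by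
          rw [LinearMap.ker_id]
          infer_instance
        exact FP.of_subsingleton n

theorem FP.pi (k n : ℕ) : FP R n (Fin k → R) := by
  cases n with
  | zero => exact (inferInstance : Module.Finite R (Fin k → R))
  | succ n =>
    refine ⟨k, LinearMap.id, Function.surjective_id, ?_⟩
    have : Subsingleton (LinearMap.ker (LinearMap.id : (Fin k → R) →ₗ[R] (Fin k → R))) := by
      rw [LinearMap.ker_id]
      infer_instance
    exact FP.of_subsingleton n

theorem FP.self (n : ℕ) : FP R n R :=
  (FP.pi 1 n).of_equiv (LinearEquiv.funUnique (Fin 1) R R)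

/-- direct summands -/
theorem FP.of_retract {n : ℕ} (i : M' →ₗ[R] M) (p : M →ₗ[R] M') (hpi : p ∘ₗ i = LinearMap.id)
    (h : FP R n M) : FP R n M' := by
  induction n generalizing M M' with
  | zero =>
    have : Module.Finite R M := h
    exact Module.Finite.of_surjective p (fun x => ⟨i x, LinearMap.congr_fun hpi x⟩)
  | succ n ih =>
    have hp : Function.Surjective p := fun x => ⟨i x, LinearMap.congr_fun hpi x⟩
    -- ker p is a retract of M
    have hk : FP R n (LinearMap.ker p) := by
      refine ih (M := M) (M' := LinearMap.ker p) (LinearMap.ker p).subtype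
        (LinearMap.codRestrict _ (LinearMap.id - i ∘ₗ p) ?_) ?_ h.of_succ
      · intro x
        rw [LinearMap.mem_ker]
        have := LinearMap.congr_fun hpi (p x)
        simp only [LinearMap.comp_apply, LinearMap.id_apply] at this
        simp [this]
      · ext ⟨x, hx⟩
        rw [LinearMap.mem_ker] at hx
        simp [hx]
    exact FP.of_exact_right (LinearMap.ker p).subtype p (Submodule.injective_subtype _) hp
      (LinearMap.exact_subtype_ker_map p) hk h

theorem FP.of_projective [Module.Finite R M] [Module.Projective R M] (n : ℕ) : FP R n M := by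
  obtain ⟨k, f, g, hf, hg, hfg⟩ := Module.Finite.exists_comp_eq_id_of_projective R M
  exact FP.of_retract g f hfg (FP.pi k n)

/-- over a finite product decomposition: the kernel of any surjection from an `FP_n` module to an
`FP_{n+1}` module is `FP_n`. -/
theorem FP.ker {n : ℕ} (g : M →ₗ[R] M'') (hg : Function.Surjective g) (h : FP R n M)
    (h'' : FP R (n + 1) M'') : FP R n (LinearMap.ker g) :=
  FP.of_exact_left (LinearMap.ker g).subtype g (Submodule.injective_subtype _) hg
    (LinearMap.exact_subtype_ker_map g) h h''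

theorem FP.of_ker {n : ℕ} (g : M →ₗ[R] M'') (hg : Function.Surjective g) (h : FP R (n + 1) M)
    (h' : FP R n (LinearMap.ker g)) : FP R (n + 1) M'' :=
  FP.of_exact_right (LinearMap.ker g).subtype g (Submodule.injective_subtype _) hg
    (LinearMap.exact_subtype_ker_map g) h' h

/-! ### Pseudo-coherent modules -/

theorem PC.finite (h : PC R M) : Module.Finite R M := h 0

theorem PC.of_equiv (e : M ≃ₗ[R] M') (h : PC R M) : PC R M' := fun n => (h n).of_equiv e

theorem pc_congr (e : M ≃ₗ[R] M') : PC R M ↔ PC R M' := ⟨PC.of_equiv e, PC.of_equiv e.symm⟩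

theorem PC.self : PC R R := fun n => FP.self n

theorem PC.of_projective [Module.Finite R M] [Module.Projective R M] : PC R M :=
  fun n => FP.of_projective n

theorem PC.of_exact_mid (f : M' →ₗ[R] M) (g : M →ₗ[R] M'') (hf : Function.Injective f)
    (hg : Function.Surjective g) (hfg : Function.Exact f g) (h' : PC R M') (h'' : PC R M'') :
    PC R M := fun n => FP.of_exact_mid f g hf hg hfg (h' n) (h'' n)

theorem PC.of_exact_right (f : M' →ₗ[R] M) (g : M →ₗ[R] M'')
    (hf : Function.Injective f)
    (hg : Function.Surjective g) (hfg : Function.Exact f g) (h' : PC R M')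
    (h : PC R M) : PC R M'' :=
  fun n => (FP.of_exact_right f g hf hg hfg (h' n) (h (n + 1))).of_succ

theorem PC.of_exact_left (f : M' →ₗ[R] M) (g : M →ₗ[R] M'')
    (hf : Function.Injective f)
    (hg : Function.Surjective g) (hfg : Function.Exact f g) (h : PC R M)
    (h'' : PC R M'') : PC R M' :=
  fun n => FP.of_exact_left f g hf hg hfg (h n) (h'' (n + 1))

theorem PC.of_retract (i : M' →ₗ[R] M) (p : M →ₗ[R] M') (hpi : p ∘ₗ i = LinearMap.id)
    (h : PC R M) : PC R M' := fun n => (h n).of_retract i p hpi

theorem PC.ker (g : M →ₗ[R] M'') (hg : Function.Surjective g) (h : PC R M)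
    (h'' : PC R M'') : PC R (LinearMap.ker g) := fun n => FP.ker g hg (h n) (h'' (n + 1))

theorem PC.of_ker (g : M →ₗ[R] M'') (hg : Function.Surjective g) (h : PC R M)
    (h' : PC R (LinearMap.ker g)) : PC R M'' :=
  fun n => (FP.of_ker g hg (h (n + 1)) (h' n)).of_succ

theorem PC.prod (h' : PC R M') (h'' : PC R M'') : PC R (M' × M'') := fun n => (h' n).prod (h'' n)

end Groth.Agent.Flat2H.FPn
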