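import Mathlib.RingTheory.Smooth.Basic
import Mathlib.RingTheory.Smooth.Kaehler
import Mathlib.Algebra.TrivSqZeroExt.Basic

/-!
# Algebra of first order neighbourhoods

`A → B → C` with `A → C` surjective with square zero kernel `I`, `B → C` with square zero kernel `N`.
The module `P = C ⊗[B] Ω[B⁄A]` is the cokernel of `I → N`.  If it is projective over `C` and `I → B` is
injective then `A → B` has a retraction over `C`.
-/

set_option autoImplicit false

universe u

namespace Groth.Agent.Flat2H.FSAlg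

open TensorProduct KaehlerDifferential

theorem algebraMap_eq_zero_of_tmul_D {A B B₁ C : Type u} [CommRing A] [CommRing B] [CommRing B₁]
    [CommRing C] [Algebra A B] [Algebra A B₁] [Algebra A C] [Algebra B B₁] [Algebra B C]
    [Algebra B₁ C] [IsScalarTower A B B₁] [IsScalarTower A B C] [IsScalarTower A B₁ C]
    [IsScalarTower B B₁ C]
    (g : C →ₐ[A] B₁) (hg : (IsScalarTower.toAlgHom A B₁ C).comp g = AlgHom.id A C)
    (h1 : RingHom.ker (algebraMap B₁ C) ^ 2 = ⊥) (n : B) (hn : algebraMap B C n = 0)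
    (h : (1 : C) ⊗ₜ[B] KaehlerDifferential.D A B n = 0) : algebraMap B B₁ n = 0 := by
  let r := retractionOfSectionOfKerSqZero g h1 hg
  let φ : C ⊗[B] Ω[B⁄A] →ₗ[B₁] C ⊗[B₁] Ω[B₁⁄A] :=
    (LinearMap.lTensor C (KaehlerDifferential.mapBaseChange A B B₁)) ∘ₗ
      (TensorProduct.AlgebraTensorModule.cancelBaseChange B B₁ B₁ C (Ω[B⁄A])).symm.toLinearMap
  have h2 : φ (1 ⊗ₜ KaehlerDifferential.D A B n) =
      1 ⊗ₜ KaehlerDifferential.D A B₁ (algebraMap B B₁ n) := by
    simp [φ]
  rw [h, map_zero] at h2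
  have h3 : (r (1 ⊗ₜ KaehlerDifferential.D A B₁ (algebraMap B B₁ n)) : B₁) = _ :=
    retractionOfSectionOfKerSqZero_tmul_D g h1 hg 1 (algebraMap B B₁ n)
  rw [← h2, map_zero, ← IsScalarTower.algebraMap_apply, hn, map_one, one_mul, map_zero, mul_zero,
    sub_zero] at h3
  exact h3.symm

section

variable {A B C : Type u} [CommRing A] [CommRing B] [CommRing C] [Algebra A B] [Algebra A C]
  [Algebra B C] [IsScalarTower A B C]

theorem mul_eq_zero_of_ker_sq (hN : RingHom.ker (algebraMap B C) ^ 2 = ⊥) {x y : B}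
    (hx : algebraMap B C x = 0) (hy : algebraMap B C y = 0) : x * y = 0 := by
  have : x * y ∈ RingHom.ker (algebraMap B C) ^ 2 := by
    rw [pow_two]
    exact Ideal.mul_mem_mul hx hy
  rw [hN] at this
  exact this

theorem mem_map_ker_of_tmul_D (hAC : Function.Surjective (algebraMap A C))
    (hN : RingHom.ker (algebraMap B C) ^ 2 = ⊥) (n : B) (hn : algebraMap B C n = 0)
    (h : (1 : C) ⊗ₜ[B] KaehlerDifferential.D A B n = 0) :
    n ∈ (RingHom.ker (algebraMap A C)).map (algebraMap A B) := by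
  let J : Ideal B := (RingHom.ker (algebraMap A C)).map (algebraMap A B)
  have hJ : ∀ x ∈ J, algebraMap B C x = 0 := by
    have : J ≤ RingHom.ker (algebraMap B C) := by
      rw [Ideal.map_le_iff_le_comap]
      intro a ha
      change algebraMap B C (algebraMap A B a) = 0
      rw [← IsScalarTower.algebraMap_apply]
      exact ha
    exact this
  let alg : Algebra (B ⧸ J) C := (Ideal.Quotient.lift J (algebraMap B C) hJ).toAlgebra
  have t1 : IsScalarTower B (B ⧸ J) C := IsScalarTower.of_algebraMap_eq (fun x ↦ rfl)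
  have t2 : IsScalarTower A (B ⧸ J) C := IsScalarTower.of_algebraMap_eq (fun x ↦ by
    rw [IsScalarTower.algebraMap_apply A B C]
    rfl)
  let e : (A ⧸ RingHom.ker (Algebra.ofId A C)) ≃ₐ[A] C :=
    Ideal.quotientKerAlgEquivOfSurjective (f := Algebra.ofId A C) hAC
  let g : C →ₐ[A] B ⧸ J :=
    (Ideal.Quotient.liftₐ (RingHom.ker (Algebra.ofId A C)) (Algebra.ofId A (B ⧸ J)) (by
      intro a ha
      change algebraMap A (B ⧸ J) a = 0
      rw [IsScalarTower.algebraMap_apply A B (B ⧸ J)]
      exact Ideal.Quotient.eq_zero_iff_mem.mpr (Ideal.mem_map_of_mem _ ha))).comp e.symm.toAlgHom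
  have hg : (IsScalarTower.toAlgHom A (B ⧸ J) C).comp g = AlgHom.id A C := by
    ext c
    obtain ⟨a, rfl⟩ := hAC c
    rw [AlgHom.commutes, AlgHom.commutes]
  have h1 : RingHom.ker (algebraMap (B ⧸ J) C) ^ 2 = ⊥ := by
    rw [pow_two, ← le_bot_iff, Ideal.mul_le]
    intro x hx y hy
    obtain ⟨x, rfl⟩ := Ideal.Quotient.mk_surjective x
    obtain ⟨y, rfl⟩ := Ideal.Quotient.mk_surjective y
    rw [← map_mul, mul_eq_zero_of_ker_sq hN (show algebraMap B C x = 0 from hx)
      (show algebraMap B C y = 0 from hy), map_zero]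
    exact Ideal.zero_mem _
  have := algebraMap_eq_zero_of_tmul_D (B₁ := B ⧸ J) g hg h1 n hn h
  exact Ideal.Quotient.eq_zero_iff_mem.mp this

/-- The splitting: if `C ⊗[B] Ω[B⁄A]` is projective and `ker (A → C)` injects into `B` then
`A → B` has a retraction over `C`. -/
theorem exists_retraction (hAC : Function.Surjective (algebraMap A C))
    (hN : RingHom.ker (algebraMap B C) ^ 2 = ⊥)
    (hinj : ∀ x : A, algebraMap A C x = 0 → algebraMap A B x = 0 → x = 0)
    [Module.Projective C (C ⊗[B] Ω[B⁄A])] :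
    ∃ ρ : B →ₐ[A] A, ∀ x : B, algebraMap A C (ρ x) = algebraMap B C x := by
  have hBC : Function.Surjective (algebraMap B C) := by
    intro c
    obtain ⟨a, rfl⟩ := hAC c
    exact ⟨algebraMap A B a, (IsScalarTower.algebraMap_apply A B C a).symm⟩
  let E : Algebra.Extension A C :=
    { Ring := B
      σ := Function.surjInv hBC
      algebraMap_σ := Function.surjInv_eq hBC }
  have hΩ : Subsingleton (Ω[C⁄A]) := KaehlerDifferential.subsingleton_of_surjective A C hAC
  have hsurj : Function.Surjective E.cotangentComplex := by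
    intro x
    exact (E.exact_cotangentComplex_toKaehler x).mp (Subsingleton.elim _ _)
  have hP : Module.Projective C E.CotangentSpace := ‹Module.Projective C (C ⊗[B] Ω[B⁄A])›
  obtain ⟨s, hs⟩ := Module.projective_lifting_property E.cotangentComplex LinearMap.id hsurj
  have hs' : ∀ y, E.cotangentComplex (s y) = y := fun y ↦ congr($hs y)
  let S : Ideal B := Submodule.map (E.ker.subtype)
    (((LinearMap.range s).restrictScalars E.Ring).comap (Algebra.Extension.Cotangent.mk (P := E)))
  have hS : ∀ x : B, x ∈ S ↔ ∃ hx : x ∈ E.ker,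
      Algebra.Extension.Cotangent.mk (P := E) ⟨x, hx⟩ ∈ LinearMap.range s := by
    intro x
    constructor
    · rintro ⟨y, hy, rfl⟩
      exact ⟨y.2, hy⟩
    · rintro ⟨hx, hx'⟩
      exact ⟨⟨x, hx⟩, hx', rfl⟩
  -- elements of the ideal generated by the kernel come from the kernel
  have hIB : ∀ x ∈ (RingHom.ker (algebraMap A C)).map (algebraMap A B),
      ∃ a : A, algebraMap A C a = 0 ∧ algebraMap A B a = x := by
    intro x hx
    induction hx using Submodule.span_induction with
    | mem x h =>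
      obtain ⟨a, ha, rfl⟩ := h
      exact ⟨a, ha, rfl⟩
    | zero => exact ⟨0, map_zero _, map_zero _⟩
    | add x y _ _ hx hy =>
      obtain ⟨a, ha, rfl⟩ := hx
      obtain ⟨b, hb, rfl⟩ := hy
      exact ⟨a + b, by rw [map_add, ha, hb, add_zero], map_add _ _ _⟩
    | smul b x _ hx =>
      obtain ⟨a, ha, rfl⟩ := hx
      obtain ⟨c, hc⟩ := hAC (algebraMap B C b)
      refine ⟨c * a, by rw [map_mul, ha, mul_zero], ?_⟩
      rw [map_mul, smul_eq_mul, ← sub_eq_zero, ← sub_mul]
      refine mul_eq_zero_of_ker_sq hN ?_ ?_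
      · rw [map_sub, ← IsScalarTower.algebraMap_apply, hc, sub_self]
      · rw [← IsScalarTower.algebraMap_apply, ha]
  have hbij : Function.Bijective (Algebra.ofId A (B ⧸ S)) := by
    constructor
    · rw [injective_iff_map_eq_zero]
      intro a ha
      have h1 : algebraMap A B a ∈ S := Ideal.Quotient.eq_zero_iff_mem.mp ha
      obtain ⟨h2, y, hy⟩ := (hS _).mp h1
      have h3 : algebraMap A C a = 0 := by
        rw [IsScalarTower.algebraMap_apply A B C]
        exact h2
      refine hinj a h3 ?_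
      have h4 : y = 0 := by
        rw [← hs' y, hy, Algebra.Extension.cotangentComplex_mk]
        have : KaehlerDifferential.D A B (algebraMap A B a) = 0 := Derivation.map_algebraMap _ _
        change (1 : C) ⊗ₜ[B] KaehlerDifferential.D A B (algebraMap A B a) = 0
        rw [this, TensorProduct.tmul_zero]
      rw [h4, map_zero, eq_comm, Algebra.Extension.Cotangent.mk_eq_zero_iff] at hy
      have h5 : algebraMap A B a ∈ RingHom.ker (algebraMap B C) ^ 2 := hy
      rw [hN] at h5
      exact h5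
    · intro x
      obtain ⟨b, rfl⟩ := Ideal.Quotient.mk_surjective x
      obtain ⟨c, hc⟩ := hAC (algebraMap B C b)
      have h1 : algebraMap B C (b - algebraMap A B c) = 0 := by
        rw [map_sub, ← IsScalarTower.algebraMap_apply, hc, sub_self]
      -- the component in `S`
      obtain ⟨n', hn'⟩ := Algebra.Extension.Cotangent.mk_surjective (P := E)
        (s (E.cotangentComplex (Algebra.Extension.Cotangent.mk (P := E)
          ⟨b - algebraMap A B c, h1⟩)))
      have h2 : (n' : B) ∈ S := (hS _).mpr ⟨n'.2, ⟨_, hn'.symm⟩⟩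
      have h3 : (1 : C) ⊗ₜ[B] KaehlerDifferential.D A B (b - algebraMap A B c - n') = 0 := by
        have h4 : E.cotangentComplex (Algebra.Extension.Cotangent.mk (P := E)
            (⟨b - algebraMap A B c, h1⟩ - n')) = 0 := by
          rw [map_sub, map_sub, hn', hs', sub_self]
        rw [Algebra.Extension.cotangentComplex_mk] at h4
        exact h4
      obtain ⟨a, ha1, ha2⟩ := hIB _ (mem_map_ker_of_tmul_D hAC hN _ (by
        rw [map_sub, h1, show algebraMap B C n' = 0 from n'.2, sub_zero]) h3)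
      refine ⟨a + c, ?_⟩
      change Ideal.Quotient.mk S (algebraMap A B (a + c)) = Ideal.Quotient.mk S b
      rw [eq_comm, Ideal.Quotient.eq, map_add, ha2]
      convert h2 using 1
      ring
  let e : A ≃ₐ[A] B ⧸ S := AlgEquiv.ofBijective (Algebra.ofId A (B ⧸ S)) hbij
  refine ⟨e.symm.toAlgHom.comp (Ideal.Quotient.mkₐ A S), fun x ↦ ?_⟩
  set a : A := (e.symm.toAlgHom.comp (Ideal.Quotient.mkₐ A S)) x with ha
  have h1 : e a = Ideal.Quotient.mk S x := by
    rw [ha]
    exact e.apply_symm_apply _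
  have h2 : x - algebraMap A B a ∈ S := by
    rw [← Ideal.Quotient.eq, ← h1]
    rfl
  obtain ⟨h3, -⟩ := (hS _).mp h2
  have h4 : algebraMap B C (x - algebraMap A B a) = 0 := h3
  rw [map_sub, sub_eq_zero, ← IsScalarTower.algebraMap_apply] at h4
  exact h4.symm

end

section

/-- The graph of a derivation as an algebra homomorphism into the trivial square zero extension. -/
theorem exists_graph {A B C' M : Type u} [CommRing A] [CommRing B] [CommRing C'] [Algebra A B]
    [Algebra A C'] [Algebra B C'] [IsScalarTower A B C'] [AddCommGroup M] [Module C' M]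
    [Module C'ᵐᵒᵖ M] [IsCentralScalar C' M] [Module A M] [Module B M] [IsScalarTower A C' M]
    [IsScalarTower B C' M] (d : Derivation A B M) :
    ∃ φ : B →+* TrivSqZeroExt C' M, (∀ b, (φ b).fst = algebraMap B C' b) ∧
      (∀ b, (φ b).snd = d b) := by
  refine ⟨{ toFun := fun b ↦ TrivSqZeroExt.inl (algebraMap B C' b) + TrivSqZeroExt.inr (d b)
            map_one' := by simp
            map_zero' := by simp
            map_add' := fun x y ↦ by ext <;> simp
            map_mul' := fun x y ↦ by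
              ext
              · simp
              · simp [op_smul_eq_smul] }, fun b ↦ by simp, fun b ↦ by simp⟩

/-- The lifting property along square zero extensions of `C'` for `A`-algebra maps out of `B` over `C'`. -/
def HasLift (A B C' : Type u) [CommRing A] [CommRing B] [CommRing C'] [Algebra A B]
    [Algebra A C'] [Algebra B C'] : Prop :=
  ∀ (D₁ D₂ : Type u) [CommRing D₁] [CommRing D₂] (δ : A →+* D₁) (j₁ : D₁ →+* D₂)
      (j₂ : D₂ →+* C'), Function.Surjective j₁ → Function.Surjective j₂ →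
      RingHom.ker (j₂.comp j₁) ^ 2 = ⊥ → (∀ a, j₂ (j₁ (δ a)) = algebraMap A C' a) →
      ∀ φ₂ : B →+* D₂, (∀ a, φ₂ (algebraMap A B a) = j₁ (δ a)) →
      (∀ b, j₂ (φ₂ b) = algebraMap B C' b) →
        ∃ φ₁ : B →+* D₁, (∀ a, φ₁ (algebraMap A B a) = δ a) ∧ (∀ b, j₁ (φ₁ b) = φ₂ b)

theorem exists_derivation_lift {A B C' K₁ K₂ : Type u} [CommRing A] [CommRing B] [CommRing C']
    [Algebra A B] [Algebra A C'] [Algebra B C'] [IsScalarTower A B C']
    [AddCommGroup K₁] [AddCommGroup K₂] [Module C' K₁] [Module C' K₂] [Module A K₁] [Module A K₂]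
    [Module B K₁] [Module B K₂] [IsScalarTower A C' K₁] [IsScalarTower A C' K₂]
    [IsScalarTower B C' K₁] [IsScalarTower B C' K₂] (H : HasLift A B C')
    (q : K₁ →ₗ[C'] K₂) (hq : Function.Surjective q) (d₂ : Derivation A B K₂) :
    ∃ d₁ : Derivation A B K₁, ∀ b, q (d₁ b) = d₂ b := by
  let _ : Module C'ᵐᵒᵖ K₁ := Module.compHom K₁ ((RingHom.id C').fromOpposite mul_comm)
  let _ : Module C'ᵐᵒᵖ K₂ := Module.compHom K₂ ((RingHom.id C').fromOpposite mul_comm)
  have : IsCentralScalar C' K₁ := ⟨fun r m ↦ rfl⟩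
  have : IsCentralScalar C' K₂ := ⟨fun r m ↦ rfl⟩
  obtain ⟨φ₂, h1, h2⟩ := exists_graph (C' := C') d₂
  let δ : A →+* TrivSqZeroExt C' K₁ := (TrivSqZeroExt.inlHom C' K₁).comp (algebraMap A C')
  let j₁ : TrivSqZeroExt C' K₁ →+* TrivSqZeroExt C' K₂ := (TrivSqZeroExt.map q).toRingHom
  let j₂ : TrivSqZeroExt C' K₂ →+* C' := (TrivSqZeroExt.fstHom C' C' K₂).toRingHom
  have hj₁ : ∀ x, j₁ x = TrivSqZeroExt.inl x.fst + TrivSqZeroExt.inr (q x.snd) := by
    intro x
    ext <;> simp [j₁]
  obtain ⟨φ₁, h3, h4⟩ := H (TrivSqZeroExt C' K₁) (TrivSqZeroExt C' K₂) δ j₁ j₂ (by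
      intro x
      obtain ⟨y, hy⟩ := hq x.snd
      refine ⟨TrivSqZeroExt.inl x.fst + TrivSqZeroExt.inr y, ?_⟩
      rw [hj₁]
      ext <;> simp [hy]) (fun x ↦ ⟨TrivSqZeroExt.inl x, rfl⟩) (by
      rw [pow_two, ← le_bot_iff, Ideal.mul_le]
      intro x hx y hy
      have hx' : x.fst = 0 := by
        have : j₂ (j₁ x) = 0 := hx
        rw [hj₁] at this
        simpa [j₂] using this
      have hy' : y.fst = 0 := by
        have : j₂ (j₁ y) = 0 := hy
        rw [hj₁] at this
        simpa [j₂] using this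
      change x * y = 0
      ext <;> simp [hx', hy']) (fun a ↦ by
      rw [hj₁]
      simp [δ, j₂]) φ₂ (fun a ↦ by
      rw [hj₁]
      ext
      · rw [h1]
        simp [δ, IsScalarTower.algebraMap_apply A B C']
      · rw [h2]
        simp [δ]) (fun b ↦ h1 b)
  have h5 : ∀ b, (φ₁ b).fst = algebraMap B C' b := by
    intro b
    rw [← h1 b, ← h4 b, hj₁]
    simp
  refine ⟨Derivation.mk' ({ toFun := fun b ↦ (φ₁ b).snd
                            map_add' := fun x y ↦ by simp
                            map_smul' := fun a x ↦ ?_ } : B →ₗ[A] K₁) ?_, ?_⟩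
  · rw [Algebra.smul_def, map_mul, h3]
    simp [δ]
  · intro x y
    simp [h5, op_smul_eq_smul]
  · intro b
    change q ((φ₁ b).snd) = _
    rw [← h2 b, ← h4 b, hj₁]
    simp

theorem projective_of_lift {A B C' : Type u} [CommRing A] [CommRing B] [CommRing C'] [Algebra A B]
    [Algebra A C'] [Algebra B C'] [IsScalarTower A B C'] (H : HasLift A B C') :
    Module.Projective C' (C' ⊗[B] Ω[B⁄A]) := by
  refine Module.Projective.of_lifting_property'' ?_
  intro q hq
  let d₂ : Derivation A B (C' ⊗[B] Ω[B⁄A]) :=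
    (TensorProduct.mk B C' (Ω[B⁄A]) 1).compDer (KaehlerDifferential.D A B)
  obtain ⟨d₁, hd⟩ := exists_derivation_lift H q hq d₂
  refine ⟨d₁.liftKaehlerDifferential.liftBaseChange C', ?_⟩
  ext x
  change q (LinearMap.liftBaseChange C' d₁.liftKaehlerDifferential
    ((1 : C') ⊗ₜ[B] KaehlerDifferential.D A B x)) = (1 : C') ⊗ₜ[B] KaehlerDifferential.D A B x
  rw [LinearMap.liftBaseChange_tmul, one_smul, Derivation.liftKaehlerDifferential_comp_D, hd]
  rfl

end

end Groth.Agent.Flat2H.FSAlg
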