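import Groth.Agent.Flat2H.FSNbhd

/-!
# Reduction of the infinitesimal lifting problem to algebra
-/

set_option autoImplicit false

universe u

namespace Groth.Agent.Flat2H.FSGeo

open AlgebraicGeometry CategoryTheory Limits Groth.Agent.Flat2H.FSLift Groth.Agent.Flat2H.FSNbhd

/-- The lifting problem for `a : Spec C ⟶ X`, `b : Spec A ⟶ Y` along the square zero thickening `A ⟶ C`
is controlled by the coordinate ring `B` of the first order neighbourhood of the induced section of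
`X ×[Y] Spec A`. -/
theorem exists_geo {X Y : Scheme.{u}} (f : X ⟶ Y) (hf : AffLocFS f) {A C : CommRingCat.{u}} (i : A ⟶ C)
    (hi : Function.Surjective i) (hI : RingHom.ker i.hom ^ 2 = ⊥)
    (a : Spec C ⟶ X) (b : Spec A ⟶ Y) (w : Spec.map i ≫ b = a ≫ f) :
    ∃ (B : CommRingCat.{u}) (α : A ⟶ B) (ε : B ⟶ C), α ≫ ε = i ∧ RingHom.ker ε.hom ^ 2 = ⊥ ∧
      (∀ (U₀ : X.Opens) (V₀ : Y.Opens) (_ : IsAffineOpen U₀) (_ : IsAffineOpen V₀)
        (_ : U₀ ≤ f ⁻¹ᵁ V₀) (D₁ D₂ C' : CommRingCat.{u}) (γ : C ⟶ C') (δ : A ⟶ D₁)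
        (j₁ : D₁ ⟶ D₂) (j₂ : D₂ ⟶ C') (_ : Function.Surjective j₁) (_ : Function.Surjective j₂)
        (_ : RingHom.ker (j₁ ≫ j₂).hom ^ 2 = ⊥) (_ : (Spec.map γ ≫ a) ⁻¹ᵁ U₀ = ⊤)
        (_ : δ ≫ j₁ ≫ j₂ = i ≫ γ) (φ₂ : B ⟶ D₂) (_ : α ≫ φ₂ = δ ≫ j₁) (_ : φ₂ ≫ j₂ = ε ≫ γ),
        ∃ φ₁ : B ⟶ D₁, α ≫ φ₁ = δ ∧ φ₁ ≫ j₁ = φ₂) ∧
      (∀ ρ : B ⟶ A, α ≫ ρ = 𝟙 A → ρ ≫ i = ε → ∃ l : Spec A ⟶ X, Spec.map i ≫ l = a ∧ l ≫ f = b) ∧
      (LocallyOfFiniteType f → α.hom.FiniteType) := by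
  let X' := pullback f b
  let p₁ : X' ⟶ X := pullback.fst f b
  let p₂ : X' ⟶ Spec A := pullback.snd f b
  let σ : Spec C ⟶ X' := pullback.lift a (Spec.map i) w.symm
  obtain ⟨B, α, ε, κ, hκ, h1, h2, h3, h4, h5⟩ :=
    exists_firstOrderNbhd i hi hI p₂ σ (pullback.lift_snd _ _ _)
  refine ⟨B, α, ε, h1, h2, ?_, ?_, ?_⟩
  · intro U₀ V₀ hU₀ hV₀ hUV D₁ D₂ C' γ δ j₁ j₂ hj₁ hj₂ hker hγ hδ φ₂ hφ hφ'
    have hj₁cl : IsClosedImmersion (Spec.map j₁) := IsClosedImmersion.spec_of_surjective j₁ hj₁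
    have hj : Function.Surjective (j₁ ≫ j₂) := by
      change Function.Surjective (j₂.hom ∘ j₁.hom)
      exact Function.Surjective.comp hj₂ hj₁
    have hjs : Surjective (Spec.map (j₁ ≫ j₂)) := surjective_SpecMap _ hj hker
    have hker₁ : RingHom.ker j₁.hom ^ 2 = ⊥ := by
      rw [← le_bot_iff, ← hker]
      refine Ideal.pow_right_mono ?_ 2
      intro x hx
      rw [RingHom.mem_ker] at hx ⊢
      rw [CommRingCat.hom_comp, RingHom.comp_apply, hx, map_zero]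
    have hs₂ : Function.Surjective (Spec.map j₂) := by
      intro y
      obtain ⟨z, hz⟩ := (Spec.map (j₁ ≫ j₂)).surjective (Spec.map j₁ y)
      refine ⟨z, (Spec.map j₁).isClosedEmbedding.injective ?_⟩
      rw [← Scheme.Hom.comp_apply, ← Spec.map_comp, hz]
    have hw : Spec.map j₁ ≫ Spec.map δ ≫ b = (Spec.map φ₂ ≫ κ ≫ p₁) ≫ f := by
      have : p₁ ≫ f = p₂ ≫ b := pullback.condition
      rw [Category.assoc, Category.assoc, this, reassoc_of% h4, ← Spec.map_comp_assoc,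
        ← Spec.map_comp_assoc, hφ]
    have hσ1 : σ ≫ p₁ = a := pullback.lift_fst _ _ _
    have hσ2 : σ ≫ p₂ = Spec.map i := pullback.lift_snd _ _ _
    have hγa : ∀ z, (Spec.map γ ≫ a) z ∈ U₀ := fun z ↦ hγ.ge (Set.mem_univ z)
    have haU : (Spec.map φ₂ ≫ κ ≫ p₁) ⁻¹ᵁ U₀ = ⊤ := by
      rw [← top_le_iff]
      rintro y -
      obtain ⟨z, rfl⟩ := hs₂ y
      have h6 := hγa z
      rw [← hσ1, ← h3, Category.assoc, ← Spec.map_comp_assoc, ← hφ', Spec.map_comp_assoc,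
        Scheme.Hom.comp_apply] at h6
      exact h6
    have hbV : (Spec.map δ ≫ b) ⁻¹ᵁ V₀ = ⊤ := by
      rw [← top_le_iff]
      rintro y -
      obtain ⟨z, rfl⟩ := (Spec.map (j₁ ≫ j₂)).surjective y
      have h6 : f ((Spec.map γ ≫ a) z) ∈ V₀ := hUV (hγa z)
      rw [← Scheme.Hom.comp_apply, Category.assoc, ← w, ← Spec.map_comp_assoc, ← hδ,
        ← Category.assoc δ, Category.assoc δ, Spec.map_comp_assoc, Scheme.Hom.comp_apply] at h6
      exact h6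
    obtain ⟨l, hl1, hl2, -⟩ := exists_lift_of_affine f (Spec.map j₁)
      ⟨2, ker_SpecMap_appTop_pow j₁ 2 hker₁⟩ (Spec.map φ₂ ≫ κ ≫ p₁) (Spec.map δ ≫ b) hw U₀ V₀ hU₀ hV₀
      hUV haU hbV (hf U₀ V₀ hU₀ hV₀ hUV)
    let u : Spec D₁ ⟶ X' := pullback.lift l (Spec.map δ) hl2
    have hu : Spec.map (j₁ ≫ j₂) ≫ u = Spec.map γ ≫ σ := by
      apply pullback.hom_ext
      · rw [Category.assoc, pullback.lift_fst, Category.assoc]
        change _ = _ ≫ σ ≫ p₁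
        rw [← h3, Category.assoc, ← Spec.map_comp_assoc, ← hφ', Spec.map_comp, Spec.map_comp,
          Category.assoc, hl1, Category.assoc]
      · rw [Category.assoc, pullback.lift_snd, Category.assoc]
        change _ = _ ≫ σ ≫ p₂
        rw [hσ2, ← Spec.map_comp, ← Spec.map_comp, hδ]
    obtain ⟨ψ, hψ⟩ := h5 D₁ C' (j₁ ≫ j₂) hj hker u γ hu
    refine ⟨ψ, ?_, ?_⟩
    · apply Spec.map_injective
      rw [Spec.map_comp, ← h4, reassoc_of% hψ]
      exact pullback.lift_snd _ _ _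
    · apply Spec.map_injective
      rw [← cancel_mono κ, Spec.map_comp, Category.assoc, hψ]
      apply pullback.hom_ext
      · rw [Category.assoc, pullback.lift_fst, Category.assoc, hl1]
      · rw [Category.assoc, pullback.lift_snd, Category.assoc]
        change _ = _ ≫ κ ≫ p₂
        rw [h4, ← Spec.map_comp, ← Spec.map_comp, hφ]
  · intro ρ hρ1 hρ2
    refine ⟨Spec.map ρ ≫ κ ≫ p₁, ?_, ?_⟩
    · rw [← Spec.map_comp_assoc, hρ2, reassoc_of% h3]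
      exact pullback.lift_fst _ _ _
    · have : p₁ ≫ f = p₂ ≫ b := pullback.condition
      rw [Category.assoc, Category.assoc, this, reassoc_of% h4, ← Spec.map_comp_assoc, hρ1,
        Spec.map_id, Category.id_comp]
  · intro hft
    have : LocallyOfFiniteType (κ ≫ p₂) := inferInstance
    rw [h4] at this
    exact (HasRingHomProperty.Spec_iff (P := @LocallyOfFiniteType)).mp this

end Groth.Agent.Flat2H.FSGeo
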