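import Mathlib.AlgebraicGeometry.Morphisms.Etale
import Mathlib.AlgebraicGeometry.Morphisms.FormallyUnramified
import Mathlib.AlgebraicGeometry.Morphisms.UnderlyingMap

/-!
# Infinitesimal lifting: local lifts and gluing of unique lifts

* `exists_lift_of_affine`: lifting for a closed immersion `i : T ⟶ T'` with `T'` affine and nilpotent kernel,
  when everything lands in affine opens `U ≤ f ⁻¹ᵁ V` with formally smooth ring map.
* `exists_local_lift`: local existence of lifts for affine-locally formally smooth morphisms.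
* `exists_lift_of_local`: gluing of local lifts for a formally unramified morphism.
-/

set_option autoImplicit false

universe u

namespace Groth.Agent.Flat2H.FSLift

open AlgebraicGeometry CategoryTheory Limits

/-- All ring maps between affine opens are formally smooth. -/
def AffLocFS {X Y : Scheme.{u}} (f : X ⟶ Y) : Prop :=
  ∀ (U : X.Opens) (V : Y.Opens) (_ : IsAffineOpen U) (_ : IsAffineOpen V) (hUV : U ≤ f ⁻¹ᵁ V),
    (f.appLE V U hUV).hom.FormallySmooth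

/-- Lifting for an infinitesimal thickening of affine schemes. -/
theorem exists_lift_of_affine {X Y T T' : Scheme.{u}} (f : X ⟶ Y) (i : T ⟶ T')
    [IsClosedImmersion i] [IsAffine T'] (hi : IsNilpotent (RingHom.ker i.appTop.hom))
    (a : T ⟶ X) (b : T' ⟶ Y) (w : i ≫ b = a ≫ f) (U : X.Opens) (V : Y.Opens)
    (hU : IsAffineOpen U) (hV : IsAffineOpen V) (hUV : U ≤ f ⁻¹ᵁ V)
    (ha : a ⁻¹ᵁ U = ⊤) (hb : b ⁻¹ᵁ V = ⊤)
    (hfs : (f.appLE V U hUV).hom.FormallySmooth) :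
    ∃ l : T' ⟶ X, i ≫ l = a ∧ l ≫ f = b ∧ l ⁻¹ᵁ U = ⊤ := by
  have hT : IsAffine T := (IsClosedImmersion.isAffine_surjective_of_isAffine i).1
  have hsurj : Function.Surjective i.appTop :=
    (IsClosedImmersion.isAffine_surjective_of_isAffine i).2
  let α : Γ(X, U) ⟶ Γ(T, ⊤) := a.appLE U ⊤ ha.ge
  let β : Γ(Y, V) ⟶ Γ(T', ⊤) := b.appLE V ⊤ hb.ge
  have hcomm : f.appLE V U hUV ≫ α = β ≫ i.appTop := by
    have h1 : f.appLE V U hUV ≫ α = (a ≫ f).appLE V ⊤ (ha.ge.trans (a.preimage_mono hUV)) :=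
      Scheme.Hom.appLE_comp_appLE _ _ _ _ _ _ _
    have h2 : β ≫ i.appTop = (i ≫ b).appLE V ⊤ (by
        rw [Scheme.Hom.comp_preimage, hb]; exact le_rfl) := by
      simp only [β, Scheme.Hom.appTop, Scheme.Hom.app_eq_appLE]
      exact Scheme.Hom.appLE_comp_appLE _ _ _ _ _ _ _
    rw [h1, h2]
    simp only [w]
  algebraize [(f.appLE V U hUV).hom, β.hom, (β ≫ i.appTop).hom]
  let αA : Γ(X, U) →ₐ[Γ(Y, V)] Γ(T, ⊤) :=
    { toRingHom := α.hom
      commutes' := fun r ↦ congr($(hcomm).hom r) }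
  let iA : Γ(T', ⊤) →ₐ[Γ(Y, V)] Γ(T, ⊤) :=
    { toRingHom := i.appTop.hom
      commutes' := fun r ↦ rfl }
  let ψ := Algebra.FormallySmooth.liftOfSurjective αA iA hsurj hi
  have hψ : iA.comp ψ = αA := Algebra.FormallySmooth.comp_liftOfSurjective αA iA hsurj hi
  let ψ' : Γ(X, U) ⟶ Γ(T', ⊤) := CommRingCat.ofHom ψ.toRingHom
  have hψ1 : ψ' ≫ i.appTop = α := by
    ext x
    exact congr($hψ x)
  have hψ2 : f.appLE V U hUV ≫ ψ' = β := by
    ext x
    exact ψ.commutes x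
  have ha' : T.isoSpec.inv ≫ a = Spec.map α ≫ hU.fromSpec := by
    rw [IsAffineOpen.SpecMap_appLE_fromSpec a hU (isAffineOpen_top T), IsAffineOpen.fromSpec_top]
  have hb' : T'.isoSpec.inv ≫ b = Spec.map β ≫ hV.fromSpec := by
    rw [IsAffineOpen.SpecMap_appLE_fromSpec b hV (isAffineOpen_top T'), IsAffineOpen.fromSpec_top]
  refine ⟨T'.isoSpec.hom ≫ Spec.map ψ' ≫ hU.fromSpec, ?_, ?_, ?_⟩
  · rw [← Scheme.isoSpec_hom_naturality_assoc, ← Spec.map_comp_assoc, hψ1, ← ha']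
    simp
  · simp only [Category.assoc]
    rw [← IsAffineOpen.SpecMap_appLE_fromSpec f hV hU hUV, ← Spec.map_comp_assoc, hψ2, ← hb']
    simp
  · rw [Scheme.Hom.comp_preimage, Scheme.Hom.comp_preimage, IsAffineOpen.fromSpec_preimage_self]
    rfl

theorem isNilpotent_ker_of_isPullback {T T' P Q : Scheme.{u}} (i : T ⟶ T') (i' : P ⟶ Q)
    (q' : P ⟶ T) (q : Q ⟶ T') [IsOpenImmersion q] [QuasiCompact i] (h : IsPullback i' q' q i)
    (hi : IsNilpotent i.ker) : IsNilpotent i'.ker := by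
  obtain ⟨n, hn⟩ := hi
  refine ⟨n, ?_⟩
  apply Scheme.IdealSheafData.ext
  ext1 V
  have h1 := Scheme.ker_ideal_of_isPullback_of_isOpenImmersion i i' q' q h V
  have h2 := congr(($hn).ideal ⟨q ''ᵁ V, V.2.image_of_isOpenImmersion _⟩)
  rw [Scheme.IdealSheafData.ideal_pow, Pi.pow_apply] at h2
  rw [Scheme.IdealSheafData.ideal_pow, Pi.pow_apply, h1]
  refine le_bot_iff.mp ((Ideal.le_comap_pow _ _).trans ?_)
  rw [h2]
  intro x hx
  exact (ConcreteCategory.bijective_of_isIso (q.appIso V).inv).1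
    ((show (q.appIso V).inv.hom x = 0 from hx).trans (map_zero _).symm)

theorem isNilpotent_ker_morphismRestrict {T T' : Scheme.{u}} (i : T ⟶ T') [QuasiCompact i]
    (hi : IsNilpotent i.ker) (W : T'.Opens) : IsNilpotent (i ∣_ W).ker :=
  isNilpotent_ker_of_isPullback i (i ∣_ W) (i ⁻¹ᵁ W).ι W.ι (isPullback_morphismRestrict i W) hi

theorem isNilpotent_ker_appTop {T T' : Scheme.{u}} (i : T ⟶ T') [IsClosedImmersion i] [IsAffine T']
    (hi : IsNilpotent i.ker) : IsNilpotent (RingHom.ker i.appTop.hom) := by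
  obtain ⟨n, hn⟩ := hi
  refine ⟨n, ?_⟩
  have h2 := congr(($hn).ideal ⟨⊤, isAffineOpen_top T'⟩)
  rw [Scheme.IdealSheafData.ideal_pow, Pi.pow_apply, Scheme.Hom.ker_apply] at h2
  exact h2

/-- Local existence of lifts for affine-locally formally smooth morphisms. -/
theorem exists_local_lift {X Y T T' : Scheme.{u}} (f : X ⟶ Y) (hf : AffLocFS f) (i : T ⟶ T')
    [IsClosedImmersion i] [Surjective i] (hi : IsNilpotent i.ker)
    (a : T ⟶ X) (b : T' ⟶ Y) (w : i ≫ b = a ≫ f) (t' : T') (W₀ : T'.Opens) (ht : t' ∈ W₀) :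
    ∃ W : T'.Opens, IsAffineOpen W ∧ t' ∈ W ∧ W ≤ W₀ ∧
      ∃ l : W.toScheme ⟶ X, (i ∣_ W) ≫ l = (i ⁻¹ᵁ W).ι ≫ a ∧ l ≫ f = W.ι ≫ b := by
  obtain ⟨t, rfl⟩ := i.surjective t'
  obtain ⟨_, ⟨V, hV, rfl⟩, hxV, -⟩ :=
    Y.isBasis_affineOpens.exists_subset_of_mem_open (Set.mem_univ (b (i t))) isOpen_univ
  have hxV' : f (a t) ∈ V := by
    have : f (a t) = b (i t) := by
      rw [← Scheme.Hom.comp_apply, ← Scheme.Hom.comp_apply, w]
    rw [this]; exact hxV
  obtain ⟨_, ⟨U, hU, rfl⟩, hxU, hUV : U ≤ f ⁻¹ᵁ V⟩ :=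
    X.isBasis_affineOpens.exists_subset_of_mem_open (a := a t) hxV' (f ⁻¹ᵁ V).isOpen
  obtain ⟨O, hO, hO'⟩ := i.isClosedEmbedding.isInducing.isOpen_iff.mp (a ⁻¹ᵁ U).isOpen
  have htO : i t ∈ O := by
    have : t ∈ i ⁻¹' O := by rw [hO']; exact hxU
    exact this
  obtain ⟨_, ⟨(W : T'.Opens), hW, rfl⟩, hxW, hWle⟩ :=
    T'.isBasis_affineOpens.exists_subset_of_mem_open (a := i t)
      (show i t ∈ (O ∩ (b ⁻¹ᵁ V : T'.Opens) ∩ W₀ : Set T') from ⟨⟨htO, hxV⟩, ht⟩)
      ((hO.inter (b ⁻¹ᵁ V).isOpen).inter W₀.isOpen)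
  have hWV : W ≤ b ⁻¹ᵁ V := fun x hx ↦ (hWle hx).1.2
  have hWW : W ≤ W₀ := fun x hx ↦ (hWle hx).2
  have hWU : i ⁻¹ᵁ W ≤ a ⁻¹ᵁ U := fun x hx ↦ by
    have : x ∈ i ⁻¹' O := (hWle hx).1.1
    rw [hO'] at this
    exact this
  have : IsAffine W := hW
  obtain ⟨l, hl1, hl2, -⟩ := exists_lift_of_affine f (i ∣_ W)
    (isNilpotent_ker_appTop _ (isNilpotent_ker_morphismRestrict i hi W))
    ((i ⁻¹ᵁ W).ι ≫ a) (W.ι ≫ b) (by rw [morphismRestrict_ι_assoc, w, Category.assoc]) U V hU hV hUV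
    (by
      rw [Scheme.Hom.comp_preimage, ← top_le_iff]
      rintro x -
      exact hWU x.2)
    (by
      rw [Scheme.Hom.comp_preimage, ← top_le_iff]
      rintro x -
      exact hWV x.2)
    (hf U V hU hV hUV)
  exact ⟨W, hW, hxW, hWW, l, hl1, hl2⟩

/-- Gluing of local lifts for a formally unramified morphism. -/
theorem exists_lift_of_local {X Y T T' : Scheme.{u}} (f : X ⟶ Y) [FormallyUnramified f] (i : T ⟶ T')
    [IsClosedImmersion i] [Surjective i] (hi : IsNilpotent i.ker)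
    (a : T ⟶ X) (b : T' ⟶ Y)
    (H : ∀ t' : T', ∃ W : T'.Opens, t' ∈ W ∧
      ∃ l : W.toScheme ⟶ X, (i ∣_ W) ≫ l = (i ⁻¹ᵁ W).ι ≫ a ∧ l ≫ f = W.ι ≫ b) :
    ∃ l : T' ⟶ X, i ≫ l = a ∧ l ≫ f = b := by
  choose W hW l hl1 hl2 using H
  let 𝒰 : T'.OpenCover := {
    I₀ := T'
    X t := W t
    f t := (W t).ι
    mem₀ := by
      rw [Scheme.presieve₀_mem_precoverage_iff]
      refine ⟨fun x ↦ ⟨x, by simpa using hW x⟩, inferInstance⟩ }
  have aux : ∀ (x : T') {P : Scheme.{u}} (r : P ⟶ T) (s : P ⟶ (W x).toScheme)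
      (_ : r ≫ i = s ≫ (W x).ι), s ≫ l x = r ≫ a := by
    intro x P r s h
    have hp := isPullback_morphismRestrict i (W x)
    rw [← hp.lift_fst s r h.symm, Category.assoc, hl1, ← Category.assoc, hp.lift_snd]
  have key : ∀ x y, pullback.fst (𝒰.f x) (𝒰.f y) ≫ l x = pullback.snd _ _ ≫ l y := by
    intro x y
    let q : pullback (𝒰.f x) (𝒰.f y) ⟶ T' := pullback.fst _ _ ≫ 𝒰.f x
    have hq : q = pullback.snd _ _ ≫ 𝒰.f y := pullback.condition
    refine FormallyUnramified.hom_ext (pullback.snd i q)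
      (isNilpotent_ker_of_isPullback i _ _ q (IsPullback.of_hasPullback i q).flip hi) f ?_ ?_
    · rw [← Category.assoc, ← Category.assoc, aux x (pullback.fst i q), aux y (pullback.fst i q)]
      · rw [pullback.condition, Category.assoc, hq]
      · rw [pullback.condition, Category.assoc]
    · rw [Category.assoc, Category.assoc, hl2, hl2]
      exact (pullback.condition_assoc (f := 𝒰.f x) (g := 𝒰.f y) b)
  refine ⟨𝒰.glueMorphisms l key, ?_, ?_⟩
  · refine Scheme.Cover.hom_ext (𝒰.pullback₁ i) _ _ fun t ↦ ?_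
    change pullback.fst i (𝒰.f t) ≫ i ≫ _ = pullback.fst i (𝒰.f t) ≫ _
    rw [pullback.condition_assoc, Scheme.Cover.ι_glueMorphisms, aux t (pullback.fst i (𝒰.f t))]
    exact pullback.condition
  · refine 𝒰.hom_ext _ _ fun t ↦ ?_
    rw [Scheme.Cover.ι_glueMorphisms_assoc]
    exact hl2 t

/-- Existence and uniqueness of lifts along infinitesimal thickenings for affine-locally formally étale
morphisms. -/
theorem existsUnique_lift {X Y T T' : Scheme.{u}} (f : X ⟶ Y) (hf : AffLocFS f) [FormallyUnramified f]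
    (i : T ⟶ T') [IsClosedImmersion i] [Surjective i] (hi : IsNilpotent i.ker)
    (a : T ⟶ X) (b : T' ⟶ Y) (w : i ≫ b = a ≫ f) :
    ∃! l : T' ⟶ X, i ≫ l = a ∧ l ≫ f = b := by
  obtain ⟨l, hl1, hl2⟩ := exists_lift_of_local f i hi a b (fun t' ↦ by
    obtain ⟨W, -, hW, -, l, hl⟩ := exists_local_lift f hf i hi a b w t' ⊤ trivial
    exact ⟨W, hW, l, hl⟩)
  refine ⟨l, ⟨hl1, hl2⟩, ?_⟩
  rintro l' ⟨hl1', hl2'⟩
  exact FormallyUnramified.hom_ext i hi f (hl1'.trans hl1.symm) (hl2'.trans hl2.symm)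

theorem isNilpotent_ker_of_appTop {T T' : Scheme.{u}} (i : T ⟶ T') [QuasiCompact i] [IsAffine T']
    (hi : IsNilpotent (RingHom.ker i.appTop.hom)) : IsNilpotent i.ker := by
  obtain ⟨n, hn⟩ := hi
  refine ⟨n, ?_⟩
  apply Scheme.IdealSheafData.ext_of_isAffine
  rw [Scheme.IdealSheafData.ideal_pow, Pi.pow_apply, Scheme.Hom.ker_apply]
  exact hn

theorem ker_SpecMap_appTop_pow {R S : CommRingCat.{u}} (φ : R ⟶ S) (n : ℕ)
    (h : RingHom.ker φ.hom ^ n = ⊥) : RingHom.ker (Spec.map φ).appTop.hom ^ n = ⊥ := by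
  have h1 : (Spec.map φ).appTop = (Scheme.ΓSpecIso R).hom ≫ φ ≫ (Scheme.ΓSpecIso S).inv := by
    rw [Scheme.ΓSpecIso_inv_naturality, Iso.hom_inv_id_assoc]
  have h2 : RingHom.ker (Spec.map φ).appTop.hom ≤
      (RingHom.ker φ.hom).comap (Scheme.ΓSpecIso R).hom.hom := by
    intro x hx
    have h3 : (Scheme.ΓSpecIso S).inv.hom (φ.hom ((Scheme.ΓSpecIso R).hom.hom x)) = 0 := by
      have := congr($(h1).hom x)
      exact this.symm.trans hx
    exact (ConcreteCategory.bijective_of_isIso (Scheme.ΓSpecIso S).inv).1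
      (h3.trans (map_zero _).symm)
  refine le_bot_iff.mp ((Ideal.pow_right_mono h2 n).trans ((Ideal.le_comap_pow _ _).trans ?_))
  rw [h]
  intro x hx
  exact (ConcreteCategory.bijective_of_isIso (Scheme.ΓSpecIso R).hom).1
    ((show (Scheme.ΓSpecIso R).hom.hom x = 0 from hx).trans (map_zero _).symm)

theorem isNilpotent_ker_SpecMap_mk (A : Type u) [CommRing A] (I : Ideal A) (hI : I ^ 2 = ⊥) :
    IsNilpotent (Spec.map (CommRingCat.ofHom (Ideal.Quotient.mk I))).ker := by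
  apply isNilpotent_ker_of_appTop
  refine ⟨2, ker_SpecMap_appTop_pow _ 2 ?_⟩
  rw [CommRingCat.hom_ofHom, Ideal.mk_ker, hI]

theorem surjective_SpecMap_mk (A : Type u) [CommRing A] (I : Ideal A) (hI : I ^ 2 = ⊥) :
    Surjective (Spec.map (CommRingCat.ofHom (Ideal.Quotient.mk I))) := by
  refine ⟨?_⟩
  intro x
  have h : x ∈ Set.range (PrimeSpectrum.comap (Ideal.Quotient.mk I)) := by
    rw [range_comap_of_surjective _ _ Ideal.Quotient.mk_surjective, Ideal.mk_ker]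
    intro y hy
    have : y ^ 2 ∈ x.asIdeal := by
      have h2 : y ^ 2 ∈ I ^ 2 := Ideal.pow_mem_pow hy 2
      rw [hI] at h2
      rw [(Submodule.mem_bot A).mp h2]
      exact x.asIdeal.zero_mem
    exact x.2.mem_of_pow_mem 2 this
  exact h

/-- A morphism with the infinitesimal lifting property is affine-locally formally smooth. -/
theorem affLocFS_of_lift {X Y : Scheme.{u}} (f : X ⟶ Y)
    (H : ∀ (A : Type u) [CommRing A] (I : Ideal A), I ^ 2 = ⊥ →
      ∀ (a : Spec (CommRingCat.of (A ⧸ I)) ⟶ X) (b : Spec (CommRingCat.of A) ⟶ Y),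
        Spec.map (CommRingCat.ofHom (Ideal.Quotient.mk I)) ≫ b = a ≫ f →
          ∃ l : Spec (CommRingCat.of A) ⟶ X,
            Spec.map (CommRingCat.ofHom (Ideal.Quotient.mk I)) ≫ l = a ∧ l ≫ f = b) :
    AffLocFS f := by
  intro U V hU hV hUV
  algebraize [(f.appLE V U hUV).hom]
  refine Algebra.FormallySmooth.iff_comp_surjective.mpr fun B _ _ I hI g ↦ ?_
  have hg : f.appLE V U hUV ≫ CommRingCat.ofHom g.toRingHom =
      CommRingCat.ofHom (algebraMap Γ(Y, V) B) ≫ CommRingCat.ofHom (Ideal.Quotient.mk I) := by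
    ext x
    exact g.commutes x
  have hsurj := surjective_SpecMap_mk B I hI
  obtain ⟨l, hl1, hl2⟩ := H B I hI (Spec.map (CommRingCat.ofHom g.toRingHom) ≫ hU.fromSpec)
    (Spec.map (CommRingCat.ofHom (algebraMap Γ(Y, V) B)) ≫ hV.fromSpec) (by
      rw [Category.assoc, ← IsAffineOpen.SpecMap_appLE_fromSpec f hV hU hUV, ← Spec.map_comp_assoc,
        ← Spec.map_comp_assoc, hg])
  have hl : l ⁻¹ᵁ U = ⊤ := by
    rw [← top_le_iff]
    rintro x -
    obtain ⟨y, rfl⟩ := (Spec.map (CommRingCat.ofHom (Ideal.Quotient.mk I))).surjective x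
    change l _ ∈ U
    rw [← Scheme.Hom.comp_apply, hl1, Scheme.Hom.comp_apply, ← SetLike.mem_coe,
      ← hU.range_fromSpec]
    exact ⟨_, rfl⟩
  let l' : Spec (CommRingCat.of B) ⟶ Spec Γ(X, U) :=
    IsOpenImmersion.lift hU.fromSpec l (by
      rw [hU.range_fromSpec]
      rintro _ ⟨x, rfl⟩
      exact hl.ge (Set.mem_univ x))
  have hl' : l' ≫ hU.fromSpec = l := IsOpenImmersion.lift_fac _ _ _
  obtain ⟨ψ, hψ⟩ : ∃ ψ : Γ(X, U) ⟶ CommRingCat.of B, Spec.map ψ = l' := Spec.map_surjective l'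
  have h1 : ψ ≫ CommRingCat.ofHom (Ideal.Quotient.mk I) = CommRingCat.ofHom g.toRingHom := by
    apply Spec.map_injective
    rw [← cancel_mono hU.fromSpec, Spec.map_comp, Category.assoc, hψ, hl', hl1]
  have h2 : f.appLE V U hUV ≫ ψ = CommRingCat.ofHom (algebraMap Γ(Y, V) B) := by
    apply Spec.map_injective
    rw [← cancel_mono hV.fromSpec, Spec.map_comp, Category.assoc,
      IsAffineOpen.SpecMap_appLE_fromSpec f hV hU hUV, reassoc_of% hψ, reassoc_of% hl', hl2]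
  refine ⟨{ toRingHom := ψ.hom, commutes' := fun r ↦ congr($(h2).hom r) }, ?_⟩
  ext x
  exact congr($(h1).hom x)

end Groth.Agent.Flat2H.FSLift
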