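import Groth.Prelude.Def_MoreMor
import Groth.Agent.Flat2H.FSLift

/-!
# Formally étale / formally smooth morphisms of schemes in the sense of `MoreMor`
-/

set_option autoImplicit false

universe u

namespace Groth.Agent.Flat2H.FSHom

open AlgebraicGeometry CategoryTheory Limits Groth.Agent.Flat2H.FSLift

theorem affLocFS_of_isFormallySmoothHom {X Y : Scheme.{u}} (f : X ⟶ Y)
    (H : MoreMor.IsFormallySmoothHom f) : AffLocFS f :=
  affLocFS_of_lift f H

theorem isFormallySmoothHom_of_isFormallyEtaleHom {X Y : Scheme.{u}} (f : X ⟶ Y)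
    (H : MoreMor.IsFormallyEtaleHom f) : MoreMor.IsFormallySmoothHom f :=
  fun A _ I hI a b w ↦ (H A I hI a b w).exists

theorem formallyUnramified_of_isFormallyEtaleHom {X Y : Scheme.{u}} (f : X ⟶ Y)
    (H : MoreMor.IsFormallyEtaleHom f) : FormallyUnramified f := by
  refine FormallyUnramified.of_hom_ext f ?_
  intro R S φ hφ hk g₁ g₂ h1 h2
  let I : Ideal R := RingHom.ker φ.hom
  let e : S ⟶ CommRingCat.of (R ⧸ I) :=
    CommRingCat.ofHom (RingHom.quotientKerEquivOfSurjective hφ).symm.toRingHom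
  have he : CommRingCat.ofHom (Ideal.Quotient.mk I) = φ ≫ e := by
    ext x
    change Ideal.Quotient.mk I x = (RingHom.quotientKerEquivOfSurjective hφ).symm (φ.hom x)
    rw [RingEquiv.eq_symm_apply]
    rfl
  have h3 : Spec.map (CommRingCat.ofHom (Ideal.Quotient.mk I)) ≫ g₁ =
      Spec.map (CommRingCat.ofHom (Ideal.Quotient.mk I)) ≫ g₂ := by
    rw [he, Spec.map_comp, Category.assoc, Category.assoc, h1]
  exact (H R I hk (Spec.map (CommRingCat.ofHom (Ideal.Quotient.mk I)) ≫ g₁) (g₁ ≫ f)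
    (Category.assoc _ _ _).symm).unique ⟨rfl, rfl⟩ ⟨h3.symm, h2.symm⟩

theorem isFormallyEtaleHom_of_affLocFS {X Y : Scheme.{u}} (f : X ⟶ Y) (hf : AffLocFS f)
    [FormallyUnramified f] : MoreMor.IsFormallyEtaleHom f := by
  intro A _ I hI a b w
  have := surjective_SpecMap_mk A I hI
  have : IsClosedImmersion (Spec.map (CommRingCat.ofHom (Ideal.Quotient.mk I))) :=
    IsClosedImmersion.spec_of_surjective _ Ideal.Quotient.mk_surjective
  exact existsUnique_lift f hf _ (isNilpotent_ker_SpecMap_mk A I hI) a b w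

theorem isFormallyEtaleHom_iff {X Y : Scheme.{u}} (f : X ⟶ Y) :
    MoreMor.IsFormallyEtaleHom f ↔ AffLocFS f ∧ FormallyUnramified f :=
  ⟨fun H ↦ ⟨affLocFS_of_isFormallySmoothHom f (isFormallySmoothHom_of_isFormallyEtaleHom f H),
    formallyUnramified_of_isFormallyEtaleHom f H⟩,
    fun ⟨h, _⟩ ↦ isFormallyEtaleHom_of_affLocFS f h⟩

end Groth.Agent.Flat2H.FSHom
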