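import Mathlib.AlgebraicGeometry.Morphisms.Immersion
import Mathlib.AlgebraicGeometry.Morphisms.UnderlyingMap
import Groth.Agent.Flat2H.FSLift

/-!
# The first order neighbourhood of an infinitesimal section

Let `C = A / I` with `I ^ 2 = 0`, `p : X' ⟶ Spec A` any morphism and `σ : Spec C ⟶ X'` with
`σ ≫ p = Spec.map (A ⟶ C)`.  Then the first order infinitesimal neighbourhood of `σ` in `X'` is affine,
`Spec B`, and it has the usual universal property for first order thickenings.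
-/

set_option autoImplicit false

universe u

namespace Groth.Agent.Flat2H.FSNbhd

open AlgebraicGeometry CategoryTheory Limits Groth.Agent.Flat2H.FSLift

/-- A section on an open of a scheme is zero if it vanishes on all smaller affine opens. -/
theorem eq_zero_of_forall_affine {X : Scheme.{u}} {O : X.Opens} (s : Γ(X, O))
    (h : ∀ x ∈ O, ∃ V : X.Opens, ∃ (hV : V ≤ O), x ∈ V ∧ X.presheaf.map (homOfLE hV).op s = 0) :
    s = 0 := by
  apply TopCat.Presheaf.section_ext X.sheaf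
  intro x hx
  obtain ⟨V, hV, hxV, h0⟩ := h x hx
  have h1 := X.presheaf.germ_res_apply (homOfLE hV) x hxV s
  change X.presheaf.germ O x hx s = X.presheaf.germ O x hx 0
  rw [← h1, h0, map_zero, map_zero]

/-- If the kernel ideal sheaf of `j` has square zero, the product of any two local sections of the
kernel is zero. -/
theorem mul_eq_zero_of_app_eq_zero {T₁ T₂ : Scheme.{u}} (j : T₁ ⟶ T₂) [QuasiCompact j]
    (hj : j.ker ^ 2 = ⊥) (O : T₂.Opens) (x y : Γ(T₂, O)) (hx : j.app O x = 0) (hy : j.app O y = 0) :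
    x * y = 0 := by
  apply eq_zero_of_forall_affine
  intro t ht
  obtain ⟨_, ⟨V, hV, rfl⟩, hxV, hVO⟩ :=
    T₂.isBasis_affineOpens.exists_subset_of_mem_open ht O.isOpen
  have hVO' : V ≤ O := hVO
  refine ⟨V, hVO', hxV, ?_⟩
  have key : ∀ z : Γ(T₂, O), j.app O z = 0 →
      T₂.presheaf.map (homOfLE hVO').op z ∈ j.ker.ideal ⟨V, hV⟩ := by
    intro z hz
    rw [Scheme.Hom.ker_apply, RingHom.mem_ker]
    have := congr($(j.naturality (homOfLE hVO').op).hom z)
    refine this.trans ?_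
    rw [CommRingCat.comp_apply, hz, map_zero]
  rw [map_mul]
  have h2 : T₂.presheaf.map (homOfLE hVO').op x * T₂.presheaf.map (homOfLE hVO').op y ∈
      (j.ker ^ 2).ideal ⟨V, hV⟩ := by
    rw [Scheme.IdealSheafData.ideal_pow, Pi.pow_apply, pow_two]
    exact Ideal.mul_mem_mul (key x hx) (key y hy)
  rw [hj] at h2
  exact h2

theorem app_eq_zero_of_eq {X Y : Scheme.{u}} {f g : X ⟶ Y} (h : f = g) (U : Y.Opens) (x : Γ(Y, U))
    (hx : f.app U x = 0) : g.app U x = 0 := by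
  subst h; exact hx

theorem comp_app_apply {X Y Z : Scheme.{u}} (f : X ⟶ Y) (g : Y ⟶ Z) (U : Z.Opens) (x : Γ(Z, U)) :
    (f ≫ g).app U x = f.app (g ⁻¹ᵁ U) (g.app U x) :=
  congr($(Scheme.Hom.comp_app f g U).hom x)

theorem comp_app_eq_zero {X Y Z : Scheme.{u}} (f : X ⟶ Y) (g : Y ⟶ Z) (U : Z.Opens) (x : Γ(Z, U))
    (hx : g.app U x = 0) : (f ≫ g).app U x = 0 := by
  rw [comp_app_apply, hx]
  exact map_zero (f.app (g ⁻¹ᵁ U)).hom

theorem app_map_eq_zero {X Y : Scheme.{u}} (f : X ⟶ Y) {U V : Y.Opens} (h : V ≤ U) (x : Γ(Y, U))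
    (hx : f.app U x = 0) : f.app V (Y.presheaf.map (homOfLE h).op x) = 0 := by
  have := congr($(f.naturality (homOfLE h).op).hom x)
  refine this.trans ?_
  rw [CommRingCat.hom_comp, RingHom.comp_apply]
  have h0 : (f.app U).hom x = 0 := hx
  rw [h0]
  exact map_zero (X.presheaf.map _).hom

theorem ker_SpecMap_pow {R S : CommRingCat.{u}} (φ : R ⟶ S) (n : ℕ)
    (h : RingHom.ker φ.hom ^ n = ⊥) : (Spec.map φ).ker ^ n = ⊥ := by
  apply Scheme.IdealSheafData.ext_of_isAffine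
  rw [Scheme.IdealSheafData.ideal_pow, Pi.pow_apply, Scheme.Hom.ker_apply]
  exact ker_SpecMap_appTop_pow φ n h

theorem surjective_SpecMap {R S : CommRingCat.{u}} (φ : R ⟶ S) (hφ : Function.Surjective φ)
    (h : RingHom.ker φ.hom ^ 2 = ⊥) : Surjective (Spec.map φ) := by
  refine ⟨?_⟩
  intro x
  have h : x ∈ Set.range (PrimeSpectrum.comap φ.hom) := by
    rw [range_comap_of_surjective _ _ hφ]
    intro y hy
    have : y ^ 2 ∈ x.asIdeal := by
      have h2 : y ^ 2 ∈ RingHom.ker φ.hom ^ 2 := Ideal.pow_mem_pow hy 2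
      rw [h] at h2
      rw [(Submodule.mem_bot _).mp h2]
      exact x.asIdeal.zero_mem
    exact x.2.mem_of_pow_mem 2 this
  exact h

theorem mul_eq_zero_of_nbhd {T U' : Scheme.{u}} (σ' : T ⟶ U') [QuasiCompact σ']
    (τ : T ⟶ (σ'.ker ^ 2).subscheme) (hτ : τ ≫ (σ'.ker ^ 2).subschemeι = σ')
    (x y : Γ((σ'.ker ^ 2).subscheme, ⊤)) (hx : τ.appTop x = 0) (hy : τ.appTop y = 0) :
    x * y = 0 := by
  refine eq_zero_of_forall_affine (X := (σ'.ker ^ 2).subscheme) (O := ⊤) (x * y) ?_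
  intro z hz
  obtain ⟨_, ⟨(W : U'.Opens), hW, rfl⟩, hzW, -⟩ :=
    U'.isBasis_affineOpens.exists_subset_of_mem_open
      (Set.mem_univ ((σ'.ker ^ 2).subschemeι z)) isOpen_univ
  refine ⟨(σ'.ker ^ 2).subschemeι ⁻¹ᵁ W, le_top, hzW, ?_⟩
  have key : ∀ w : Γ((σ'.ker ^ 2).subscheme, ⊤), τ.appTop w = 0 → ∃ w' ∈ σ'.ker.ideal ⟨W, hW⟩,
      (σ'.ker ^ 2).subschemeι.app W w' = (σ'.ker ^ 2).subscheme.presheaf.map
        (homOfLE (le_top : (σ'.ker ^ 2).subschemeι ⁻¹ᵁ W ≤ ⊤)).op w := by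
    intro w hw
    obtain ⟨w', hw'⟩ := (σ'.ker ^ 2).subschemeι_app_surjective ⟨W, hW⟩
      ((σ'.ker ^ 2).subscheme.presheaf.map
        (homOfLE (le_top : (σ'.ker ^ 2).subschemeι ⁻¹ᵁ W ≤ ⊤)).op w)
    refine ⟨w', ?_, hw'⟩
    rw [Scheme.Hom.ker_apply, RingHom.mem_ker]
    refine app_eq_zero_of_eq hτ W w' ?_
    rw [comp_app_apply]
    have h1 := app_map_eq_zero τ (le_top : (σ'.ker ^ 2).subschemeι ⁻¹ᵁ W ≤ ⊤) w hw
    rw [← hw'] at h1
    exact h1
  obtain ⟨x', hx1, hx2⟩ := key x hx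
  obtain ⟨y', hy1, hy2⟩ := key y hy
  rw [map_mul, ← hx2, ← hy2, ← map_mul]
  have h5 : x' * y' ∈ (σ'.ker ^ 2).ideal ⟨W, hW⟩ := by
    rw [Scheme.IdealSheafData.ideal_pow, Pi.pow_apply, pow_two]
    exact Ideal.mul_mem_mul hx1 hy1
  rw [← (σ'.ker ^ 2).ker_subschemeι_app ⟨W, hW⟩] at h5
  exact h5

/-- The affine first order neighbourhood of an infinitesimal section, with its universal property. -/
theorem exists_firstOrderNbhd {A C : CommRingCat.{u}} {X' : Scheme.{u}} (i : A ⟶ C)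
    (hi : Function.Surjective i) (hI : RingHom.ker i.hom ^ 2 = ⊥) (p : X' ⟶ Spec A)
    (σ : Spec C ⟶ X') (hσ : σ ≫ p = Spec.map i) :
    ∃ (B : CommRingCat.{u}) (α : A ⟶ B) (ε : B ⟶ C) (κ : Spec B ⟶ X'), IsImmersion κ ∧
      α ≫ ε = i ∧ RingHom.ker ε.hom ^ 2 = ⊥ ∧ Spec.map ε ≫ κ = σ ∧ κ ≫ p = Spec.map α ∧
      ∀ (D D₀ : CommRingCat.{u}) (j : D ⟶ D₀) (_ : Function.Surjective j)
        (_ : RingHom.ker j.hom ^ 2 = ⊥) (u : Spec D ⟶ X') (v : C ⟶ D₀),
        Spec.map j ≫ u = Spec.map v ≫ σ → ∃ ψ : B ⟶ D, Spec.map ψ ≫ κ = u := by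
  have hcl : IsClosedImmersion (Spec.map i) := IsClosedImmersion.spec_of_surjective i hi
  have hsurj : Surjective (Spec.map i) := surjective_SpecMap i hi hI
  have hσ1 : IsImmersion (σ ≫ p) := by rw [hσ]; infer_instance
  have hσ2 : IsImmersion σ := IsImmersion.of_comp σ p
  let U' := σ.coborderRange
  let σ' : Spec C ⟶ U' := σ.liftCoborder
  have hσ' : σ' ≫ U'.ι = σ := σ.liftCoborder_ι
  let J := σ'.ker
  let K := J ^ 2
  let ζ : K.subscheme ⟶ U' := K.subschemeι
  have hKJ : K ≤ J := by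
    intro W
    change (J ^ 2).ideal W ≤ J.ideal W
    rw [Scheme.IdealSheafData.ideal_pow, Pi.pow_apply]
    exact Ideal.pow_le_self two_ne_zero
  have hζ : ζ.ker = K := Scheme.IdealSheafData.ker_subschemeι K
  let τ : Spec C ⟶ K.subscheme := IsClosedImmersion.lift ζ σ' (hζ.le.trans hKJ)
  have hτ : τ ≫ ζ = σ' := IsClosedImmersion.lift_fac _ _ _
  have hτcl : IsClosedImmersion (τ ≫ ζ) := by rw [hτ]; infer_instance
  have hτ2 : IsClosedImmersion τ := IsClosedImmersion.of_comp_isClosedImmersion τ ζ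
  have hτs : Function.Surjective τ := by
    intro z
    have h1 : ζ z ∈ Set.range σ' := by
      have h2 : ζ z ∈ (K.support : Set U') := by
        rw [← K.range_subschemeι]; exact ⟨z, rfl⟩
      have h3 : K.support = J.support := J.support_pow 2 two_ne_zero
      rw [h3] at h2
      have h4 := Scheme.Hom.support_ker σ'
      rw [h4, σ'.isClosedEmbedding.isClosed_range.closure_eq] at h2
      exact h2
    obtain ⟨t, ht⟩ := h1
    refine ⟨t, ?_⟩
    apply ζ.isClosedEmbedding.injective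
    rw [← Scheme.Hom.comp_apply, hτ, ht]
  let π : K.subscheme ⟶ Spec A := ζ ≫ U'.ι ≫ p
  have hτπ : τ ≫ π = Spec.map i := by
    rw [← hσ, ← hσ', ← hτ]; simp only [π, Category.assoc]
  -- `π` is a homeomorphism
  have hπind : Topology.IsInducing π := by
    let e : Spec C ≃ₜ K.subscheme :=
      (hτ2.isClosedEmbedding.isInducing.isEmbedding.toHomeomorphOfSurjective hτs : _)
    have h1 : Topology.IsInducing (fun x ↦ π (e x)) := by
      have h2 : (fun x ↦ π (e x)) = Spec.map i := by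
        funext x
        change π (τ x) = _
        rw [← Scheme.Hom.comp_apply, hτπ]
      rw [h2]
      exact (Spec.map i).isClosedEmbedding.isInducing
    have h3 : Topology.IsInducing ((fun x ↦ π (e x)) ∘ e.symm) := h1.comp e.symm.isInducing
    have h4 : ((fun x ↦ π (e x)) ∘ e.symm) = π := by
      funext x
      simp
    rwa [h4] at h3
  have hπr : Set.range π = Set.univ := by
    rw [Set.range_eq_univ]
    intro y
    obtain ⟨x, rfl⟩ := (Spec.map i).surjective y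
    refine ⟨τ x, ?_⟩
    rw [← Scheme.Hom.comp_apply, hτπ]
  have hπaff : IsAffineHom π := isAffineHom_of_isInducing π hπind (by rw [hπr]; exact isClosed_univ)
  have hZ : IsAffine K.subscheme := isAffine_of_isAffineHom π
  let B : CommRingCat.{u} := Γ(K.subscheme, ⊤)
  let e : K.subscheme ≅ Spec B := K.subscheme.isoSpec
  let κ : Spec B ⟶ X' := e.inv ≫ ζ ≫ U'.ι
  obtain ⟨α, hα⟩ : ∃ α : A ⟶ B, Spec.map α = κ ≫ p := Spec.map_surjective _
  obtain ⟨ε, hε⟩ : ∃ ε : B ⟶ C, Spec.map ε = τ ≫ e.hom := Spec.map_surjective _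
  have hεκ : Spec.map ε ≫ κ = σ := by
    simp only [κ, hε, Category.assoc, Iso.hom_inv_id_assoc]
    rw [reassoc_of% hτ, hσ']
  refine ⟨B, α, ε, κ, inferInstance, ?_, ?_, hεκ, hα.symm, ?_⟩
  · apply Spec.map_injective
    rw [Spec.map_comp, hα, reassoc_of% hεκ, hσ]
  · have hετ : ε ≫ (Scheme.ΓSpecIso C).inv = τ.appTop := by
      have h1 : e.hom.appTop = (Scheme.ΓSpecIso B).hom := Scheme.toSpecΓ_appTop _
      rw [Scheme.ΓSpecIso_inv_naturality, hε, Scheme.Hom.comp_appTop, h1, Iso.inv_hom_id_assoc]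
    have hker : ∀ x : B, ε.hom x = 0 → τ.appTop x = 0 := by
      intro x hx
      rw [← hετ, CommRingCat.comp_apply]
      change (Scheme.ΓSpecIso C).inv.hom (ε.hom x) = 0
      rw [hx, map_zero]
    rw [pow_two, ← le_bot_iff, Ideal.mul_le]
    intro x hx y hy
    exact mul_eq_zero_of_nbhd σ' τ hτ x y (hker x hx) (hker y hy)
  · intro D D₀ j hj hj2 u v huv
    have hjs : Surjective (Spec.map j) := surjective_SpecMap j hj hj2
    have hru : Set.range u ⊆ Set.range U'.ι := by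
      rintro _ ⟨x, rfl⟩
      obtain ⟨y, rfl⟩ := (Spec.map j).surjective x
      rw [← Scheme.Hom.comp_apply, huv, ← hσ', Scheme.Hom.comp_apply, Scheme.Hom.comp_apply]
      exact ⟨_, rfl⟩
    let u₁ : Spec D ⟶ U' := IsOpenImmersion.lift U'.ι u hru
    have hu₁ : u₁ ≫ U'.ι = u := IsOpenImmersion.lift_fac _ _ _
    have hju : Spec.map j ≫ u₁ = Spec.map v ≫ σ' := by
      rw [← cancel_mono U'.ι, Category.assoc, Category.assoc, hu₁, hσ', huv]
    have hle : ζ.ker ≤ u₁.ker := by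
      rw [hζ]
      refine Scheme.IdealSheafData.le_ofIdeals_iff.mpr ?_
      intro W
      change (J ^ 2).ideal W ≤ _
      rw [Scheme.IdealSheafData.ideal_pow, Pi.pow_apply, pow_two, Ideal.mul_le]
      intro x hx y hy
      have key : ∀ z ∈ J.ideal W, (Spec.map j).app (u₁ ⁻¹ᵁ W.1) (u₁.app W z) = 0 := by
        intro z hz
        have h1 : σ'.app W z = 0 := by
          rw [Scheme.Hom.ker_apply, RingHom.mem_ker] at hz
          exact hz
        have h2 : (Spec.map v ≫ σ').app W z = 0 := comp_app_eq_zero _ _ _ _ h1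
        have h3 := app_eq_zero_of_eq hju.symm W.1 z h2
        rw [comp_app_apply] at h3
        exact h3
      rw [RingHom.mem_ker, map_mul]
      exact mul_eq_zero_of_app_eq_zero (Spec.map j) (ker_SpecMap_pow j 2 hj2) _ _ _
        (key x hx) (key y hy)
    let u₂ : Spec D ⟶ K.subscheme := IsClosedImmersion.lift ζ u₁ hle
    have hu₂ : u₂ ≫ ζ = u₁ := IsClosedImmersion.lift_fac _ _ _
    obtain ⟨ψ, hψ⟩ : ∃ ψ : B ⟶ D, Spec.map ψ = u₂ ≫ e.hom := Spec.map_surjective _
    refine ⟨ψ, ?_⟩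
    simp only [κ, hψ, Category.assoc, Iso.hom_inv_id_assoc]
    rw [reassoc_of% hu₂, hu₁]

end Groth.Agent.Flat2H.FSNbhd
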