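import Groth.Agent.Flat2H.FSGeo
import Groth.Agent.Flat2H.FSAlg
import Mathlib.Algebra.Module.FinitePresentation
import Mathlib.RingTheory.LocalProperties.FinitePresentation
import Mathlib.RingTheory.Flat.Localization
import Mathlib.RingTheory.Flat.EquationalCriterion
import Mathlib.RingTheory.Localization.BaseChange
import Mathlib.RingTheory.Localization.Algebra

/-!
# Global infinitesimal lifting for (formally) smooth morphisms over affine thickenings
-/

set_option autoImplicit false

universe u

namespace Groth.Agent.Flat2H.FSSmooth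

open AlgebraicGeometry CategoryTheory Limits TensorProduct
open Groth.Agent.Flat2H.FSLift Groth.Agent.Flat2H.FSGeo Groth.Agent.Flat2H.FSAlg

/-- Zariski descent of projectivity for arbitrary modules (Raynaud–Gruson). -/
def ProjDescent : Prop :=
  ∀ (C P : Type u) [CommRing C] [AddCommGroup P] [Module C P] (s : Set C), Ideal.span s = ⊤ →
    (∀ g ∈ s, Module.Projective (Localization.Away g) (Localization.Away g ⊗[C] P)) →
      Module.Projective C P

theorem projective_of_finite_of_local (C P : Type u) [CommRing C] [AddCommGroup P] [Module C P]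
    [Module.Finite C P] (s : Set C) (hs : Ideal.span s = ⊤)
    (h : ∀ g ∈ s, Module.Projective (Localization.Away g) (Localization.Away g ⊗[C] P)) :
    Module.Projective C P := by
  have hfp : Module.FinitePresentation C P := by
    refine Module.FinitePresentation.of_localizationSpan' s hs
      (Rₚ := fun g ↦ Localization.Away g.1) (Mₚ := fun g ↦ Localization.Away g.1 ⊗[C] P)
      (fun g ↦ TensorProduct.mk C (Localization.Away g.1) P 1) (fun g ↦ ?_)
    have := h g.1 g.2
    exact Module.finitePresentation_of_projective _ _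
  have hfl : Module.Flat C P := by
    refine Module.flat_of_isLocalized_span C P s hs (fun g ↦ Localization.Away g.1 ⊗[C] P)
      (fun g ↦ TensorProduct.mk C (Localization.Away g.1) P 1) (fun g ↦ ?_)
    have := h g.1 g.2
    exact Module.Flat.trans C (Localization.Away g.1) _
  exact Module.Flat.projective_of_finitePresentation

theorem awayMap_surjective {A C : Type u} [CommRing A] [CommRing C] (i : A →+* C)
    (hi : Function.Surjective i) (h : A) : Function.Surjective (Localization.awayMap i h) := by
  rw [Localization.awayMap_surjective_iff]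
  intro c
  obtain ⟨a, rfl⟩ := hi c
  exact ⟨a, 0, by simp⟩

theorem awayMap_algebraMap {A C : Type u} [CommRing A] [CommRing C] (i : A →+* C) (h a : A) :
    Localization.awayMap i h (algebraMap A (Localization.Away h) a) =
      algebraMap C (Localization.Away (i h)) (i a) :=
  IsLocalization.map_eq _ a

theorem ker_awayMap_sq {A C : Type u} [CommRing A] [CommRing C] (i : A →+* C)
    (hI : RingHom.ker i ^ 2 = ⊥) (h : A) : RingHom.ker (Localization.awayMap i h) ^ 2 = ⊥ := by
  have := IsLocalization.ker_map (S := Localization.Away h) (Localization.Away (i h)) i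
    (Submonoid.map_powers i h)
  rw [show RingHom.ker (Localization.awayMap i h) = _ from this, ← Ideal.map_pow, hI,
    Ideal.map_bot]

/-- Global lifting along affine square zero thickenings. -/
theorem exists_lift {X Y : Scheme.{u}} (f : X ⟶ Y) (hf : AffLocFS f)
    (hPD : LocallyOfFiniteType f ∨ ProjDescent.{u}) {A C : CommRingCat.{u}} (i : A ⟶ C)
    (hi : Function.Surjective i) (hI : RingHom.ker i.hom ^ 2 = ⊥)
    (a : Spec C ⟶ X) (b : Spec A ⟶ Y) (w : Spec.map i ≫ b = a ≫ f) :
    ∃ l : Spec A ⟶ X, Spec.map i ≫ l = a ∧ l ≫ f = b := by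
  obtain ⟨B, α, ε, hαε, hN, hlift, hfin, hft⟩ := exists_geo f hf i hi hI a b w
  -- the good basic opens of `Spec C`
  let s : Set C := {g | ∃ (U₀ : X.Opens) (V₀ : Y.Opens), IsAffineOpen U₀ ∧ IsAffineOpen V₀ ∧
    U₀ ≤ f ⁻¹ᵁ V₀ ∧ ∀ t : Spec C, g ∉ t.asIdeal → a t ∈ U₀}
  have hs : Ideal.span s = ⊤ := by
    by_contra hne
    obtain ⟨m, hm, hsm⟩ := Ideal.exists_le_maximal _ hne
    let t : Spec C := ⟨m, hm.isPrime⟩
    obtain ⟨_, ⟨V₀, hV₀, rfl⟩, hxV, -⟩ :=
      Y.isBasis_affineOpens.exists_subset_of_mem_open (Set.mem_univ (f (a t))) isOpen_univ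
    obtain ⟨_, ⟨U₀, hU₀, rfl⟩, hxU, hUV⟩ :=
      X.isBasis_affineOpens.exists_subset_of_mem_open (a := a t) hxV (f ⁻¹ᵁ V₀).isOpen
    obtain ⟨_, ⟨g, rfl⟩, hg1, hg2⟩ :=
      PrimeSpectrum.isTopologicalBasis_basic_opens.exists_subset_of_mem_open (a := t) hxU
        (a ⁻¹ᵁ U₀).isOpen
    exact hg1 (hsm (Ideal.subset_span ⟨U₀, V₀, hU₀, hV₀, hUV, fun t ht ↦ hg2 ht⟩))
  algebraize [α.hom, ε.hom, i.hom]
  have tow : IsScalarTower A B C := IsScalarTower.of_algebraMap_eq (fun x ↦ by
    exact congr($(hαε.symm).hom x))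
  -- the lifting property over good basic opens
  have hspec : ∀ g ∈ s, ∃ (U₀ : X.Opens) (V₀ : Y.Opens), IsAffineOpen U₀ ∧ IsAffineOpen V₀ ∧
      U₀ ≤ f ⁻¹ᵁ V₀ ∧
      (Spec.map (CommRingCat.ofHom (algebraMap C (Localization.Away g))) ≫ a) ⁻¹ᵁ U₀ = ⊤ := by
    rintro g ⟨U₀, V₀, h1, h2, h3, h4⟩
    refine ⟨U₀, V₀, h1, h2, h3, ?_⟩
    rw [← top_le_iff]
    rintro x -
    refine h4 _ ?_
    intro h5
    have h6 : algebraMap C (Localization.Away g) g ∈ x.asIdeal := h5
    exact x.2.ne_top (Ideal.eq_top_of_isUnit_mem _ h6 (IsLocalization.Away.algebraMap_isUnit g))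
  have hHL : ∀ g ∈ s, HasLift A B (Localization.Away g) := by
    intro g hg D₁ D₂ _ _ δ j₁ j₂ hj₁ hj₂ hker hδ φ₂ hφ hφ'
    obtain ⟨U₀, V₀, h1, h2, h3, h4⟩ := hspec g hg
    obtain ⟨φ₁, h5, h6⟩ := hlift U₀ V₀ h1 h2 h3 (CommRingCat.of D₁) (CommRingCat.of D₂)
      (CommRingCat.of (Localization.Away g))
      (CommRingCat.ofHom (algebraMap C (Localization.Away g))) (CommRingCat.ofHom δ)
      (CommRingCat.ofHom j₁) (CommRingCat.ofHom j₂) hj₁ hj₂ hker h4 (by
        ext x
        refine (hδ x).trans ?_
        exact IsScalarTower.algebraMap_apply A C (Localization.Away g) x)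
      (CommRingCat.ofHom φ₂) (by
        ext x
        exact hφ x) (by
        ext x
        refine (hφ' x).trans ?_
        exact IsScalarTower.algebraMap_apply B C (Localization.Away g) x)
    exact ⟨φ₁.hom, fun x ↦ congr($(h5).hom x), fun x ↦ congr($(h6).hom x)⟩
  have hproj : ∀ g ∈ s, Module.Projective (Localization.Away g)
      (Localization.Away g ⊗[C] (C ⊗[B] Ω[B⁄A])) := by
    intro g hg
    have := projective_of_lift (hHL g hg)
    exact Module.Projective.of_equiv
      (TensorProduct.AlgebraTensorModule.cancelBaseChange B C (Localization.Away g)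
        (Localization.Away g) (Ω[B⁄A])).symm
  have hP : Module.Projective C (C ⊗[B] Ω[B⁄A]) := by
    rcases hPD with h | h
    · have : Algebra.FiniteType A B := hft h
      exact projective_of_finite_of_local _ _ s hs hproj
    · exact h _ _ s hs hproj
  -- injectivity
  have hinj : ∀ x : A, algebraMap A C x = 0 → algebraMap A B x = 0 → x = 0 := by
    intro x hx1 hx2
    let J : Ideal A := Ideal.span {x}
    by_contra hne
    have hann : (Submodule.annihilator (R := A) (Ideal.span {x})) ≠ ⊤ := by
      rw [Ne, Submodule.annihilator_eq_top_iff, Ideal.span_singleton_eq_bot]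
      exact hne
    obtain ⟨m, hm, hle⟩ := Ideal.exists_le_maximal _ hann
    have hkm : ∀ y : A, algebraMap A C y = 0 → y ∈ m := by
      intro y hy
      have h1 : y ^ 2 ∈ RingHom.ker i.hom ^ 2 := Ideal.pow_mem_pow (show i.hom y = 0 from hy) 2
      rw [hI] at h1
      have h2 : y ^ 2 = 0 := h1
      exact hm.isPrime.mem_of_pow_mem 2 (h2 ▸ m.zero_mem)
    obtain ⟨g, hgs, hgm⟩ : ∃ g ∈ s, g ∉ m.map (algebraMap A C) := by
      by_contra hcon
      push Not at hcon
      have h1 : Ideal.span s ≤ m.map (algebraMap A C) := Ideal.span_le.mpr hcon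
      rw [hs] at h1
      obtain ⟨y, hy1, hy2⟩ := (Ideal.mem_map_iff_of_surjective (algebraMap A C) hi).mp
        (h1 (Submodule.mem_top : (1 : C) ∈ _))
      refine hm.ne_top ((Ideal.eq_top_iff_one m).mpr ?_)
      have h3 := hkm (1 - y) (by rw [map_sub, map_one, hy2, sub_self])
      simpa using m.add_mem h3 hy1
    obtain ⟨h, rfl⟩ := hi g
    have hhm : h ∉ m := fun hh ↦ hgm (Ideal.mem_map_of_mem _ hh)
    obtain ⟨φ₁, hφ₁, -⟩ := hHL (i.hom h) hgs (Localization.Away h) (Localization.Away (i.hom h))
      (algebraMap A (Localization.Away h)) (Localization.awayMap i.hom h)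
      (RingHom.id (Localization.Away (i.hom h))) (awayMap_surjective i.hom hi h)
      Function.surjective_id (by rw [RingHom.id_comp]; exact ker_awayMap_sq i.hom hI h)
      (by
        intro a
        rw [RingHom.id_apply]
        refine (awayMap_algebraMap i.hom h a).trans ?_
        exact (IsScalarTower.algebraMap_apply A C (Localization.Away (i.hom h)) a).symm)
      (algebraMap B (Localization.Away (i.hom h))) (by
        intro a
        rw [← IsScalarTower.algebraMap_apply]
        refine Eq.trans ?_ (awayMap_algebraMap i.hom h a).symm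
        exact IsScalarTower.algebraMap_apply A C (Localization.Away (i.hom h)) a) (fun b ↦ rfl)
    have h1 : algebraMap A (Localization.Away h) x = 0 := by
      rw [← hφ₁ x, hx2, map_zero]
    obtain ⟨⟨_, n, rfl⟩, hn⟩ := (IsLocalization.map_eq_zero_iff (Submonoid.powers h)
      (Localization.Away h) x).mp h1
    have h2 : h ^ n ∈ (Ideal.span {x}).annihilator := by
      rw [Submodule.mem_annihilator_span_singleton]
      exact hn
    exact hhm (hm.isPrime.mem_of_pow_mem n (hle h2))
  obtain ⟨ρ, hρ⟩ := exists_retraction (A := A) (B := B) (C := C) hi hN hinj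
  refine hfin (CommRingCat.ofHom ρ.toRingHom) ?_ ?_
  · ext x
    exact ρ.commutes x
  · ext x
    exact hρ x

end Groth.Agent.Flat2H.FSSmooth
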