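import Groth.Prelude.Def_MoreMor
import Groth.Agent.Flat2H.FSHom
import Groth.Agent.Flat2H.FSSmooth

/-!
# Formally smooth morphisms in the sense of `MoreMor`
-/

set_option autoImplicit false

universe u

namespace Groth.Agent.Flat2H.FSSmoothHom

open AlgebraicGeometry CategoryTheory Limits
open Groth.Agent.Flat2H.FSLift Groth.Agent.Flat2H.FSSmooth Groth.Agent.Flat2H.FSHom

theorem isFormallySmoothHom_of_affLocFS {X Y : Scheme.{u}} (f : X ⟶ Y) (hf : AffLocFS f)
    (hPD : LocallyOfFiniteType f ∨ ProjDescent.{u}) : MoreMor.IsFormallySmoothHom f := by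
  intro A _ I hI a b w
  exact exists_lift f hf hPD (CommRingCat.ofHom (Ideal.Quotient.mk I))
    Ideal.Quotient.mk_surjective (by rw [CommRingCat.hom_ofHom, Ideal.mk_ker]; exact hI) a b w

theorem affLocFS_of_smooth {X Y : Scheme.{u}} (f : X ⟶ Y) [Smooth f] : AffLocFS f :=
  fun _ _ hU hV hUV ↦ (f.smooth_appLE hV hU hUV).formallySmooth

/-- Smooth morphisms have the infinitesimal lifting property. -/
theorem isFormallySmoothHom_of_smooth {X Y : Scheme.{u}} (f : X ⟶ Y) [Smooth f] :
    MoreMor.IsFormallySmoothHom f :=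
  isFormallySmoothHom_of_affLocFS f (affLocFS_of_smooth f) (Or.inl inferInstance)

theorem smooth_iff {X Y : Scheme.{u}} (f : X ⟶ Y) :
    Smooth f ↔ LocallyOfFinitePresentation f ∧ MoreMor.IsFormallySmoothHom f := by
  constructor
  · intro hf
    exact ⟨inferInstance, isFormallySmoothHom_of_smooth f⟩
  · rintro ⟨h1, h2⟩
    refine ⟨fun {V} hV {U} hU hUV ↦ ?_⟩
    rw [RingHom.smooth_def]
    exact ⟨affLocFS_of_isFormallySmoothHom f h2 U V hU hV hUV, f.finitePresentation_appLE hV hU hUV⟩

end Groth.Agent.Flat2H.FSSmoothHom
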