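import Groth.Agent.Flat2H.KoszulWrap
import Mathlib.RingTheory.Flat.Localization
import Mathlib.RingTheory.Localization.Away.Basic
import Mathlib.RingTheory.Localization.AtPrime.Basic
import Mathlib.RingTheory.Derivation.Basic

/-!
# Koszul-regular ideals (frozen `LCI.IsKoszulRegularIdeal`): formal properties
-/

set_option autoImplicit false

universe u

namespace Groth.Agent.Flat2H.KoszulIdeal

open LCI KoszulSeq KoszulWrap

/-- The ideal is generated by a Koszul-regular sequence. -/
def GenK {R : Type u} [CommRing R] (J : Ideal R) : Prop :=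
  ∃ l : List R, IsKoszulRegularSeq R l ∧ J = Ideal.ofList l

variable {A B : Type u} [CommRing A] [CommRing B]

lemma GenK.map [Algebra A B] [Module.Flat A B] {I : Ideal A} (h : GenK I) :
    GenK (I.map (algebraMap A B)) := by
  obtain ⟨l, hl, rfl⟩ := h
  exact ⟨_, isKoszulRegularSeq_map hl, Ideal.map_ofList _ _⟩

lemma genK_top : GenK (⊤ : Ideal A) :=
  ⟨[1], isKoszulRegularSeq_of_ofList_eq_top (by simp), by simp⟩

/-- transport along a localization algebra. -/
lemma GenK.map_of_isUnit {I : Ideal A} (g : A) (A' : Type u) [CommRing A'] [Algebra A A']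
    [IsLocalization.Away g A'] (h : GenK (I.map (algebraMap A A'))) (T : Type u) [CommRing T]
    [Algebra A T] [Module.Flat A T] (hg : IsUnit (algebraMap A T g)) :
    GenK (I.map (algebraMap A T)) := by
  let φ : A' →+* T := IsLocalization.Away.lift g hg
  let := φ.toAlgebra
  have hφ : φ.comp (algebraMap A A') = algebraMap A T := IsLocalization.Away.lift_comp g hg
  have : IsScalarTower A A' T := IsScalarTower.of_algebraMap_eq' hφ.symm
  have : Module.Flat A' T := (Module.flat_iff_of_isLocalization A' (Submonoid.powers g) T).2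
    inferInstance
  have := h.map (B := T)
  rwa [Ideal.map_map, ← IsScalarTower.algebraMap_eq] at this

lemma isKoszulRegularIdeal_iff {I : Ideal A} :
    IsKoszulRegularIdeal I ↔ ∀ p : Ideal A, p.IsPrime → I ≤ p → ∃ g : A, g ∉ p ∧
      GenK (I.map (algebraMap A (Localization.Away g))) :=
  ⟨fun h p hp hI => h ⟨p, hp⟩ hI, fun h p hI => h p.asIdeal p.2 hI⟩

/-- Variant of the definition with arbitrary localizations. -/
lemma isKoszulRegularIdeal_of_exists {I : Ideal A} (h : ∀ p : Ideal A, p.IsPrime → I ≤ p →
    ∃ g : A, g ∉ p ∧ ∃ (A' : Type u) (_ : CommRing A') (_ : Algebra A A')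
      (_ : IsLocalization.Away g A'), GenK (I.map (algebraMap A A'))) :
    IsKoszulRegularIdeal I := by
  rw [isKoszulRegularIdeal_iff]
  intro p hp hI
  obtain ⟨g, hg, A', _, _, _, hA'⟩ := h p hp hI
  exact ⟨g, hg, hA'.map_of_isUnit g A' _ (IsLocalization.Away.algebraMap_isUnit g)⟩

lemma IsKoszulRegularIdeal.exists_genK {I : Ideal A} (h : IsKoszulRegularIdeal I) (p : Ideal A)
    [hp : p.IsPrime] : ∃ g : A, g ∉ p ∧ ∀ (T : Type u) [CommRing T] [Algebra A T]
      [Module.Flat A T], IsUnit (algebraMap A T g) → GenK (I.map (algebraMap A T)) := by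
  by_cases hI : I ≤ p
  · obtain ⟨g, hg, h⟩ := isKoszulRegularIdeal_iff.1 h p hp hI
    refine ⟨g, hg, ?_⟩
    intro T _ _ _ hT
    exact h.map_of_isUnit g _ T hT
  · obtain ⟨g, hgI, hg⟩ := Set.not_subset.1 hI
    refine ⟨g, hg, ?_⟩
    intro T _ _ _ hT
    rw [Ideal.eq_top_of_isUnit_mem _ (Ideal.mem_map_of_mem _ hgI) hT]
    exact genK_top

lemma GenK.isKoszulRegularIdeal {I : Ideal A} (h : GenK I) : IsKoszulRegularIdeal I := by
  rw [isKoszulRegularIdeal_iff]
  intro p hp _
  exact ⟨1, fun h1 => hp.ne_top ((Ideal.eq_top_iff_one p).2 h1), h.map⟩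

/-- Flat base change. -/
theorem IsKoszulRegularIdeal.map [Algebra A B] [Module.Flat A B] {I : Ideal A}
    (h : IsKoszulRegularIdeal I) : IsKoszulRegularIdeal (I.map (algebraMap A B)) := by
  rw [isKoszulRegularIdeal_iff]
  intro q hq _
  obtain ⟨g, hg, hT⟩ := IsKoszulRegularIdeal.exists_genK h (q.comap (algebraMap A B))
  refine ⟨algebraMap A B g, hg, ?_⟩
  rw [Ideal.map_map, ← IsScalarTower.algebraMap_eq]
  have : Module.Flat A (Localization.Away (algebraMap A B g)) :=
    Module.Flat.trans A B _
  have h1 : algebraMap A (Localization.Away (algebraMap A B g)) g =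
    algebraMap B _ (algebraMap A B g) := IsScalarTower.algebraMap_apply A B _ g
  refine hT _ ?_
  rw [h1]
  exact IsLocalization.Away.algebraMap_isUnit _

lemma away_of_associated {a b : A} (h : Associated a b) (T : Type u) [CommRing T] [Algebra A T]
    [IsLocalization.Away a T] : IsLocalization.Away b T := by
  obtain ⟨u, rfl⟩ := h
  refine IsLocalization.Away.mk _ ?_ (fun z ↦ ?_) (fun x y hxy ↦ ?_)
  · rw [map_mul]
    exact (IsLocalization.Away.algebraMap_isUnit a).mul (u.isUnit.map _)
  · obtain ⟨n, x, hx⟩ := IsLocalization.Away.surj a z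
    refine ⟨n, x * u ^ n, ?_⟩
    rw [map_mul, map_mul, mul_pow, ← mul_assoc, hx, map_pow]
  · obtain ⟨n, hn⟩ := IsLocalization.Away.exists_of_eq a hxy
    refine ⟨n, ?_⟩
    rw [mul_pow, mul_comm (a ^ n), mul_assoc, mul_assoc, hn]

/-- A localization at `a ∈ A_g`. -/
lemma exists_isLocalization_away_of_away (g : A) (A' : Type u) [CommRing A'] [Algebra A A']
    [IsLocalization.Away g A'] (p : Ideal A) [p.IsPrime] (hg : g ∉ p) (a : A')
    (ha : a ∉ p.map (algebraMap A A')) (T : Type u) [CommRing T] [Algebra A' T]
    [IsLocalization.Away a T] [Algebra A T] [IsScalarTower A A' T] :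
    ∃ g' : A, g' ∉ p ∧ IsLocalization.Away g' T := by
  obtain ⟨b, ⟨_, n, rfl⟩, hb⟩ := IsLocalization.exists_mk'_eq (Submonoid.powers g) a
  refine ⟨b * g, fun h => ?_, ?_⟩
  · rcases Ideal.IsPrime.mem_or_mem ‹_› h with h | h
    · refine ha ?_
      rw [← hb, IsLocalization.mk'_eq_mul_mk'_one]
      exact Ideal.mul_mem_right _ _ (Ideal.mem_map_of_mem _ h)
    · exact hg h
  · have hu : IsUnit (algebraMap A A' g) := IsLocalization.Away.algebraMap_isUnit g
    have hba : Associated a (algebraMap A A' b) := by
      obtain ⟨u, hu⟩ := hu.pow n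
      refine ⟨u, ?_⟩
      rw [← hb, hu, ← map_pow]
      exact IsLocalization.mk'_spec _ _ _
    have : IsLocalization.Away (algebraMap A A' b) T :=
      away_of_associated hba T
    exact IsLocalization.Away.mul A' T g b

/-- Koszul-regularity of ideals is Zariski local. -/
theorem isKoszulRegularIdeal_of_span {I : Ideal A} (s : Set A) (hs : Ideal.span s = ⊤)
    (h : ∀ g ∈ s, IsKoszulRegularIdeal (I.map (algebraMap A (Localization.Away g)))) :
    IsKoszulRegularIdeal I := by
  apply isKoszulRegularIdeal_of_exists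
  intro p hp hI
  obtain ⟨g, hgs, hg⟩ : ∃ g ∈ s, g ∉ p := by
    by_contra! H
    exact hp.ne_top (top_le_iff.1 (hs ▸ Ideal.span_le.2 H))
  have hdisj : Disjoint (Submonoid.powers g : Set A) (p : Set A) := by
    rw [Ideal.disjoint_powers_iff_notMem _ hp.isRadical]
    exact hg
  have hp' : (p.map (algebraMap A (Localization.Away g))).IsPrime :=
    IsLocalization.isPrime_of_isPrime_disjoint (Submonoid.powers g) _ p hp hdisj
  obtain ⟨a, ha, H⟩ := isKoszulRegularIdeal_iff.1 (h g hgs) _ hp' (Ideal.map_mono hI)
  rw [Ideal.map_map] at H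
  rw [← IsScalarTower.algebraMap_eq] at H
  obtain ⟨g', hg', hl⟩ := exists_isLocalization_away_of_away g (Localization.Away g) p hg a ha
    (Localization.Away a)
  exact ⟨g', hg', _, inferInstance, inferInstance, hl, H⟩

section Surjection

variable {R S : Type u} [CommRing R] [CommRing S]

/-- The localization of a surjection. -/
lemma exists_awayMap (π : R →+* S) (hπ : Function.Surjective π) (g : R) :
    ∃ π' : Localization.Away g →+* Localization.Away (π g), Function.Surjective π' ∧
      RingHom.ker π' = (RingHom.ker π).map (algebraMap R _) ∧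
      π'.comp (algebraMap R _) = (algebraMap S _).comp π := by
  have hM : Submonoid.map π (Submonoid.powers g) = Submonoid.powers (π g) := Submonoid.map_powers π g
  refine ⟨IsLocalization.map (Localization.Away (π g)) π (hM.symm ▸ (Submonoid.powers g).le_comap_map),
    ?_, IsLocalization.ker_map (Localization.Away (π g)) π hM, IsLocalization.map_comp _⟩
  exact IsLocalization.map_surjective_of_surjective _ _ _ hπ

/-- The ideal generated by a lift of generators together with generators of the kernel. -/
lemma eq_ofList_append (π : R →+* S) (hπ : Function.Surjective π) (K : Ideal R)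
    (hK : RingHom.ker π ≤ K) {l m : List R} (hl : RingHom.ker π = Ideal.ofList l)
    (hm : K.map π = Ideal.ofList (m.map π)) : K = Ideal.ofList (m ++ l) := by
  have h1 : K = (K.map π).comap π := by
    rw [Ideal.comap_map_of_surjective π hπ]
    exact (sup_eq_left.2 (by rwa [RingHom.ker_eq_comap_bot] at hK)).symm
  rw [h1, hm, ← Ideal.map_ofList, Ideal.comap_map_of_surjective π hπ, Ideal.ofList_append, ← hl,
    RingHom.ker_eq_comap_bot]

/-- **Extension.** If the kernel of a surjection `π : R → S` is a Koszul-regular ideal and `J ⊆ S` is a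
Koszul-regular ideal then so is the preimage of `J`. -/
theorem IsKoszulRegularIdeal.comap (π : R →+* S) (hπ : Function.Surjective π)
    (hker : IsKoszulRegularIdeal (RingHom.ker π)) {J : Ideal S} (hJ : IsKoszulRegularIdeal J) :
    IsKoszulRegularIdeal (J.comap π) := by
  rw [isKoszulRegularIdeal_iff]
  intro q hq hqJ
  have hkJ : RingHom.ker π ≤ J.comap π := fun x hx => by
    rw [Ideal.mem_comap, RingHom.mem_ker.1 hx]
    exact zero_mem _
  have hkq : RingHom.ker π ≤ q := hkJ.trans hqJ
  have hr : (q.map π).IsPrime := Ideal.map_isPrime_of_surjective hπ hkq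
  have hqr : (q.map π).comap π = q := by
    rw [Ideal.comap_map_of_surjective π hπ]
    exact sup_eq_left.2 (by rwa [RingHom.ker_eq_comap_bot] at hkq)
  obtain ⟨g, hg, hT⟩ := IsKoszulRegularIdeal.exists_genK hker q
  obtain ⟨h, hh, hT'⟩ := IsKoszulRegularIdeal.exists_genK hJ (q.map π)
  obtain ⟨h, rfl⟩ := hπ h
  refine ⟨g * h, fun hgh => ?_, ?_⟩
  · rcases hq.mem_or_mem hgh with hgh | hgh
    · exact hg hgh
    · exact hh (Ideal.mem_map_of_mem π hgh)
  obtain ⟨π', hπ', hk, hc⟩ := exists_awayMap π hπ (g * h)
  have hu : IsUnit (algebraMap R (Localization.Away (g * h)) (g * h)) :=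
    IsLocalization.Away.algebraMap_isUnit _
  rw [map_mul, IsUnit.mul_iff] at hu
  have hu' : ∀ x, x = π (g * h) → IsUnit (algebraMap S (Localization.Away (π (g * h))) x) := by
    rintro x rfl
    exact IsLocalization.Away.algebraMap_isUnit _
  replace hu' := hu' (π g * π h) (map_mul π g h).symm
  rw [map_mul (algebraMap S (Localization.Away (π (g * h)))), IsUnit.mul_iff] at hu'
  obtain ⟨l, hl, hl'⟩ := hT (Localization.Away (g * h)) hu.1
  obtain ⟨m, hm, hm'⟩ := hT' (Localization.Away (π (g * h))) hu'.2
  obtain ⟨m, rfl⟩ : ∃ m' : List (Localization.Away (g * h)), m'.map π' = m :=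
    ⟨m.map (Function.surjInv hπ'), by
      rw [List.map_map, (Function.rightInverse_surjInv hπ').comp_eq_id, List.map_id]⟩
  rw [hl'] at hk
  refine ⟨m ++ l, (isKoszulRegularSeq_append_iff_of_surjective m hl π' hπ' hk).2 hm, ?_⟩
  refine eq_ofList_append π' hπ' _ ?_ hk ?_
  · rw [hk, ← hl']
    exact Ideal.map_mono hkJ
  · rw [Ideal.map_map, hc, ← Ideal.map_map, Ideal.map_comap_of_surjective π hπ, hm']

/-- Exchange: an element `t` of a Koszul-regular ideal `K` which is part of a minimal system of
generators at `q` can be taken as the last element of a Koszul-regular generating sequence near `q`. -/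
lemma exists_genK_append {K : Ideal R} (hK : IsKoszulRegularIdeal K) (q : Ideal R) [hq : q.IsPrime]
    (hKq : K ≤ q) (t : R) (ht : t ∈ K) (hqt : ∀ s : R, s ∉ q → s * t ∉ q * K) :
    ∃ g : R, g ∉ q ∧ ∃ m : List (Localization.Away g),
      IsKoszulRegularSeq (Localization.Away g) (m ++ [algebraMap R _ t]) ∧
      K.map (algebraMap R (Localization.Away g)) = Ideal.ofList (m ++ [algebraMap R _ t]) := by
  obtain ⟨g, hg, l, hl, hl'⟩ := isKoszulRegularIdeal_iff.1 hK q hq hKq
  have ht' : algebraMap R (Localization.Away g) t ∈ Ideal.ofList l :=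
    hl' ▸ Ideal.mem_map_of_mem _ ht
  rw [ofList_eq_span_range, Ideal.mem_span_range_iff_exists_fun] at ht'
  obtain ⟨c, hc⟩ := ht'
  obtain ⟨i, hi⟩ : ∃ i, c i ∉ q.map (algebraMap R (Localization.Away g)) := by
    by_contra! H
    have h1 : algebraMap R (Localization.Away g) t ∈ (q * K).map (algebraMap R _) := by
      rw [← hc, Ideal.map_mul]
      refine sum_mem fun j _ => Ideal.mul_mem_mul (H j) ?_
      rw [hl']
      exact Ideal.subset_span (List.get_mem l j)
    rw [IsLocalization.algebraMap_mem_map_algebraMap_iff (Submonoid.powers g)] at h1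
    obtain ⟨_, ⟨n, rfl⟩, hn⟩ := h1
    exact hqt (g ^ n) (fun h => hg (hq.mem_of_pow_mem n h)) hn
  obtain ⟨g', hg', hT⟩ := exists_isLocalization_away_of_away g (Localization.Away g) q hg (c i) hi
    (Localization.Away (c i))
  have hu : IsUnit (algebraMap (Localization.Away g) (Localization.Away (c i)) (c i)) :=
    IsLocalization.Away.algebraMap_isUnit _
  -- the ring `T` and the map from `R_g`
  let e : Localization.Away (c i) →+* Localization.Away g' :=
    IsLocalization.Away.lift (S := Localization.Away (c i)) g'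
      (g := algebraMap R (Localization.Away g')) (IsLocalization.Away.algebraMap_isUnit g')
  have he : e.comp (algebraMap R (Localization.Away (c i))) = algebraMap R (Localization.Away g') :=
    IsLocalization.Away.lift_comp _ _
  let ψ : Localization.Away g →+* Localization.Away g' := e.comp (algebraMap _ _)
  have hψ : ψ.comp (algebraMap R (Localization.Away g)) = algebraMap R (Localization.Away g') := by
    rw [RingHom.comp_assoc, ← IsScalarTower.algebraMap_eq, he]
  have huψ : IsUnit (ψ (c i)) := hu.map e
  let := ψ.toAlgebra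
  have : IsScalarTower R (Localization.Away g) (Localization.Away g') :=
    IsScalarTower.of_algebraMap_eq' hψ.symm
  have : Module.Flat (Localization.Away g) (Localization.Away g') :=
    (Module.flat_iff_of_isLocalization (Localization.Away g) (Submonoid.powers g) _).2 inferInstance
  have hl2 := isKoszulRegularSeq_map (B := Localization.Away g') hl
  have hKl : K.map (algebraMap R (Localization.Away g')) = Ideal.ofList (l.map ψ) := by
    rw [← hψ, ← Ideal.map_map, hl', Ideal.map_ofList]
  refine ⟨g', hg', (l.eraseIdx i).map ψ, ?_⟩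
  set N := Ideal.ofList ((l.eraseIdx i).map ψ ++ [algebraMap R (Localization.Away g') t]) with hN
  have htN : algebraMap R (Localization.Away g') t ∈ N := Ideal.subset_span (by simp)
  have hjN : ∀ j, j ≠ i → ψ (l.get j) ∈ N := by
    intro j hj
    refine Ideal.subset_span ?_
    simp only [List.mem_append, List.mem_map, Set.mem_ofPred_eq]
    left
    exact ⟨l.get j, List.mem_eraseIdx_iff_getElem.2 ⟨j, j.2, fun e => hj (Fin.ext e), rfl⟩, rfl⟩
  have hiN : ψ (l.get i) ∈ N := by
    rw [← Ideal.unit_mul_mem_iff_mem N huψ]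
    have h1 := congrArg ψ hc
    rw [map_sum, ← Finset.add_sum_erase _ _ (Finset.mem_univ i), map_mul] at h1
    have h2 : ψ (algebraMap R (Localization.Away g) t) = algebraMap R (Localization.Away g') t :=
      DFunLike.congr_fun hψ t
    rw [h2] at h1
    rw [eq_sub_of_add_eq h1]
    refine sub_mem htN (sum_mem fun j hj => ?_)
    rw [map_mul]
    exact Ideal.mul_mem_left _ _ (hjN j (Finset.ne_of_mem_erase hj))
  have hlN : ∀ f ∈ l.map ψ, f ∈ N := by
    intro f hf
    obtain ⟨x, hx, rfl⟩ := List.mem_map.1 hf
    obtain ⟨j, rfl⟩ := List.mem_iff_get.1 hx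
    by_cases hj : j = i
    · exact hj ▸ hiN
    · exact hjN j hj
  refine ⟨isKoszulRegularSeq_of_mem hl2 hlN ?_, ?_⟩
  · simp only [List.length_append, List.length_map, List.length_eraseIdx, i.2, if_true,
      List.length_singleton]
    have := i.2
    lia
  · refine le_antisymm ?_ ?_
    · rw [hKl]
      exact Ideal.span_le.2 hlN
    · refine Ideal.span_le.2 fun f hf => ?_
      simp only [List.mem_append, List.mem_map, Set.mem_ofPred_eq, List.mem_singleton] at hf
      rcases hf with ⟨x, hx, rfl⟩ | rfl
      · rw [hKl]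
        exact Ideal.subset_span (List.mem_map.2 ⟨x, List.mem_of_mem_eraseIdx hx, rfl⟩)
      · exact Ideal.mem_map_of_mem _ ht

/-- **Quotient by part of the generators.** If `π : R → S` is surjective with kernel generated by a
nonzerodivisor `t`, if the preimage `K` of `J ⊆ S` is Koszul-regular and if some derivation of `R`
takes at `t` a value which is invertible along `V(K)`, then `J` is Koszul-regular. -/
theorem isKoszulRegularIdeal_of_comap (π : R →+* S) (hπ : Function.Surjective π) (t : R)
    (ht : t ∈ nonZeroDivisors R) (hker : RingHom.ker π = Ideal.span {t}) {J : Ideal S}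
    (hK : IsKoszulRegularIdeal (J.comap π)) (D : Derivation ℤ R R)
    (hD : ∀ q : Ideal R, q.IsPrime → J.comap π ≤ q → D t ∉ q) : IsKoszulRegularIdeal J := by
  rw [isKoszulRegularIdeal_iff]
  intro r hr hJr
  have hKr : J.comap π ≤ r.comap π := Ideal.comap_mono hJr
  have hkJ : RingHom.ker π ≤ J.comap π := fun x hx => by
    rw [Ideal.mem_comap, RingHom.mem_ker.1 hx]
    exact zero_mem _
  have htK : t ∈ J.comap π := hkJ (hker ▸ Ideal.mem_span_singleton_self t)
  have hDm : ∀ x ∈ r.comap π * J.comap π, D x ∈ r.comap π := by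
    intro x hx
    refine Submodule.mul_induction_on hx (fun a ha b hb => ?_) (fun a b ha hb => ?_)
    · rw [Derivation.leibniz]
      exact add_mem (Ideal.mul_mem_right _ _ ha) (Ideal.mul_mem_right _ _ (hKr hb))
    · rw [map_add]
      exact add_mem ha hb
  obtain ⟨g, hg, m, hm, hKm⟩ := exists_genK_append hK (r.comap π) hKr t htK (fun s hs h => by
    have h1 := hDm _ h
    rw [Derivation.leibniz] at h1
    have h2 : s • D t ∈ r.comap π := by
      have h3 : t • D s ∈ r.comap π := Ideal.mul_mem_right _ _ (hKr htK)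
      simpa using sub_mem h1 h3
    rcases (Ideal.IsPrime.mem_or_mem (inferInstance : (r.comap π).IsPrime) h2) with h | h
    · exact hs h
    · exact hD _ inferInstance hKr h)
  obtain ⟨π', hπ', hk, hc⟩ := exists_awayMap π hπ g
  have hk' : RingHom.ker π' = Ideal.ofList [algebraMap R (Localization.Away g) t] := by
    rw [hk, hker, Ideal.map_span, Set.image_singleton, Ideal.ofList_singleton]
  have ht' : algebraMap R (Localization.Away g) t ∈ nonZeroDivisors (Localization.Away g) :=
    IsLocalization.map_nonZeroDivisors_le (Submonoid.powers g) _ (Submonoid.mem_map_of_mem _ ht)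
  refine ⟨π g, hg, m.map π', ?_, ?_⟩
  · exact (isKoszulRegularSeq_append_iff_of_surjective m (isKoszulRegularSeq_singleton ht') π' hπ'
      hk').1 hm
  · have h1 : J = (J.comap π).map π := (Ideal.map_comap_of_surjective π hπ J).symm
    rw [h1, Ideal.map_map, ← hc, ← Ideal.map_map, hKm, Ideal.map_ofList, List.map_append,
      Ideal.ofList_append]
    have h2 : π' (algebraMap R (Localization.Away g) t) = 0 := by
      rw [← RingHom.mem_ker, hk']
      exact Ideal.subset_span (by simp)
    simp [h2]

end Surjection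

end Groth.Agent.Flat2H.KoszulIdeal
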