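import Groth.Agent.Flat2H.KoszulRes
import Mathlib.RingTheory.Nakayama

/-!
# Koszul-regular sequences over Noetherian rings
-/

set_option autoImplicit false

universe w v u

open CategoryTheory Category Limits CochainComplex CochainComplex.HomComplex CochainComplex.mappingCone
open Groth.Agent.Flat2H.KoszulBasic Groth.Agent.Flat2H.KoszulReg Groth.Agent.Flat2H.KoszulRes
open scoped Pointwise

namespace Groth.Agent.Flat2H.KoszulNoeth

variable {A : Type u} [CommRing A]

/-- `[f]` is Koszul-regular on `M` iff `f` is a nonzerodivisor on `M`. -/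
lemma kReg_singleton_iff {M : ModuleCat.{u} A} {f : A} : KReg [f] M ↔ IsSMulRegular M f := by
  refine ⟨fun h => ?_, fun h => kReg_singleton h⟩
  have h1 := ((isZero_homology_cone1_iff f (sgl M) (-1) 0 (by norm_num)).1 (h (-1) (by norm_num))).2
  rw [mono_smul_id_iff] at h1
  have e1 : ((sgl M).homology 0 : Type u) ≃ₗ[A] M :=
    (HomologicalComplex.singleObjHomologySelfIso _ 0 M).toLinearEquiv
  exact (e1.isSMulRegular_congr f).1 h1

lemma isKoszulRegularSeq_singleton_iff {f : A} : LCI.IsKoszulRegularSeq A [f] ↔ IsSMulRegular A f := by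
  rw [isKoszulRegularSeq_iff, kReg_singleton_iff]

/-- Cohomology of a complex of finite modules over a Noetherian ring is finite. -/
lemma finite_homology [IsNoetherianRing A] (K : CochainComplex (ModuleCat.{u} A) ℤ)
    (hK : ∀ i, Module.Finite A (K.X i)) (i : ℤ) : Module.Finite A (K.homology i) := by
  have := hK i
  have h1 : Module.Finite A (K.sc i).X₂ := hK i
  have : Module.Finite A (LinearMap.ker (K.sc i).g.hom) := inferInstance
  let e : ((K.sc i).homology : Type u) ≃ₗ[A] (K.sc i).moduleCatLeftHomologyData.H :=
    (K.sc i).moduleCatHomologyIso.toLinearEquiv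
  let q : LinearMap.ker (K.sc i).g.hom →ₗ[A] (K.sc i).moduleCatLeftHomologyData.H :=
    (LinearMap.range (K.sc i).moduleCatToCycles).mkQ
  exact Module.Finite.of_surjective (e.symm.toLinearMap ∘ₗ q)
    (e.symm.surjective.comp (Submodule.mkQ_surjective _))

lemma finite_homology_kos [IsNoetherianRing A] (l : List A) (M : Type u) [AddCommGroup M] [Module A M]
    [Module.Finite A M] (i : ℤ) : Module.Finite A ((kos l (sgl (ModuleCat.of A M))).homology i) := by
  refine finite_homology _ (fun i => finite_kos_X l _ (fun i => ?_) i) i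
  by_cases hi : i = 0
  · subst hi
    have e : ((sgl (ModuleCat.of A M)).X 0 : Type u) ≃ₗ[A] M :=
      (HomologicalComplex.singleObjXSelf (ComplexShape.up ℤ) 0 _).toLinearEquiv
    exact Module.Finite.equiv e.symm
  · have h := isZero_sgl_X (ModuleCat.of A M) i (by omega)
    rw [ModuleCat.isZero_iff_subsingleton] at h
    infer_instance

/-- Over a Noetherian ring, a Koszul-regular sequence (on a finite module) contained in the Jacobson radical
of the ring: the tail is Koszul-regular and the head is a nonzerodivisor modulo the tail. -/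
lemma kReg_of_cons [IsNoetherianRing A] {f : A} {l : List A} {M : Type u} [AddCommGroup M] [Module A M]
    [Module.Finite A M] (hf : f ∈ Ideal.jacobson (⊥ : Ideal A)) (h : KReg (f :: l) (ModuleCat.of A M)) :
    KReg l (ModuleCat.of A M) ∧ IsSMulRegular (M ⧸ (Ideal.ofList l • ⊤ : Submodule A M)) f := by
  constructor
  · intro i hi
    rcases lt_or_gt_of_ne hi with hi' | hi'
    · have h1 := ((isZero_homology_cone1_iff f (kos l (sgl (ModuleCat.of A M))) i (i + 1) rfl).1 (h i hi)).1
      rw [epi_smul_id_iff] at h1
      have := finite_homology_kos l M i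
      rw [ModuleCat.isZero_iff_subsingleton]
      have h2 : (⊤ : Submodule A ((kos l (sgl (ModuleCat.of A M))).homology i)) = ⊥ := by
        apply Submodule.eq_bot_of_le_smul_of_le_jacobson_bot (Ideal.span {f}) _ Module.Finite.fg_top
        · intro x _
          obtain ⟨y, hy⟩ := h1 x
          rw [← hy]
          exact Submodule.smul_mem_smul (Ideal.mem_span_singleton_self f) Submodule.mem_top
        · rwa [Ideal.span_singleton_le_iff_mem]
      exact (Submodule.subsingleton_iff A).1 (subsingleton_of_top_le_bot h2.le)
    · exact isZero_kos_sgl_homology l _ i (Or.inr hi')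
  · have h1 := ((isZero_homology_cone1_iff f (kos l (sgl (ModuleCat.of A M))) (-1) 0 (by norm_num)).1
      (h (-1) (by norm_num))).2
    rw [mono_smul_id_iff] at h1
    obtain ⟨e⟩ := nonempty_homology_zero_equiv l (ModuleCat.of A M)
    exact (e.isSMulRegular_congr f).1 h1

/-- Over a Noetherian ring, a Koszul-regular sequence on a finite module contained in the Jacobson radical is
weakly regular. -/
theorem isWeaklyRegular_of_kReg [IsNoetherianRing A] {l : List A} {M : Type u} [AddCommGroup M] [Module A M]
    [Module.Finite A M] (hl : ∀ f ∈ l, f ∈ Ideal.jacobson (⊥ : Ideal A)) (h : KReg l (ModuleCat.of A M)) :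
    RingTheory.Sequence.IsWeaklyRegular M l := by
  induction l with
  | nil => exact .nil A M
  | cons f l ih =>
    obtain ⟨h1, h2⟩ := kReg_of_cons (hl f List.mem_cons_self) h
    have h3 := ih (fun x hx => hl x (List.mem_cons_of_mem _ hx)) h1
    have h4 : RingTheory.Sequence.IsWeaklyRegular M (l ++ [f]) := by
      rw [RingTheory.Sequence.isWeaklyRegular_append_iff, RingTheory.Sequence.isWeaklyRegular_singleton_iff]
      exact ⟨h3, h2⟩
    refine h4.of_perm_of_subset_jacobson_annihilator (List.perm_append_singleton f l) ?_
    intro x hx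
    have hx' : x ∈ Ideal.jacobson (⊥ : Ideal A) := hl x (by
      rw [List.mem_append, List.mem_singleton] at hx
      rcases hx with hx | rfl
      · exact List.mem_cons_of_mem _ hx
      · exact List.mem_cons_self)
    exact Ideal.jacobson_mono bot_le hx'

/-- Over a Noetherian local ring, a sequence in the maximal ideal is Koszul-regular iff it is regular. -/
theorem isKoszulRegularSeq_iff_isWeaklyRegular [IsNoetherianRing A] [IsLocalRing A] {l : List A}
    (hl : ∀ f ∈ l, f ∈ IsLocalRing.maximalIdeal A) :
    LCI.IsKoszulRegularSeq A l ↔ RingTheory.Sequence.IsWeaklyRegular A l := by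
  rw [isKoszulRegularSeq_iff]
  refine ⟨fun h => isWeaklyRegular_of_kReg (fun f hf => ?_) h, fun h => kReg_of_isWeaklyRegular h⟩
  rw [IsLocalRing.jacobson_eq_maximalIdeal _ bot_ne_top]
  exact hl f hf

end Groth.Agent.Flat2H.KoszulNoeth
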