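import Groth.Agent.MiscA.RegSeq
import Mathlib.Algebra.Module.SpanRankOperations
import Mathlib.RingTheory.Flat.FaithfullyFlat.Algebra
import Mathlib.RingTheory.Regular.Flat
import Mathlib.RingTheory.LocalRing.ResidueField.Instances
import Mathlib.LinearAlgebra.Dimension.Constructions

/-!
# Descent of ideals generated by regular sequences along flat local homomorphisms
-/

set_option autoImplicit false

universe u v w

namespace Groth.Agent.Flat2H.RegDescent

open RingTheory.Sequence TensorProduct IsLocalRing

/-- Weak regularity of a sequence descends along faithfully flat ring maps. -/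
theorem isWeaklyRegular_of_faithfullyFlat {Q : Type u} {D : Type v} [CommRing Q] [CommRing D] [Algebra Q D]
    [Module.FaithfullyFlat Q D] (rs : List Q) (h : IsWeaklyRegular D (rs.map (algebraMap Q D))) :
    IsWeaklyRegular Q rs := by
  rw [isWeaklyRegular_iff_Fin] at h ⊢
  intro i
  have hi : (i : ℕ) < (rs.map (algebraMap Q D)).length := by simp
  have h1 := h ⟨i, hi⟩
  rw [isSMulRegular_quotient_iff_mem_of_smul_mem] at h1 ⊢
  intro x hx
  have h2 := h1 (algebraMap Q D x)
  have h3 : (List.take (i : ℕ) (rs.map (algebraMap Q D))) = (rs.take i).map (algebraMap Q D) := by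
    rw [List.map_take]
  simp only [h3, ← Ideal.map_ofList] at h2
  rw [Ideal.smul_eq_mul, Ideal.mul_top] at h2 hx ⊢
  rw [← Ideal.comap_map_eq_self_of_faithfullyFlat (B := D) (Ideal.ofList (List.take (↑i) rs)), Ideal.mem_comap]
  apply h2
  have h4 := Ideal.mem_map_of_mem (algebraMap Q D) hx
  simpa using h4

section

variable {Q : Type u} {D : Type v} [CommRing Q] [CommRing D] [Algebra Q D]

/-- The map `D ⊗ J → D`. -/
noncomputable def mapHom (J : Ideal Q) : D ⊗[Q] J →ₗ[D] D :=
  (AlgebraTensorModule.rid Q D D).toLinearMap ∘ₗ (Submodule.subtype J).baseChange D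

theorem mapHom_tmul (J : Ideal Q) (d : D) (j : J) : mapHom J (d ⊗ₜ[Q] j) = d * algebraMap Q D j := by
  simp [mapHom, Algebra.smul_def, mul_comm]

theorem mapHom_injective [Module.Flat Q D] (J : Ideal Q) : Function.Injective (mapHom (D := D) J) := by
  have h1 : Function.Injective ((Submodule.subtype J).baseChange D) :=
    Module.Flat.lTensor_preserves_injective_linearMap _ (Submodule.injective_subtype J)
  exact (AlgebraTensorModule.rid Q D D).injective.comp h1

theorem range_mapHom (J : Ideal Q) : LinearMap.range (mapHom (D := D) J) = J.map (algebraMap Q D) := by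
  apply le_antisymm
  · rintro _ ⟨x, rfl⟩
    induction x using TensorProduct.induction_on with
    | zero => simp
    | tmul d j =>
      rw [mapHom_tmul]
      exact Ideal.mul_mem_left _ _ (Ideal.mem_map_of_mem _ j.2)
    | add x y hx hy =>
      rw [map_add]
      exact Ideal.add_mem _ hx hy
  · rw [Ideal.map_le_iff_le_comap]
    intro j hj
    exact ⟨1 ⊗ₜ ⟨j, hj⟩, by rw [mapHom_tmul, one_mul]⟩

/-- `D ⊗ J ≃ J D` for `D` flat. -/
noncomputable def mapEquiv [Module.Flat Q D] (J : Ideal Q) : (D ⊗[Q] J) ≃ₗ[D] (J.map (algebraMap Q D) : Ideal D) :=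
  (LinearEquiv.ofInjective (mapHom J) (mapHom_injective J)).trans (LinearEquiv.ofEq _ _ (range_mapHom J))

/-- The minimal number of generators of an ideal is preserved by flat local homomorphisms. -/
theorem spanFinrank_map_eq [IsLocalRing Q] [IsLocalRing D] [IsLocalHom (algebraMap Q D)] [Module.Flat Q D]
    (J : Ideal Q) (hJ : J.FG) : (J.map (algebraMap Q D)).spanFinrank = J.spanFinrank := by
  have hJ' : (J.map (algebraMap Q D)).FG := hJ.map _
  rw [← TensorProduct.spanFinrank_top_eq_of_residueField J hJ,
    ← TensorProduct.spanFinrank_top_eq_of_residueField (J.map (algebraMap Q D)) hJ',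
    ← Module.finrank_eq_spanFinrank_of_free, ← Module.finrank_eq_spanFinrank_of_free]
  let e1 : ResidueField D ⊗[D] (J.map (algebraMap Q D) : Ideal D) ≃ₗ[ResidueField D]
      ResidueField D ⊗[D] (D ⊗[Q] J) :=
    AlgebraTensorModule.congr (LinearEquiv.refl _ _) (mapEquiv J).symm
  let e2 : ResidueField D ⊗[D] (D ⊗[Q] J) ≃ₗ[ResidueField D] ResidueField D ⊗[Q] J :=
    AlgebraTensorModule.cancelBaseChange Q D (ResidueField D) (ResidueField D) J
  let e3 : ResidueField D ⊗[ResidueField Q] (ResidueField Q ⊗[Q] J) ≃ₗ[ResidueField D] ResidueField D ⊗[Q] J :=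
    AlgebraTensorModule.cancelBaseChange Q (ResidueField Q) (ResidueField D) (ResidueField D) J
  rw [(e1.trans (e2.trans e3.symm)).finrank_eq, Module.finrank_baseChange]

end

section

variable {Q D : Type u} [CommRing Q] [CommRing D] [Algebra Q D] [Module.Flat Q D] [IsLocalRing Q] [IsLocalRing D]
  [IsLocalHom (algebraMap Q D)] [IsNoetherianRing Q] [IsNoetherianRing D]

/-- If `Q → D` is a flat local homomorphism of Noetherian local rings and `J D` is generated by a regular sequence, then
`J` is generated by a regular sequence. -/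
theorem exists_regular_of_flat_local (J : Ideal Q) (rs : List D) (hrs : IsRegular D rs)
    (h : J.map (algebraMap Q D) = Ideal.ofList rs) : ∃ l : List Q, IsRegular Q l ∧ J = Ideal.ofList l := by
  classical
  have hJ : J.FG := IsNoetherian.noetherian J
  obtain ⟨s, hs, hspan⟩ := Submodule.FG.exists_span_finset_card_eq_spanFinrank hJ
  have hff : Module.FaithfullyFlat Q D := Module.FaithfullyFlat.of_flat_of_isLocalHom
  have hl : J = Ideal.ofList s.toList := by
    rw [← hspan]
    unfold Ideal.ofList
    congr 1
    ext x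
    simp
  have hlen : s.toList.length = J.spanFinrank := by rw [Finset.length_toList, hs]
  have hmap : Ideal.ofList rs = Ideal.ofList (s.toList.map (algebraMap Q D)) := by
    rw [← h, ← Ideal.map_ofList, ← hl]
  have h1 : s.toList.length ≤ rs.length := by
    rw [hlen, ← spanFinrank_map_eq (D := D) J hJ, h]
    have h2 : Ideal.ofList rs = Submodule.span D ((rs.toFinset : Set D)) := by
      unfold Ideal.ofList
      congr 1
      ext x
      simp
    rw [h2]
    refine (Submodule.spanFinrank_span_le_ncard_of_finite rs.toFinset.finite_toSet).trans ?_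
    rw [Set.ncard_coe_finset]
    exact rs.toFinset_card_le
  have h2 : ¬ (s.toList.map (algebraMap Q D)).length < rs.length := fun hlt =>
    MiscA.RegSeq.not_eq_of_length_lt hrs hlt hmap
  have h3 : (s.toList.map (algebraMap Q D)).length = rs.length := by
    rw [List.length_map] at h2 ⊢
    omega
  have h4 : IsRegular D (s.toList.map (algebraMap Q D)) :=
    MiscA.RegSeq.isRegular_of_ofList_eq rs.length rs _ rfl h3 hrs hmap
  have h5 : IsWeaklyRegular Q s.toList := isWeaklyRegular_of_faithfullyFlat _ h4.toIsWeaklyRegular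
  refine ⟨s.toList, ?_, hl⟩
  refine IsRegular.of_isWeaklyRegular_of_mem_maximalIdeal Q ?_ h5
  intro r hr
  refine IsLocalRing.le_maximalIdeal (J := J) ?_ (hl ▸ Ideal.subset_span hr)
  intro htop
  have : J.map (algebraMap Q D) = ⊤ := by rw [htop, Ideal.map_top]
  rw [h] at this
  exact MiscA.RegSeq.ofList_ne_top hrs this

end

end Groth.Agent.Flat2H.RegDescent
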