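import Groth.Prelude.Def_LCI2
import Groth.Agent.Flat2H.RegSpread
import Groth.Agent.S0559
import Groth.Agent.Ega3A.KoszulExact
import Groth.Agent.S0561
import Mathlib.RingTheory.RegularLocalRing.Defs
import Mathlib.RingTheory.RegularLocalRing.Polynomial
import Mathlib.RingTheory.Localization.AtPrime.Basic

/-!
# Finite type algebras between regular rings are local complete intersections
-/

set_option autoImplicit false

universe u v w

namespace Groth.Agent.Flat2H.RegularLCI

open RingTheory.Sequence

/-- The kernel of a surjection of regular local rings is generated by a regular sequence. -/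
theorem exists_weaklyRegular_generators (R : Type u) [CommRing R] [IsRegularLocalRing R] (I : Ideal R)
    [IsRegularLocalRing (R ⧸ I)] :
    ∃ rs : List R, IsWeaklyRegular R rs ∧ I = Ideal.ofList rs := by
  have hfin : ringKrullDim R ≠ ⊤ := ringKrullDim_ne_top
  have hbot : ringKrullDim R ≠ ⊥ := ringKrullDim_ne_bot
  obtain ⟨d, hd⟩ : ∃ d : ℕ, ringKrullDim R = d := by
    generalize ringKrullDim R = k at hfin hbot
    induction k with
    | bot => exact absurd rfl hbot
    | coe k =>
      induction k with
      | top => exact absurd rfl hfin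
      | coe k => exact ⟨k, rfl⟩
  obtain ⟨x, c, hc, hx, hI⟩ := Groth.Agent.S0561.result R d hd I
  have hreg := Groth.Agent.S0559.result R d hd x hx
  refine ⟨List.ofFn (fun i : Fin c => x (Fin.castLE hc i)), ?_, ?_⟩
  · have h1 : List.ofFn x = List.ofFn (fun i : Fin c => x (Fin.castLE hc i)) ++ (List.ofFn x).drop c := by
      conv_lhs => rw [← List.take_append_drop c (List.ofFn x)]
      congr 1
      apply List.ext_getElem
      · simp [hc]
      · intro i h₁ h₂
        simp
    have h2 := hreg.toIsWeaklyRegular
    rw [h1, isWeaklyRegular_append_iff] at h2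
    exact h2.1
  · rw [hI]
    congr 1
    ext y
    simp [List.mem_ofFn]

theorem isRegularLocalRing_quotient {P : Type u} {B : Type v} [CommRing P] [CommRing B] (φ : P →+* B)
    (hφ : Function.Surjective φ) (q : Ideal B) [q.IsPrime] [hB : IsRegularLocalRing (Localization.AtPrime q)] :
    IsRegularLocalRing (Localization.AtPrime (q.comap φ) ⧸
      (RingHom.ker φ).map (algebraMap P (Localization.AtPrime (q.comap φ)))) := by
  set p := q.comap φ with hp
  set Pp := Localization.AtPrime p
  set J : Ideal Pp := (RingHom.ker φ).map (algebraMap P Pp)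
  let g : Pp →+* Pp ⧸ J := Ideal.Quotient.mk J
  have hker : ∀ x, φ x = 0 → (g.comp (algebraMap P Pp)) x = 0 := by
    intro x hx
    change Ideal.Quotient.mk J (algebraMap P Pp x) = 0
    rw [Ideal.Quotient.eq_zero_iff_mem]
    exact Ideal.mem_map_of_mem _ hx
  let h : B →+* Pp ⧸ J := (Ideal.Quotient.lift (RingHom.ker φ) (g.comp (algebraMap P Pp)) hker).comp
    (RingHom.quotientKerEquivOfSurjective hφ).symm.toRingHom
  let _ : Algebra B (Pp ⧸ J) := h.toAlgebra
  have H : g.comp (algebraMap P Pp) = (algebraMap B (Pp ⧸ J)).comp φ := by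
    ext x
    change g (algebraMap P Pp x) = (Ideal.Quotient.lift (RingHom.ker φ) (g.comp (algebraMap P Pp)) hker)
      ((RingHom.quotientKerEquivOfSurjective hφ).symm (φ x))
    have : (RingHom.quotientKerEquivOfSurjective hφ).symm (φ x) = Ideal.Quotient.mk _ x := by
      rw [RingEquiv.symm_apply_eq]
      rfl
    rw [this]
    rfl
  have hmap : p.primeCompl.map φ = q.primeCompl := Ideal.map_primeCompl_comap_of_surjective φ hφ q
  have hloc : IsLocalization (p.primeCompl.map φ) (Pp ⧸ J) :=
    IsLocalization.of_surjective p.primeCompl Pp φ hφ g Ideal.Quotient.mk_surjective H (by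
      rw [Ideal.mk_ker])
  rw [hmap] at hloc
  exact IsRegularLocalRing.of_ringEquiv
    (IsLocalization.algEquiv q.primeCompl (Localization.AtPrime q) (Pp ⧸ J)).toRingEquiv

/-- Core: in a regular ring `P`, the kernel of a surjection onto a regular ring is, near each prime containing it,
generated by a weakly regular sequence. -/
theorem exists_away_of_isRegularRing {P B : Type u} [CommRing P] [CommRing B] [IsRegularRing P] [IsRegularRing B]
    (φ : P →+* B) (hφ : Function.Surjective φ) (p : Ideal P) [p.IsPrime] (hp : RingHom.ker φ ≤ p) :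
    ∃ (g : P) (l : List (Localization.Away g)), g ∉ p ∧ IsWeaklyRegular (Localization.Away g) l ∧
      (RingHom.ker φ).map (algebraMap P (Localization.Away g)) = Ideal.ofList l := by
  have hq : (p.map φ).IsPrime := Ideal.map_isPrime_of_surjective hφ hp
  have hpq : (p.map φ).comap φ = p := by
    rw [Ideal.comap_map_of_surjective' φ hφ]
    exact sup_eq_left.2 hp
  have h1 := isRegularLocalRing_quotient φ hφ (p.map φ)
  obtain ⟨rs, hrs, hI⟩ := exists_weaklyRegular_generators (Localization.AtPrime ((p.map φ).comap φ))
    ((RingHom.ker φ).map (algebraMap P (Localization.AtPrime ((p.map φ).comap φ))))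
  obtain ⟨g, l, hg, hl⟩ := RegSpread.exists_away_generated_by_weaklyRegular ((p.map φ).comap φ) (RingHom.ker φ) _ rs hrs hI
  obtain ⟨h2, h3⟩ := hl (Localization.Away g) (Submonoid.powers g) ⟨1, pow_one g⟩
  exact ⟨g, _, by rwa [hpq] at hg, h2, h3⟩

theorem koszul_eq_koszulCx (A : Type u) [CommRing A] (l : List A) :
    Koszul.koszul A l = CohIII.koszulCx (ModuleCat.of A A) l := by
  induction l with
  | nil => rfl
  | cons f l ih =>
    change CochainComplex.mappingCone (f • CategoryTheory.CategoryStruct.id (Koszul.koszul A l)) =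
      CochainComplex.mappingCone (f • CategoryTheory.CategoryStruct.id (CohIII.koszulCx (ModuleCat.of A A) l))
    congr 1 <;> rw [ih]

/-- A weakly regular sequence is Koszul-regular. -/
theorem isKoszulRegularSeq_of_isWeaklyRegular (A : Type u) [CommRing A] (l : List A) (h : IsWeaklyRegular A l) :
    LCI.IsKoszulRegularSeq A l := by
  intro i hi
  refine CategoryTheory.Limits.IsZero.of_iso
    (Groth.Agent.Ega3A.Koszul.isZero_homology_koszulCx_of_isWeaklyRegular l (ModuleCat.of A A) h i hi) ?_
  exact (HomologicalComplex.homologyFunctor _ _ i).mapIso (CategoryTheory.eqToIso (koszul_eq_koszulCx A l))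

/-- The kernel of a surjection of regular rings is a Koszul-regular ideal. -/
theorem isKoszulRegularIdeal_ker {P B : Type u} [CommRing P] [CommRing B] [IsRegularRing P] [IsRegularRing B]
    (φ : P →+* B) (hφ : Function.Surjective φ) : LCI.IsKoszulRegularIdeal (RingHom.ker φ) := by
  intro p hp
  obtain ⟨g, l, hg, h1, h2⟩ := exists_away_of_isRegularRing φ hφ p.asIdeal hp
  exact ⟨g, hg, l, isKoszulRegularSeq_of_isWeaklyRegular _ l h1, h2⟩

/-- A finite type algebra between regular rings is a local complete intersection. -/
theorem isLCI_of_isRegularRing (A B : Type u) [CommRing A] [CommRing B] [Algebra A B] [IsRegularRing A]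
    [IsRegularRing B] [h : Algebra.FiniteType A B] : LCI.IsLCI A B := by
  obtain ⟨n, f, hf⟩ := Algebra.FiniteType.iff_quotient_mvPolynomial''.1 h
  exact ⟨h, n, f, hf, isKoszulRegularIdeal_ker f.toRingHom hf⟩

end Groth.Agent.Flat2H.RegularLCI
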