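import Groth.Agent.Flat2H.FibreLoc
import Groth.Agent.Flat2H.RegDescent
import Groth.Agent.Flat2H.RegSpread
import Groth.Agent.Flat2H.RegularLCI
import Groth.Agent.Flat2H.KoszulNoeth
import Groth.Agent.Flat2H.KoszulIdeal
import Groth.Agent.Models.RegFibre
import Mathlib.RingTheory.Flat.Localization
import Mathlib.RingTheory.Flat.Stability

/-!
# Koszul-regularity of an ideal can be checked on a fibre (flat case, Noetherian base)
-/

set_option autoImplicit false
universe u

open TensorProduct RingTheory.Sequence IsLocalRing

namespace Groth.Agent.Flat2H.FibreKoszul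

open Groth.Agent.Flat2H.KoszulIdeal

theorem isWeaklyRegular_map_equiv {R R' : Type u} [CommRing R] [CommRing R'] (e : R ≃+* R') (l : List R)
    (h : IsWeaklyRegular R l) : IsWeaklyRegular R' (l.map e) := by
  let _ : Algebra R R' := (e : R →+* R').toAlgebra
  let e' : R ≃ₗ[R] R' := { e with map_smul' := fun r x => by simp [Algebra.smul_def]; rfl }
  have h1 : IsWeaklyRegular R' l := (e'.isWeaklyRegular_congr l).1 h
  have h2 := (isWeaklyRegular_map_algebraMap_iff R' R' l).2 h1
  exact h2

theorem exists_regular_of_equiv {R R' : Type u} [CommRing R] [CommRing R'] (e : R ≃+* R') (J : Ideal R)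
    (rs : List R') (hrs : IsRegular R' rs) (h : J.map (e : R →+* R') = Ideal.ofList rs) :
    ∃ l : List R, Ideal.ofList l = J ∧ IsRegular R l := by
  have h2 : Ideal.ofList (rs.map e.symm) = J := by
    change Ideal.ofList (rs.map (e.symm : R' →+* R)) = _
    rw [← Ideal.map_ofList, ← h, Ideal.map_map]
    have h4 : (e.symm : R' →+* R).comp (e : R →+* R') = RingHom.id _ := e.symm_comp
    rw [h4, Ideal.map_id]
  refine ⟨rs.map e.symm, h2, ?_, ?_⟩
  · exact isWeaklyRegular_map_equiv e.symm rs hrs.toIsWeaklyRegular
  · intro h3
    apply hrs.top_ne_smul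
    rw [smul_eq_mul, Ideal.mul_top] at h3 ⊢
    rw [← h, ← h2, ← h3, Ideal.map_top]

/-- Abstract form of the fibre criterion. -/
theorem exists_regular_of_fibre {Λ Q F : Type u} [CommRing Λ] [IsLocalRing Λ] [IsNoetherianRing Λ] [CommRing Q]
    [IsLocalRing Q] [IsNoetherianRing Q] [Algebra Λ Q] [IsLocalHom (algebraMap Λ Q)] [Module.Flat Λ Q] [CommRing F]
    (ψ : Q →+* F) (hψ : Function.Surjective ψ) (hk : RingHom.ker ψ = (maximalIdeal Λ).map (algebraMap Λ Q))
    (K : Ideal Q) (hK : K ≠ ⊤) [Module.Flat Λ (Q ⧸ K)] (rs : List F) (hrs : IsRegular F rs)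
    (h : K.map ψ = Ideal.ofList rs) : ∃ l : List Q, Ideal.ofList l = K ∧ IsRegular Q l := by
  refine (Models.RegFibre.regGen_iff_fibre (R := Λ) (S := Q) K hK).2 ?_
  let e : (Q ⧸ (maximalIdeal Λ).map (algebraMap Λ Q)) ≃+* F :=
    (Ideal.quotEquivOfEq hk.symm).trans (RingHom.quotientKerEquivOfSurjective hψ)
  refine exists_regular_of_equiv e _ rs hrs ?_
  rw [← h, Ideal.map_map]
  congr 1

section Noeth

variable {A P : Type u} [CommRing A] [IsNoetherianRing A] [CommRing P] [Algebra A P] [Algebra.FiniteType A P]
  [Module.Flat A P] (I : Ideal P) [Module.Flat A (P ⧸ I)]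

/-- The total space step: if the image of `I` in the local ring of the fibre is generated by a regular sequence then `I` is
generated near `p` by a Koszul-regular sequence. -/
theorem genK_of_fibre (m : Ideal A) [m.IsPrime] (q : Ideal (m.Fiber P)) [q.IsPrime] (p : Ideal P) [p.IsPrime]
    (hp : p = q.comap (Algebra.TensorProduct.includeRight : P →ₐ[A] m.Fiber P)) (hI : I ≤ p)
    (rs : List (Localization.AtPrime q)) (hrs : IsRegular (Localization.AtPrime q) rs)
    (hrsI : I.map ((algebraMap (m.Fiber P) (Localization.AtPrime q)).comp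
        (Algebra.TensorProduct.includeRight : P →ₐ[A] m.Fiber P).toRingHom) = Ideal.ofList rs) :
    ∃ g : P, g ∉ p ∧ GenK (I.map (algebraMap P (Localization.Away g))) := by
  let _ : Algebra P (m.Fiber P) := Algebra.TensorProduct.rightAlgebra
  have hNP : IsNoetherianRing P := Algebra.FiniteType.isNoetherianRing A P
  have hpm : p.comap (algebraMap A P) = m := by
    rw [hp]
    have h1 : Ideal.comap (algebraMap A P) (q.comap (Algebra.TensorProduct.includeRight : P →ₐ[A] m.Fiber P)) =
        q.comap (algebraMap A (m.Fiber P)) := by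
      ext x
      simp only [Ideal.mem_comap, AlgHom.commutes]
    rw [h1]
    exact (Ideal.over_def q m).symm
  have hqm : q.comap (algebraMap A (m.Fiber P)) = m := (Ideal.over_def q m).symm
  let _ : Algebra (Localization.AtPrime m) (Localization.AtPrime p) :=
    (Localization.localRingHom m p (algebraMap A P) hpm.symm).toAlgebra
  have hΛQ : IsScalarTower A (Localization.AtPrime m) (Localization.AtPrime p) := IsScalarTower.of_algebraMap_eq' (by
    ext a
    exact (Localization.localRingHom_to_map m p (algebraMap A P) hpm.symm a).symm)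
  have hloc : IsLocalHom (algebraMap (Localization.AtPrime m) (Localization.AtPrime p)) :=
    Localization.isLocalHom_localRingHom m p (algebraMap A P) hpm.symm
  have hflQ : Module.Flat (Localization.AtPrime m) (Localization.AtPrime p) := by
    rw [Module.flat_iff_of_isLocalization (Localization.AtPrime m) m.primeCompl]
    exact Module.Flat.trans A P (Localization.AtPrime p)
  have hflK : Module.Flat (Localization.AtPrime m)
      (Localization.AtPrime p ⧸ (I.map (algebraMap P (Localization.AtPrime p)))) := by
    rw [Module.flat_iff_of_isLocalization (Localization.AtPrime m) m.primeCompl]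
    have : IsLocalization (Algebra.algebraMapSubmonoid (P ⧸ I) p.primeCompl)
      (Localization.AtPrime p ⧸ (I.map (algebraMap P (Localization.AtPrime p)))) := inferInstance
    have : Module.Flat (P ⧸ I) (Localization.AtPrime p ⧸ (I.map (algebraMap P (Localization.AtPrime p)))) :=
      IsLocalization.flat _ (Algebra.algebraMapSubmonoid (P ⧸ I) p.primeCompl)
    have : IsScalarTower A (P ⧸ I) (Localization.AtPrime p ⧸ (I.map (algebraMap P (Localization.AtPrime p)))) :=
      IsScalarTower.of_algebraMap_eq fun _ => rfl
    exact Module.Flat.trans A (P ⧸ I) _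
  have hK : I.map (algebraMap P (Localization.AtPrime p)) ≠ ⊤ := by
    have h1 : I.map (algebraMap P (Localization.AtPrime p)) ≤ maximalIdeal (Localization.AtPrime p) := by
      rw [← Localization.AtPrime.map_eq_maximalIdeal]
      exact Ideal.map_mono hI
    exact fun h => (maximalIdeal.isMaximal (Localization.AtPrime p)).ne_top (top_le_iff.1 (h ▸ h1))
  -- the comparison
  have hF : FibreLoc.IsFib (P := P) m (m.Fiber P) := FibreLoc.isFib_fiber m
  have hψk : RingHom.ker (Localization.localRingHom p q (algebraMap P (m.Fiber P)) hp) =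
      (maximalIdeal (Localization.AtPrime m)).map (algebraMap (Localization.AtPrime m) (Localization.AtPrime p)) := by
    rw [FibreLoc.mem_ker_localRingHom_iff hF (FibreLoc.algebraMap_fiber_eq_zero m) q hqm p hp,
      ← Localization.AtPrime.map_eq_maximalIdeal, Ideal.map_map, ← IsScalarTower.algebraMap_eq]
  obtain ⟨l, hl, hl'⟩ := exists_regular_of_fibre (Λ := Localization.AtPrime m)
    (Localization.localRingHom p q (algebraMap P (m.Fiber P)) hp)
    (FibreLoc.localRingHom_surjective hF q hqm p hp) hψk (I.map (algebraMap P (Localization.AtPrime p))) hK rs hrs (by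
      rw [← hrsI, Ideal.map_map]
      congr 1
      ext x
      exact Localization.localRingHom_to_map p q _ hp x)
  obtain ⟨g, l', hg, hl''⟩ := RegSpread.exists_away_generated_by_weaklyRegular p I (Localization.AtPrime p) l
    hl'.toIsWeaklyRegular hl.symm
  obtain ⟨h5, h6⟩ := hl'' (Localization.Away g) (Submonoid.powers g) (Submonoid.mem_powers g)
  exact ⟨g, hg, _, RegularLCI.isKoszulRegularSeq_of_isWeaklyRegular _ _ h5, h6⟩

omit [IsNoetherianRing A] [Module.Flat A P] in
theorem exists_regular_fibre_of_field (I : Ideal P) {k P' : Type u} [Field k] [Algebra A k] [CommRing P'] [Algebra A P']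
    [Algebra k P'] [Algebra P P'] [IsScalarTower A k P'] [IsScalarTower A P P'] [Algebra.IsPushout A k P P']
    (m : Ideal A) [m.IsPrime] (hmk : ∀ a : A, algebraMap A k a = 0 ↔ a ∈ m)
    (r : Ideal P') [r.IsPrime] (rs : List (Localization.AtPrime r)) (hrs : IsRegular (Localization.AtPrime r) rs)
    (h : (I.map (algebraMap P P')).map (algebraMap P' (Localization.AtPrime r)) = Ideal.ofList rs) :
    ∃ (q : Ideal (m.Fiber P)) (_ : q.IsPrime), r.comap (algebraMap P P') =
        q.comap (Algebra.TensorProduct.includeRight : P →ₐ[A] m.Fiber P) ∧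
      ∃ l : List (Localization.AtPrime q), IsRegular (Localization.AtPrime q) l ∧
      I.map ((algebraMap (m.Fiber P) (Localization.AtPrime q)).comp
        (Algebra.TensorProduct.includeRight : P →ₐ[A] m.Fiber P).toRingHom) = Ideal.ofList l := by
  let _ : Algebra P (m.Fiber P) := Algebra.TensorProduct.rightAlgebra
  have hft' : Algebra.FiniteType k P' := Algebra.FiniteType.equiv inferInstance (Algebra.IsPushout.equiv A k P P')
  have hNP' : IsNoetherianRing P' := Algebra.FiniteType.isNoetherianRing k P'
  have hNF : IsNoetherianRing (m.Fiber P) := Algebra.FiniteType.isNoetherianRing m.ResidueField (m.Fiber P)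
  let φ : m.ResidueField →ₐ[A] k := Ideal.ResidueField.liftₐ m (Algebra.ofId A k)
    (fun a ha => (hmk a).2 ha) (fun a ha => by
      have h1 : algebraMap A k a ≠ 0 := fun h => ha ((hmk a).1 h)
      exact isUnit_iff_ne_zero.2 h1)
  let _ : Algebra m.ResidueField k := φ.toRingHom.toAlgebra
  have : IsScalarTower A m.ResidueField k := IsScalarTower.of_algebraMap_eq' φ.comp_algebraMap.symm
  let _ : Algebra m.ResidueField P' := ((algebraMap k P').comp (algebraMap m.ResidueField k)).toAlgebra
  have : IsScalarTower m.ResidueField k P' := IsScalarTower.of_algebraMap_eq' rfl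
  have : IsScalarTower A m.ResidueField P' := IsScalarTower.of_algebraMap_eq' (by
    rw [IsScalarTower.algebraMap_eq m.ResidueField k P', RingHom.comp_assoc,
      ← IsScalarTower.algebraMap_eq A m.ResidueField k, ← IsScalarTower.algebraMap_eq A k P'])
  let χ : m.Fiber P →ₐ[m.ResidueField] P' := Algebra.TensorProduct.lift (Algebra.ofId m.ResidueField P')
    (IsScalarTower.toAlgHom A P P') (fun _ _ => Commute.all _ _)
  let _ : Algebra (m.Fiber P) P' := χ.toRingHom.toAlgebra
  have : IsScalarTower m.ResidueField (m.Fiber P) P' := IsScalarTower.of_algebraMap_eq' χ.comp_algebraMap.symm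
  have : IsScalarTower P (m.Fiber P) P' := IsScalarTower.of_algebraMap_eq fun x => by
    change _ = χ ((1 : m.ResidueField) ⊗ₜ[A] x)
    rw [Algebra.TensorProduct.lift_tmul, map_one, one_mul]
    rfl
  have : IsScalarTower A (m.Fiber P) P' :=
    IsScalarTower.of_algebraMap_eq (R := A) (S := m.Fiber P) (A := P') fun a =>
      ((χ.restrictScalars A).commutes a).symm
  have hpush : Algebra.IsPushout m.ResidueField k (m.Fiber P) P' :=
    (Algebra.IsPushout.comp_iff (R := A) (S := m.ResidueField) (R' := P) (S' := m.Fiber P) (T := k) (T' := P')).1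
      inferInstance
  have hfl : Module.Flat (m.Fiber P) P' := by
    have h1 : Algebra.IsPushout m.ResidueField (m.Fiber P) k P' := hpush.symm
    exact Module.Flat.isBaseChange m.ResidueField (m.Fiber P) k P' h1.out
  have : Module.Flat (m.Fiber P) (Localization.AtPrime r) := Module.Flat.trans (m.Fiber P) P' _
  let q : Ideal (m.Fiber P) := r.comap (algebraMap (m.Fiber P) P')
  let _ : Algebra (Localization.AtPrime q) (Localization.AtPrime r) :=
    (Localization.localRingHom q r (algebraMap (m.Fiber P) P') rfl).toAlgebra
  have : IsScalarTower (m.Fiber P) (Localization.AtPrime q) (Localization.AtPrime r) :=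
    IsScalarTower.of_algebraMap_eq (R := m.Fiber P) (S := Localization.AtPrime q) (A := Localization.AtPrime r)
      fun a => (Localization.localRingHom_to_map q r (algebraMap (m.Fiber P) P') rfl a).symm
  have hlh : IsLocalHom (algebraMap (Localization.AtPrime q) (Localization.AtPrime r)) :=
    Localization.isLocalHom_localRingHom q r (algebraMap (m.Fiber P) P') rfl
  have : Module.Flat (Localization.AtPrime q) (Localization.AtPrime r) := by
    rw [Module.flat_iff_of_isLocalization (Localization.AtPrime q) q.primeCompl]
    infer_instance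
  refine ⟨q, inferInstance, ?_, ?_⟩
  · change _ = q.comap (algebraMap P (m.Fiber P))
    rw [Ideal.comap_comap, ← IsScalarTower.algebraMap_eq]
  · refine RegDescent.exists_regular_of_flat_local (Q := Localization.AtPrime q) (D := Localization.AtPrime r) _ rs hrs ?_
    rw [← h, Ideal.map_map, Ideal.map_map]
    congr 1
    change _ = (algebraMap P' (Localization.AtPrime r)).comp (algebraMap P P')
    rw [IsScalarTower.algebraMap_eq P (m.Fiber P) P', ← RingHom.comp_assoc, ← RingHom.comp_assoc,
      ← IsScalarTower.algebraMap_eq, ← IsScalarTower.algebraMap_eq]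
    rfl

/-- **Noetherian base, field-valued point**: if the base change of `I` to a field `k` is generated near `r` by a
Koszul-regular sequence then so is `I` near the image of `r`. -/
theorem genK_of_field {k P' : Type u} [Field k] [Algebra A k] [CommRing P'] [Algebra A P']
    [Algebra k P'] [Algebra P P'] [IsScalarTower A k P'] [IsScalarTower A P P'] [Algebra.IsPushout A k P P']
    (r : Ideal P') [r.IsPrime] (g' : P') (hg' : g' ∉ r)
    (h : GenK ((I.map (algebraMap P P')).map (algebraMap P' (Localization.Away g')))) :
    ∃ g : P, g ∉ r.comap (algebraMap P P') ∧ GenK (I.map (algebraMap P (Localization.Away g))) := by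
  by_cases hI : I ≤ r.comap (algebraMap P P')
  swap
  · obtain ⟨g, hgI, hg⟩ := Set.not_subset.1 hI
    refine ⟨g, hg, ?_⟩
    rw [Ideal.eq_top_of_isUnit_mem _ (Ideal.mem_map_of_mem _ hgI) (IsLocalization.Away.algebraMap_isUnit g)]
    exact genK_top
  have hft' : Algebra.FiniteType k P' := Algebra.FiniteType.equiv inferInstance (Algebra.IsPushout.equiv A k P P')
  have hNP' : IsNoetherianRing P' := Algebra.FiniteType.isNoetherianRing k P'
  have h1 : GenK ((I.map (algebraMap P P')).map (algebraMap P' (Localization.AtPrime r))) :=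
    h.map_of_isUnit g' _ _ (IsLocalization.map_units (Localization.AtPrime r) (⟨g', hg'⟩ : r.primeCompl))
  obtain ⟨l, hl, hl'⟩ := h1
  have hle : (I.map (algebraMap P P')).map (algebraMap P' (Localization.AtPrime r)) ≤
      maximalIdeal (Localization.AtPrime r) := by
    rw [← Localization.AtPrime.map_eq_maximalIdeal]
    exact Ideal.map_mono (Ideal.map_le_iff_le_comap.2 hI)
  have hlm : ∀ f ∈ l, f ∈ maximalIdeal (Localization.AtPrime r) := fun f hf =>
    hle (hl' ▸ Ideal.subset_span hf)
  have hreg : IsRegular (Localization.AtPrime r) l :=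
    IsRegular.of_isWeaklyRegular_of_mem_maximalIdeal _ hlm
      ((KoszulNoeth.isKoszulRegularSeq_iff_isWeaklyRegular hlm).1 hl)
  let m : Ideal A := RingHom.ker (algebraMap A k)
  have hm : m.IsPrime := RingHom.ker_isPrime _
  obtain ⟨q, hq, hq', l', hl'', hl3⟩ := exists_regular_fibre_of_field I (k := k) (P' := P') m (fun a => Iff.rfl) r l
    hreg hl'
  exact genK_of_fibre I m q (r.comap (algebraMap P P')) hq' hI l' hl'' hl3

end Noeth

end Groth.Agent.Flat2H.FibreKoszul
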