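import Mathlib.RingTheory.LocalRing.ResidueField.Fiber
import Mathlib.RingTheory.Localization.AtPrime.Basic
import Mathlib.RingTheory.Localization.Ideal

/-!
# The local ring of a fibre, as a quotient of the local ring of the total space

For an `A`-algebra `P`, a prime `m` of `A`, the fibre ring `F = κ(m) ⊗ P` and a prime `q` of `F` over `p ⊂ P`, the map
`P_p → F_q` is surjective with kernel `m P_p`.
-/

set_option autoImplicit false
universe u v w

open TensorProduct

namespace Groth.Agent.Flat2H.FibreLoc

section General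

variable {A : Type u} {P : Type v} {F : Type w} [CommRing A] [CommRing P] [CommRing F] [Algebra A P] [Algebra P F]
  [Algebra A F] [IsScalarTower A P F] (m : Ideal A)

/-- The conditions satisfied by the fibre ring. -/
structure IsFib (F : Type w) [CommRing F] [Algebra P F] [Algebra A F] : Prop where
  surj : ∀ x : F, ∃ r ∉ m, ∃ s : P, r • x = algebraMap P F s
  ker : ∀ s : P, algebraMap P F s = 0 → ∃ r ∉ m, r • s ∈ m.map (algebraMap A P)

variable {m}

theorem exists_num (hF : IsFib (P := P) m F) (q : Ideal F) [q.IsPrime] (hm : q.comap (algebraMap A F) = m)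
    (x : F) : ∃ (s t : P), algebraMap P F t ∉ q ∧ algebraMap P F t * x = algebraMap P F s := by
  obtain ⟨r, hr, s, h⟩ := hF.surj x
  refine ⟨s, algebraMap A P r, ?_, ?_⟩
  · rw [← IsScalarTower.algebraMap_apply]
    intro h
    exact hr (hm ▸ h)
  · rw [← IsScalarTower.algebraMap_apply, ← h, Algebra.smul_def]

theorem localRingHom_surjective (hF : IsFib (P := P) m F) (q : Ideal F) [q.IsPrime]
    (hm : q.comap (algebraMap A F) = m) (p : Ideal P) [p.IsPrime] (hp : p = q.comap (algebraMap P F)) :
    Function.Surjective (Localization.localRingHom p q (algebraMap P F) hp) := by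
  intro z
  obtain ⟨x, ⟨y, hy⟩, rfl⟩ := IsLocalization.exists_mk'_eq q.primeCompl z
  obtain ⟨s, t, ht, hs⟩ := exists_num hF q hm x
  obtain ⟨s', t', ht', hs'⟩ := exists_num hF q hm y
  have hs'q : algebraMap P F s' ∉ q := by
    rw [← hs']
    exact fun h => (Ideal.IsPrime.mem_or_mem inferInstance h).elim ht' hy
  have h1 : t * s' ∉ p := by
    rw [hp]
    intro h
    rw [Ideal.mem_comap, map_mul] at h
    exact (Ideal.IsPrime.mem_or_mem inferInstance h).elim ht hs'q
  refine ⟨IsLocalization.mk' _ (s * t') (⟨t * s', h1⟩ : p.primeCompl), ?_⟩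
  rw [Localization.localRingHom_mk']
  rw [IsLocalization.mk'_eq_iff_eq]
  congr 1
  simp only [map_mul]
  rw [← hs, ← hs']
  ring

theorem mem_ker_localRingHom_iff (hF : IsFib (P := P) m F) (h0 : ∀ a ∈ m, algebraMap A F a = 0)
    (q : Ideal F) [q.IsPrime]
    (hm : q.comap (algebraMap A F) = m) (p : Ideal P) [p.IsPrime] (hp : p = q.comap (algebraMap P F)) :
    RingHom.ker (Localization.localRingHom p q (algebraMap P F) hp) =
      m.map (algebraMap A (Localization.AtPrime p)) := by
  apply le_antisymm
  · intro z hz
    obtain ⟨x, ⟨y, hy⟩, rfl⟩ := IsLocalization.exists_mk'_eq p.primeCompl z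
    rw [RingHom.mem_ker, Localization.localRingHom_mk', IsLocalization.mk'_eq_zero_iff] at hz
    obtain ⟨⟨c, hc⟩, hz⟩ := hz
    obtain ⟨s, t, ht, hs⟩ := exists_num hF q hm c
    have hsq : algebraMap P F s ∉ q := by
      rw [← hs]
      exact fun h => (Ideal.IsPrime.mem_or_mem inferInstance h).elim ht hc
    have h1 : algebraMap P F (s * x) = 0 := by
      have h2 : algebraMap P F (s * x) = algebraMap P F t * (c * algebraMap P F x) := by
        rw [map_mul, ← hs]; ring
      rw [h2]
      exact (congrArg _ hz).trans (mul_zero _)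
    obtain ⟨r, hr, h2⟩ := hF.ker _ h1
    have hrp : algebraMap A P r * s ∉ p := by
      rw [hp]
      intro h
      rw [Ideal.mem_comap, map_mul, ← IsScalarTower.algebraMap_apply] at h
      refine (Ideal.IsPrime.mem_or_mem inferInstance h).elim (fun h => hr ?_) hsq
      exact hm ▸ h
    have h3 : algebraMap P (Localization.AtPrime p) (algebraMap A P r * s) *
        IsLocalization.mk' (Localization.AtPrime p) x (⟨y, hy⟩ : p.primeCompl) ∈
        m.map (algebraMap A (Localization.AtPrime p)) := by
      rw [IsLocalization.mul_mk'_eq_mk'_of_mul, IsLocalization.mk'_eq_mul_mk'_one]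
      refine Ideal.mul_mem_right _ _ ?_
      rw [IsScalarTower.algebraMap_eq A P (Localization.AtPrime p), ← Ideal.map_map]
      refine Ideal.mem_map_of_mem _ ?_
      rw [mul_assoc, ← Algebra.smul_def]
      exact h2
    exact (Ideal.unit_mul_mem_iff_mem _ (IsLocalization.map_units (Localization.AtPrime p)
      (⟨_, hrp⟩ : p.primeCompl))).1 h3
  · rw [Ideal.map_le_iff_le_comap]
    intro a ha
    rw [Ideal.mem_comap, RingHom.mem_ker, IsScalarTower.algebraMap_apply A P (Localization.AtPrime p),
      Localization.localRingHom_to_map, ← IsScalarTower.algebraMap_apply A P F, h0 a ha, map_zero]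

end General

section Fiber

attribute [local instance] Algebra.TensorProduct.rightAlgebra

variable {A : Type u} {P : Type v} [CommRing A] [CommRing P] [Algebra A P] (m : Ideal A) [m.IsPrime]

theorem isFib_fiber : IsFib (P := P) m (m.Fiber P) where
  surj x := Ideal.Fiber.exists_smul_eq_one_tmul m x
  ker s hs := by
    have h1 := congrArg (Ideal.Fiber.algEquivAux₁ (S := P) m) hs
    rw [map_zero, AlgEquiv.commutes] at h1
    have h2 : algebraMap P (Localization (Algebra.algebraMapSubmonoid P m.primeCompl)) s ∈
        (m.map (algebraMap A P)).map (algebraMap P (Localization (Algebra.algebraMapSubmonoid P m.primeCompl))) :=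
      Ideal.Quotient.eq_zero_iff_mem.1 h1
    rw [IsLocalization.algebraMap_mem_map_algebraMap_iff (Algebra.algebraMapSubmonoid P m.primeCompl)] at h2
    obtain ⟨_, ⟨r, hr, rfl⟩, h2⟩ := h2
    refine ⟨r, hr, ?_⟩
    rw [Algebra.smul_def]
    exact h2

theorem algebraMap_fiber_eq_zero (a : A) (ha : a ∈ m) : algebraMap A (m.Fiber P) a = 0 := by
  rw [IsScalarTower.algebraMap_apply A m.ResidueField (m.Fiber P), (Ideal.algebraMap_residueField_eq_zero).2 ha,
    map_zero]

end Fiber

end Groth.Agent.Flat2H.FibreLoc
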