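import Groth.Agent.Flat2H.KoszulIdeal
import Mathlib.RingTheory.LocalRing.Module
import Mathlib.RingTheory.LocalRing.ResidueField.Ideal
import Mathlib.RingTheory.Support
import Mathlib.RingTheory.Finiteness.Descent
import Mathlib.LinearAlgebra.TensorProduct.RightExactness
import Mathlib.RingTheory.Spectrum.Prime.Topology
import Mathlib.RingTheory.Flat.FaithfullyFlat.Algebra

/-!
# The fibre rank of an ideal

`mu I K = dim_K (K ⊗ I)` for a field `K` over `A`.  For ideals generated by a Koszul-regular sequence
it is the length of the sequence at every point of `V(I)`.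
-/

set_option autoImplicit false

universe u

namespace Groth.Agent.Flat2H.FibreRank

open LCI KoszulSeq KoszulWrap KoszulIdeal TensorProduct

section

variable {A T : Type u} [CommRing A] [CommRing T]

/-- `dim_K (K ⊗_A I)`. -/
noncomputable def mu (I : Ideal A) (K : Type u) [Field K] [Algebra A K] : ℕ :=
  Module.finrank K (K ⊗[A] I)

lemma mu_extend (I : Ideal A) (K K' : Type u) [Field K] [Field K'] [Algebra A K] [Algebra K K']
    [Algebra A K'] [IsScalarTower A K K'] : mu I K' = mu I K := by
  unfold mu
  rw [← (AlgebraTensorModule.cancelBaseChange A K K' K' I).finrank_eq, Module.finrank_baseChange]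

lemma map_rid_baseChange [Algebra A T] (I : Ideal A) :
    (Submodule.baseChange T I).map (AlgebraTensorModule.rid A T T).toLinearMap =
      (I.map (algebraMap A T) : Ideal T) := by
  rw [Submodule.baseChange_eq_span, Submodule.map_span]
  apply congrArg
  ext x
  simp only [Submodule.map_coe, Set.mem_image, SetLike.mem_coe]
  constructor
  · rintro ⟨_, ⟨a, ha, rfl⟩, rfl⟩
    exact ⟨a, ha, by simp [Algebra.algebraMap_eq_smul_one]⟩
  · rintro ⟨a, ha, rfl⟩
    exact ⟨1 ⊗ₜ a, ⟨a, ha, rfl⟩, by simp [Algebra.algebraMap_eq_smul_one]⟩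

lemma exists_equiv_map [Algebra A T] [Module.Flat A T] (I : Ideal A) :
    Nonempty (T ⊗[A] I ≃ₗ[T] (I.map (algebraMap A T) : Ideal T)) := by
  let e1 := Submodule.toBaseChange.toLinearEquiv T I
  let e2 : T ⊗[A] A ≃ₗ[T] T := AlgebraTensorModule.rid A T T
  exact ⟨e1.trans ((e2.submoduleMap (Submodule.baseChange T I)).trans
    (LinearEquiv.ofEq _ _ (map_rid_baseChange I)))⟩

lemma mu_map [Algebra A T] [Module.Flat A T] (I : Ideal A) (K : Type u) [Field K] [Algebra T K]
    [Algebra A K] [IsScalarTower A T K] : mu (I.map (algebraMap A T)) K = mu I K := by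
  obtain ⟨e⟩ := exists_equiv_map (T := T) I
  unfold mu
  rw [← (AlgebraTensorModule.cancelBaseChange A T K K I).finrank_eq]
  exact (LinearEquiv.baseChange T K _ _ e).finrank_eq.symm

lemma mu_eq_of_ker (I : Ideal A) (K : Type u) [Field K] [Algebra A K] (p : Ideal A) [p.IsPrime]
    (h : RingHom.ker (algebraMap A K) = p) : mu I K = mu I p.ResidueField := by
  subst h
  let φ : (RingHom.ker (algebraMap A K)).ResidueField →+* K :=
    Ideal.ResidueField.lift _ (algebraMap A K) le_rfl (by
      intro x hx
      have : algebraMap A K x ≠ 0 := fun h => hx h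
      exact IsUnit.mk0 _ this)
  let := φ.toAlgebra
  have : IsScalarTower A (RingHom.ker (algebraMap A K)).ResidueField K :=
    IsScalarTower.of_algebraMap_eq' (by
      ext x
      change _ = φ (algebraMap A _ x)
      simp [φ])
  exact mu_extend I _ K

/-- The fibre rank of an ideal generated by a Koszul-regular sequence. -/
lemma mu_ofList {l : List A} (hl : IsKoszulRegularSeq A l) (K : Type u) [Field K] [Algebra A K]
    (hK : ∀ f ∈ l, algebraMap A K f = 0) : mu (Ideal.ofList l) K = l.length := by
  have hK' : ∀ f ∈ Ideal.ofList l, algebraMap A K f = 0 := by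
    have : Ideal.ofList l ≤ RingHom.ker (algebraMap A K) := Ideal.span_le.2 fun f hf => hK f hf
    exact fun f hf => this hf
  let s : (Fin l.length → A) →ₗ[A] Ideal.ofList l :=
    Fintype.linearCombination A
      (fun i => (⟨l.get i, Ideal.subset_span (List.get_mem l i)⟩ : Ideal.ofList l))
  have hs : Function.Surjective s := by
    rw [← LinearMap.range_eq_top, Fintype.range_linearCombination]
    apply Submodule.map_injective_of_injective (Ideal.ofList l).injective_subtype
    rw [Submodule.map_span, Submodule.map_top, Submodule.range_subtype, ← Set.range_comp]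
    exact (ofList_eq_span_range l).symm
  have hex : Function.Exact (LinearMap.lTensor K (LinearMap.ker s).subtype) (LinearMap.lTensor K s) :=
    lTensor_exact K (LinearMap.exact_subtype_ker_map s) hs
  have h0 : LinearMap.lTensor K (LinearMap.ker s).subtype = 0 := by
    apply TensorProduct.ext'
    rintro k ⟨z, hz⟩
    rw [LinearMap.lTensor_tmul, LinearMap.zero_apply, Submodule.subtype_apply]
    have hz' : ∀ i, z i ∈ Ideal.ofList l := by
      apply coeff_mem_of_sum_eq_zero hl z
      have := congrArg Subtype.val (LinearMap.mem_ker.1 hz)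
      simpa [s, Fintype.linearCombination_apply] using this
    change k ⊗ₜ[A] z = 0
    rw [pi_eq_sum_univ' z, TensorProduct.tmul_sum]
    apply Finset.sum_eq_zero
    intro i _
    rw [← TensorProduct.smul_tmul, Algebra.smul_def, hK' _ (hz' i), zero_mul, TensorProduct.zero_tmul]
  have hinj : Function.Injective (LinearMap.lTensor K s) := by
    rw [injective_iff_map_eq_zero]
    intro x hx
    obtain ⟨y, rfl⟩ := (hex x).1 hx
    rw [h0, LinearMap.zero_apply]
  let e : K ⊗[A] (Fin l.length → A) ≃ₗ[K] K ⊗[A] (Ideal.ofList l) :=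
    LinearEquiv.ofBijective (s.baseChange K) ⟨hinj, LinearMap.lTensor_surjective K hs⟩
  have hA : Nontrivial A := (algebraMap A K).domain_nontrivial
  unfold mu
  rw [← e.finrank_eq, Module.finrank_baseChange, Module.finrank_fin_fun]

/-- Fibre rank of `J` when `J` is generated by a Koszul-regular sequence on `D(g)`. -/
lemma mu_eq_length {J : Ideal A} (g : A) {l : List (Localization.Away g)}
    (hl : IsKoszulRegularSeq (Localization.Away g) l)
    (hJ : J.map (algebraMap A (Localization.Away g)) = Ideal.ofList l) (q : Ideal A) [q.IsPrime]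
    (hg : g ∉ q) (hq : J ≤ q) : mu J q.ResidueField = l.length := by
  have hu : IsUnit (algebraMap A q.ResidueField g) :=
    IsUnit.mk0 _ (fun h => hg (Ideal.algebraMap_residueField_eq_zero.1 h))
  let := (IsLocalization.Away.lift g hu : Localization.Away g →+* q.ResidueField).toAlgebra
  have : IsScalarTower A (Localization.Away g) q.ResidueField :=
    IsScalarTower.of_algebraMap_eq' (IsLocalization.Away.lift_comp g hu).symm
  rw [← mu_map (T := Localization.Away g) J q.ResidueField, hJ]
  refine mu_ofList hl _ fun f hf => ?_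
  have h1 : J.map (algebraMap A (Localization.Away g)) ≤
      RingHom.ker (algebraMap (Localization.Away g) q.ResidueField) := by
    rw [Ideal.map_le_iff_le_comap]
    intro x hx
    rw [Ideal.mem_comap, RingHom.mem_ker, ← IsScalarTower.algebraMap_apply]
    exact Ideal.algebraMap_residueField_eq_zero.2 (hq hx)
  exact h1 (hJ ▸ Ideal.subset_span hf)

/-- Lower semicontinuity of the fibre rank for a Koszul-regular ideal. -/
lemma isOpen_le_mu {J : Ideal A} (hJ : IsKoszulRegularIdeal J) (r : ℕ) :
    IsOpen {q : PrimeSpectrum A | J ≤ q.asIdeal → r ≤ mu J q.asIdeal.ResidueField} := by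
  rw [isOpen_iff_forall_mem_open]
  intro q hq
  by_cases hJq : J ≤ q.asIdeal
  · obtain ⟨g, hg, l, hl, hJl⟩ := isKoszulRegularIdeal_iff.1 hJ q.asIdeal q.2 hJq
    have h1 := mu_eq_length g hl hJl q.asIdeal hg hJq
    refine ⟨PrimeSpectrum.basicOpen g, fun q' hq' hJq' => ?_, PrimeSpectrum.isOpen_basicOpen, hg⟩
    rw [mu_eq_length g hl hJl q'.asIdeal hq' hJq', ← h1]
    exact hq hJq
  · obtain ⟨x, hx, hxq⟩ := Set.not_subset.1 hJq
    exact ⟨PrimeSpectrum.basicOpen x, fun q' hq' hJq' => absurd (hJq' hx) hq',
      PrimeSpectrum.isOpen_basicOpen, hxq⟩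

end

end Groth.Agent.Flat2H.FibreRank
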