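import Groth.Agent.Flat2H.PCMap
import Mathlib.RingTheory.Localization.Away.AdjoinRoot
import Mathlib.RingTheory.TensorProduct.MvPolynomial
import Mathlib.RingTheory.IsTensorProduct
import Mathlib.RingTheory.RingHom.FiniteType
import Mathlib.Algebra.Module.LocalizedModule.IsLocalization

/-!
# Pseudo-coherent ring maps (in `FPInf` form): composition, base change, locality, descent
-/

set_option autoImplicit false
set_option linter.style.haveILetI false
universe u

namespace Groth.Agent.Flat2H

open TensorProduct MvPolynomial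

attribute [local instance] MvPolynomial.algebraMvPolynomial

/-- `P[X] → P_f`, `X ↦ 1/f`. -/
theorem PCMap.polynomial_away {P : Type u} [CommRing P] (f : P) (Pf : Type u) [CommRing Pf]
    [Algebra P Pf] [IsLocalization.Away f Pf] :
    PCMap (Polynomial.aeval (IsLocalization.Away.invSelf f : Pf) : Polynomial P →ₐ[P] Pf).toRingHom := by
  have hnz : (Polynomial.C f * Polynomial.X - 1 : Polynomial P) ∈ nonZeroDivisors (Polynomial P) := by
    rcases subsingleton_or_nontrivial P with hP | hP
    · rw [mem_nonZeroDivisors_iff_right]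
      intro x _
      exact Subsingleton.elim _ _
    · apply Polynomial.mem_nonZeroDivisors_of_trailingCoeff
      have h0 : (Polynomial.C f * Polynomial.X - 1 : Polynomial P).coeff 0 = -1 := by simp
      have h1 : (Polynomial.C f * Polynomial.X - 1 : Polynomial P).natTrailingDegree = 0 := by
        rw [Polynomial.natTrailingDegree_eq_zero]
        right
        rw [h0]; simp
      rw [Polynomial.trailingCoeff, h1, h0]
      exact (isUnit_one.neg).mem_nonZeroDivisors
  have h1 : PCMap (AdjoinRoot.mk (Polynomial.C f * Polynomial.X - 1 : Polynomial P)) :=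
    PCMap.of_surjective_of_ker AdjoinRoot.mk_surjective _ hnz (by
      ext x
      simp [RingHom.mem_ker, AdjoinRoot.mk_eq_zero, Ideal.mem_span_singleton])
  have : IsLocalization.Away f (AdjoinRoot (Polynomial.C f * Polynomial.X - 1 : Polynomial P)) :=
    IsLocalization.adjoin_inv f
  let e := IsLocalization.algEquiv (Submonoid.powers f)
    (AdjoinRoot (Polynomial.C f * Polynomial.X - 1 : Polynomial P)) Pf
  have h2 : (Polynomial.aeval (IsLocalization.Away.invSelf f : Pf) : Polynomial P →ₐ[P] Pf).toRingHom
      = (RingHomClass.toRingHom e).comp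
        (AdjoinRoot.mk (Polynomial.C f * Polynomial.X - 1 : Polynomial P)) := by
    apply Polynomial.ringHom_ext
    · intro a
      simp only [AlgHom.toRingHom_eq_coe, RingHom.coe_coe, Polynomial.aeval_C, RingHom.coe_comp,
        Function.comp_apply, AdjoinRoot.mk_C]
      exact (e.commutes a).symm
    · simp only [AlgHom.toRingHom_eq_coe, RingHom.coe_coe, Polynomial.aeval_X, RingHom.coe_comp,
        Function.comp_apply, AdjoinRoot.mk_X]
      have hu : IsUnit (algebraMap P Pf f) := IsLocalization.Away.algebraMap_isUnit f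
      apply hu.mul_left_cancel
      rw [IsLocalization.Away.mul_invSelf]
      rw [← e.commutes, ← map_mul]
      have := AdjoinRoot.root_isInv f
      rw [show (algebraMap P (AdjoinRoot (Polynomial.C f * Polynomial.X - 1 : Polynomial P))) f =
        AdjoinRoot.of _ f from rfl, this, map_one]
  rw [h2]
  exact h1.comp (PCMap.of_bijective e.bijective)

section

variable {A B : Type u} [CommRing A] [CommRing B] [Algebra A B]

/-- base change of `FPInf R M` to a localization -/
theorem FPInf.localization {P : Type u} [CommRing P] [Algebra P B] (h : FPInf P B) (S : Submonoid P)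
    (Pf Bf : Type u) [CommRing Pf] [CommRing Bf] [Algebra P Pf] [IsLocalization S Pf]
    [Algebra B Bf] [IsLocalization (Algebra.algebraMapSubmonoid B S) Bf] [Algebra P Bf]
    [IsScalarTower P B Bf] [Algebra Pf Bf] [IsScalarTower P Pf Bf] : FPInf Pf Bf := by
  have : Module.Flat P Pf := IsLocalization.flat Pf S
  have h1 : IsLocalizedModule S (IsScalarTower.toAlgHom P B Bf).toLinearMap :=
    isLocalizedModule_iff_isLocalization.2 inferInstance
  exact h.of_isBaseChange (IsLocalizedModule.isBaseChange S Pf
    (IsScalarTower.toAlgHom P B Bf).toLinearMap)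

/-- `MvPolynomial.map` of a `PCMap` is a `PCMap`. -/
theorem PCMap.mvPolynomial_map {R S : Type u} [CommRing R] [CommRing S] {φ : R →+* S}
    (h : PCMap φ) (τ : Type) : PCMap (MvPolynomial.map φ : MvPolynomial τ R →+* MvPolynomial τ S) := by
  letI := φ.toAlgebra
  have h1 : FPInf R S := h
  have h2 : FPInf (MvPolynomial τ R) (MvPolynomial τ S) :=
    h1.of_isBaseChange (Algebra.IsPushout.out (R := R) (S := MvPolynomial τ R) (R' := S)
      (S' := MvPolynomial τ S))
  exact pcMap_algebraMap_iff.2 h2

theorem PCHom.trans {D : Type u} [CommRing D] [Algebra B D] [Algebra A D] [IsScalarTower A B D]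
    (h : PCHom A B) (h' : PCHom B D) : PCHom A D := by
  obtain ⟨n, φ, hφ, h⟩ := h
  obtain ⟨m, ψ, hψ, h'⟩ := h'
  have h1 := (h.mvPolynomial_map (Fin m)).comp h'
  let χ : MvPolynomial (Fin m ⊕ Fin n) A →ₐ[A] D :=
    aeval (Sum.elim (fun i => ψ (X i)) (fun i => algebraMap B D (φ (X i))))
  have h2 : χ.toRingHom = (ψ.toRingHom.comp (MvPolynomial.map φ.toRingHom)).comp
      (RingHomClass.toRingHom (sumAlgEquiv A (Fin m) (Fin n))) := by
    apply MvPolynomial.ringHom_ext
    · intro r
      simp only [AlgHom.toRingHom_eq_coe, RingHom.coe_coe, RingHom.coe_comp, Function.comp_apply,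
        sumAlgEquiv_C_inl, map_C, algHom_C, χ]
      exact IsScalarTower.algebraMap_apply A B D r
    · rintro (i | i)
      · simp [χ]
      · simp only [AlgHom.toRingHom_eq_coe, RingHom.coe_coe, RingHom.coe_comp, Function.comp_apply,
          sumAlgEquiv_X_inr, map_C, algHom_C, χ, aeval_X, Sum.elim_inr]
  have h3 : PCMap χ.toRingHom := (PCMap.of_comp_bij (sumAlgEquiv A (Fin m) (Fin n)).bijective h2).2 h1
  refine PCHom.of_presentation χ ?_ h3
  have h4 : Function.Surjective χ.toRingHom := by
    rw [h2]
    refine (Function.Surjective.comp hψ (MvPolynomial.map_surjective _ hφ)).comp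
      (sumAlgEquiv A (Fin m) (Fin n)).surjective
  exact h4

theorem PCHom.of_isLocalizationAway (b : B) (Bb : Type u) [CommRing Bb] [Algebra B Bb]
    [IsLocalization.Away b Bb] : PCHom B Bb := by
  have h := PCMap.polynomial_away b Bb
  let χ : MvPolynomial Unit B →ₐ[B] Bb := aeval (fun _ => IsLocalization.Away.invSelf b)
  have h2 : χ.toRingHom = (Polynomial.aeval (IsLocalization.Away.invSelf b : Bb) :
      Polynomial B →ₐ[B] Bb).toRingHom.comp (RingHomClass.toRingHom (uniqueAlgEquiv B Unit)) := by
    apply MvPolynomial.ringHom_ext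
    · intro r; simp [χ]
    · intro i; simp [χ]
  refine PCHom.of_presentation χ ?_ ((PCMap.of_comp_bij (uniqueAlgEquiv B Unit).bijective h2).2 h)
  intro y
  obtain ⟨k, a, hy⟩ := IsLocalization.Away.surj b y
  refine ⟨C a * X () ^ k, ?_⟩
  have hu : IsUnit (algebraMap B Bb b ^ k) := (IsLocalization.Away.algebraMap_isUnit b).pow k
  apply hu.mul_left_cancel
  rw [mul_comm _ y, hy]
  simp only [χ, map_mul, aeval_C, map_pow, aeval_X]
  rw [mul_left_comm, ← mul_pow, IsLocalization.Away.mul_invSelf]
  simp

/-- `A → B → B_b` -/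
theorem PCHom.localizationAway (h : PCHom A B) (b : B) (Bb : Type u) [CommRing Bb] [Algebra B Bb]
    [Algebra A Bb] [IsScalarTower A B Bb] [IsLocalization.Away b Bb] : PCHom A Bb :=
  h.trans (PCHom.of_isLocalizationAway b Bb)

/-- flat base change, pushout form -/
theorem PCHom.of_isPushout (h : PCHom A B) (A' B' : Type u) [CommRing A'] [CommRing B']
    [Algebra A A'] [Algebra B B'] [Algebra A' B'] [Algebra A B'] [IsScalarTower A A' B']
    [IsScalarTower A B B'] [Algebra.IsPushout A A' B B'] [Module.Flat A A'] : PCHom A' B' := by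
  obtain ⟨n, φ, hφ, h⟩ := h
  letI : Algebra (MvPolynomial (Fin n) A) B := φ.toRingHom.toAlgebra
  haveI : IsScalarTower A (MvPolynomial (Fin n) A) B :=
    IsScalarTower.of_algebraMap_eq' φ.comp_algebraMap.symm
  let φ' : MvPolynomial (Fin n) A' →ₐ[A'] B' := aeval (fun i => algebraMap B B' (φ (X i)))
  letI : Algebra (MvPolynomial (Fin n) A') B' := φ'.toRingHom.toAlgebra
  haveI : IsScalarTower A' (MvPolynomial (Fin n) A') B' :=
    IsScalarTower.of_algebraMap_eq' φ'.comp_algebraMap.symm
  letI : Algebra (MvPolynomial (Fin n) A) B' := ((algebraMap B B').comp φ.toRingHom).toAlgebra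
  haveI : IsScalarTower (MvPolynomial (Fin n) A) B B' := IsScalarTower.of_algebraMap_eq' rfl
  have hcomp : (algebraMap B B').comp φ.toRingHom =
      φ'.toRingHom.comp (MvPolynomial.map (algebraMap A A')) := by
    apply MvPolynomial.ringHom_ext
    · intro r
      simp only [AlgHom.toRingHom_eq_coe, RingHom.coe_comp, RingHom.coe_coe, Function.comp_apply,
        map_C, φ', aeval_C]
      rw [show (C r : MvPolynomial (Fin n) A) = algebraMap A _ r from rfl, AlgHom.commutes]
      rw [← IsScalarTower.algebraMap_apply A B B', ← IsScalarTower.algebraMap_apply A A' B']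
    · intro i
      simp [φ']
  haveI : IsScalarTower (MvPolynomial (Fin n) A) (MvPolynomial (Fin n) A') B' :=
    IsScalarTower.of_algebraMap_eq' hcomp
  haveI : IsScalarTower A (MvPolynomial (Fin n) A) B' := IsScalarTower.of_algebraMap_eq' (by
    rw [IsScalarTower.algebraMap_eq A B B', IsScalarTower.algebraMap_eq A (MvPolynomial (Fin n) A) B,
      ← RingHom.comp_assoc]
    rfl)
  haveI : IsScalarTower A (MvPolynomial (Fin n) A') B' := IsScalarTower.of_algebraMap_eq' (by
    rw [IsScalarTower.algebraMap_eq A A' B', IsScalarTower.algebraMap_eq A' (MvPolynomial (Fin n) A') B',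
      IsScalarTower.algebraMap_eq A A' (MvPolynomial (Fin n) A'), ← RingHom.comp_assoc])
  have hp : Algebra.IsPushout A A' (MvPolynomial (Fin n) A) (MvPolynomial (Fin n) A') := inferInstance
  have hp' : Algebra.IsPushout A (MvPolynomial (Fin n) A) A' (MvPolynomial (Fin n) A') := inferInstance
  have hq : Algebra.IsPushout A B A' B' := .symm inferInstance
  have hr : Algebra.IsPushout (MvPolynomial (Fin n) A) B (MvPolynomial (Fin n) A') B' :=
    (Algebra.IsPushout.comp_iff A (MvPolynomial (Fin n) A) A' (MvPolynomial (Fin n) A')).1 hq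
  have hr' := hr.symm
  have hflat : Module.Flat (MvPolynomial (Fin n) A) (MvPolynomial (Fin n) A') :=
    Module.Flat.isBaseChange A (MvPolynomial (Fin n) A) A' (MvPolynomial (Fin n) A') hp'.out
  have h1 : FPInf (MvPolynomial (Fin n) A) B := h
  have h2 : FPInf (MvPolynomial (Fin n) A') B' := h1.of_isBaseChange hr'.out
  refine ⟨n, φ', ?_, h2⟩
  intro y
  have hy : IsBaseChange A' (IsScalarTower.toAlgHom A B B').toLinearMap := Algebra.IsPushout.out
  induction y using hy.inductionOn with
  | zero => exact ⟨0, map_zero _⟩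
  | tmul m =>
    obtain ⟨p, rfl⟩ := hφ m
    refine ⟨MvPolynomial.map (algebraMap A A') p, ?_⟩
    exact (RingHom.congr_fun hcomp p).symm
  | smul s m ih =>
    obtain ⟨p, rfl⟩ := ih
    exact ⟨s • p, map_smul _ _ _⟩
  | add m m' ih ih' =>
    obtain ⟨p, rfl⟩ := ih
    obtain ⟨p', rfl⟩ := ih'
    exact ⟨p + p', map_add _ _ _⟩

/-- faithfully flat descent, pushout form -/
theorem PCHom.of_isPushout_of_faithfullyFlat (A' B' : Type u) [CommRing A'] [CommRing B']
    [Algebra A A'] [Algebra B B'] [Algebra A' B'] [Algebra A B'] [IsScalarTower A A' B']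
    [IsScalarTower A B B'] [Algebra.IsPushout A A' B B'] [Module.FaithfullyFlat A A']
    (h : PCHom A' B') : PCHom A B := by
  have hft' : Algebra.FiniteType A' B' := h.finiteType
  have hft'' : Algebra.FiniteType A' (A' ⊗[A] B) :=
    hft'.equiv (Algebra.IsPushout.equiv A A' B B').symm
  have hft : Algebra.FiniteType A B :=
    Algebra.FiniteType.of_finiteType_tensorProduct_of_faithfullyFlat A'
  obtain ⟨n, φ, hφ⟩ := Algebra.FiniteType.iff_quotient_mvPolynomial''.1 hft
  letI : Algebra (MvPolynomial (Fin n) A) B := φ.toRingHom.toAlgebra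
  haveI : IsScalarTower A (MvPolynomial (Fin n) A) B :=
    IsScalarTower.of_algebraMap_eq' φ.comp_algebraMap.symm
  let φ' : MvPolynomial (Fin n) A' →ₐ[A'] B' := aeval (fun i => algebraMap B B' (φ (X i)))
  letI : Algebra (MvPolynomial (Fin n) A') B' := φ'.toRingHom.toAlgebra
  haveI : IsScalarTower A' (MvPolynomial (Fin n) A') B' :=
    IsScalarTower.of_algebraMap_eq' φ'.comp_algebraMap.symm
  letI : Algebra (MvPolynomial (Fin n) A) B' := ((algebraMap B B').comp φ.toRingHom).toAlgebra
  haveI : IsScalarTower (MvPolynomial (Fin n) A) B B' := IsScalarTower.of_algebraMap_eq' rfl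
  have hcomp : (algebraMap B B').comp φ.toRingHom =
      φ'.toRingHom.comp (MvPolynomial.map (algebraMap A A')) := by
    apply MvPolynomial.ringHom_ext
    · intro r
      simp only [AlgHom.toRingHom_eq_coe, RingHom.coe_comp, RingHom.coe_coe, Function.comp_apply,
        map_C, φ', aeval_C]
      rw [show (C r : MvPolynomial (Fin n) A) = algebraMap A _ r from rfl, AlgHom.commutes]
      rw [← IsScalarTower.algebraMap_apply A B B', ← IsScalarTower.algebraMap_apply A A' B']
    · intro i
      simp [φ']
  haveI : IsScalarTower (MvPolynomial (Fin n) A) (MvPolynomial (Fin n) A') B' :=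
    IsScalarTower.of_algebraMap_eq' hcomp
  haveI : IsScalarTower A (MvPolynomial (Fin n) A) B' := IsScalarTower.of_algebraMap_eq' (by
    rw [IsScalarTower.algebraMap_eq A B B', IsScalarTower.algebraMap_eq A (MvPolynomial (Fin n) A) B,
      ← RingHom.comp_assoc]
    rfl)
  haveI : IsScalarTower A (MvPolynomial (Fin n) A') B' := IsScalarTower.of_algebraMap_eq' (by
    rw [IsScalarTower.algebraMap_eq A A' B', IsScalarTower.algebraMap_eq A' (MvPolynomial (Fin n) A') B',
      IsScalarTower.algebraMap_eq A A' (MvPolynomial (Fin n) A'), ← RingHom.comp_assoc])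
  have hp' : Algebra.IsPushout A (MvPolynomial (Fin n) A) A' (MvPolynomial (Fin n) A') := inferInstance
  have hq : Algebra.IsPushout A B A' B' := .symm inferInstance
  have hr : Algebra.IsPushout (MvPolynomial (Fin n) A) B (MvPolynomial (Fin n) A') B' :=
    (Algebra.IsPushout.comp_iff A (MvPolynomial (Fin n) A) A' (MvPolynomial (Fin n) A')).1 hq
  have hr' := hr.symm
  have hflat : Module.FaithfullyFlat (MvPolynomial (Fin n) A) (MvPolynomial (Fin n) A') := by
    have h0 : Module.FaithfullyFlat (MvPolynomial (Fin n) A) (MvPolynomial (Fin n) A ⊗[A] A') :=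
      inferInstance
    exact Module.FaithfullyFlat.of_linearEquiv _ _
      (Algebra.IsPushout.equiv A (MvPolynomial (Fin n) A) A' (MvPolynomial (Fin n) A')).toLinearEquiv.symm
  have hsurj : Function.Surjective φ' := by
    intro y
    have hy : IsBaseChange A' (IsScalarTower.toAlgHom A B B').toLinearMap := Algebra.IsPushout.out
    induction y using hy.inductionOn with
    | zero => exact ⟨0, map_zero _⟩
    | tmul m =>
      obtain ⟨p, rfl⟩ := hφ m
      refine ⟨MvPolynomial.map (algebraMap A A') p, ?_⟩
      exact (RingHom.congr_fun hcomp p).symm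
    | smul s m ih =>
      obtain ⟨p, rfl⟩ := ih
      exact ⟨s • p, map_smul _ _ _⟩
    | add m m' ih ih' =>
      obtain ⟨p, rfl⟩ := ih
      obtain ⟨p', rfl⟩ := ih'
      exact ⟨p + p', map_add _ _ _⟩
  have h2 : FPInf (MvPolynomial (Fin n) A') B' := h.pcMap φ' hsurj
  refine ⟨n, φ, hφ, ?_⟩
  have h3 : FPInf (MvPolynomial (Fin n) A) B :=
    FPInf.of_faithfullyFlat (MvPolynomial (Fin n) A') (h2.of_equiv hr'.out.equiv.symm)
  exact h3

end

end Groth.Agent.Flat2H
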