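/-
Tor-independent base change of `FPn`/`FPInf`: if `R → P` and `M` are flat over `R` and `P' = P ⊗_R R'`,
then `FPn P n M` implies `FPn P' n (P' ⊗_P M)` for an arbitrary `R → R'`.  Consequence: `PCHom` is stable
under arbitrary base change for flat algebras.
-/
import Groth.Agent.Flat2H.PCHom
import Mathlib.RingTheory.Flat.Equalizer

set_option autoImplicit false

universe u

open TensorProduct MvPolynomial

namespace Groth.Agent.Flat2H.TorIndep

open Groth.Agent.Flat2H

section

variable {R R' P P' : Type u} [CommRing R] [CommRing R'] [CommRing P] [CommRing P']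
  [Algebra R R'] [Algebra R P] [Algebra R P'] [Algebra P P'] [Algebra R' P']
  [IsScalarTower R R' P'] [IsScalarTower R P P'] [Algebra.IsPushout R R' P P']

/-- naturality of `cancelBaseChange` -/
theorem cancelBaseChange_symm_natural {M N : Type u} [AddCommGroup M] [Module R M] [Module P M]
    [IsScalarTower R P M] [AddCommGroup N] [Module R N] [Module P N] [IsScalarTower R P N]
    (f : M →ₗ[P] N) (x : R' ⊗[R] M) :
    (Algebra.IsPushout.cancelBaseChange R R' P P' N).symm ((f.restrictScalars R).lTensor R' x) =
      f.baseChange P' ((Algebra.IsPushout.cancelBaseChange R R' P P' M).symm x) := by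
  induction x with
  | zero => simp
  | tmul s m => simp
  | add x y hx hy => simp only [map_add, hx, hy]

theorem baseChange_injective_iff_lTensor {M N : Type u} [AddCommGroup M] [Module R M] [Module P M]
    [IsScalarTower R P M] [AddCommGroup N] [Module R N] [Module P N] [IsScalarTower R P N]
    (f : M →ₗ[P] N) : Function.Injective (f.baseChange P') ↔
      Function.Injective ((f.restrictScalars R).lTensor R') := by
  have h : ⇑(f.baseChange P') ∘ ⇑(Algebra.IsPushout.cancelBaseChange R R' P P' M).symm =
      ⇑(Algebra.IsPushout.cancelBaseChange R R' P P' N).symm ∘ ⇑((f.restrictScalars R).lTensor R') := by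
    funext x
    exact (cancelBaseChange_symm_natural f x).symm
  constructor
  · intro hf
    have : Function.Injective (⇑(f.baseChange P') ∘
        ⇑(Algebra.IsPushout.cancelBaseChange R R' P P' M).symm) :=
      hf.comp (LinearEquiv.injective _)
    rw [h] at this
    exact this.of_comp
  · intro hf
    have : Function.Injective (⇑(f.baseChange P') ∘
        ⇑(Algebra.IsPushout.cancelBaseChange R R' P P' M).symm) := by
      rw [h]; exact (LinearEquiv.injective _).comp hf
    exact Function.Injective.of_comp_right this (LinearEquiv.surjective _)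

theorem flat_ker_of_flat {M N : Type u} [AddCommGroup M] [Module R M] [AddCommGroup N] [Module R N]
    [Module.Flat R M] [Module.Flat R N] (f : M →ₗ[R] N) (hf : Function.Surjective f) :
    Module.Flat R (LinearMap.ker f) := by
  rw [Module.Flat.iff_lTensor_preserves_injective_linearMap]
  intro I J _ _ _ _ g hg
  -- `ker f ⊗ I → M ⊗ I → M ⊗ J` is injective
  have h1 : Function.Injective ((LinearMap.ker f).subtype.rTensor I) := by
    have := LinearMap.lTensor_injective_of_exact_of_flat (A := I) f hf (LinearMap.ker f).subtype
      (Submodule.subtype_injective _) (by intro x; simp)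
    have h2 : ⇑((LinearMap.ker f).subtype.rTensor I) =
        ⇑(TensorProduct.comm R I M) ∘ ⇑((LinearMap.ker f).subtype.lTensor I) ∘
          ⇑(TensorProduct.comm R (LinearMap.ker f) I) := by
      funext x
      induction x with
      | zero => simp
      | tmul a b => simp
      | add x y hx hy =>
        simp only [Function.comp_apply, map_add] at hx hy ⊢
        rw [hx, hy]
    rw [h2]
    exact (LinearEquiv.injective _).comp (this.comp (LinearEquiv.injective _))
  have h3 : Function.Injective (g.lTensor M) := Module.Flat.lTensor_preserves_injective_linearMap g hg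
  have h4 : (g.lTensor M) ∘ₗ ((LinearMap.ker f).subtype.rTensor I) =
      ((LinearMap.ker f).subtype.rTensor J) ∘ₗ (g.lTensor (LinearMap.ker f)) := by
    ext x y; simp
  have h5 : Function.Injective (((LinearMap.ker f).subtype.rTensor J) ∘ₗ (g.lTensor (LinearMap.ker f))) := by
    rw [← h4, LinearMap.coe_comp]
    exact h3.comp h1
  rw [LinearMap.coe_comp] at h5
  exact h5.of_comp

variable (R')

include R' in
/-- Tor-independent base change. -/
theorem FPn.baseChange_of_flat [Module.Flat R P] {n : ℕ} {M : Type u} [AddCommGroup M] [Module R M]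
    [Module P M] [IsScalarTower R P M] [Module.Flat R M] (h : FPn P n M) :
    FPn P' n (P' ⊗[P] M) := by
  induction n generalizing M with
  | zero =>
    have : Module.Finite P M := h
    exact (inferInstance : Module.Finite P' (P' ⊗[P] M))
  | succ n ih =>
    obtain ⟨k, f, hf, hk⟩ := h
    have : Module.Flat P (Fin k → P) := inferInstance
    have : Module.Flat R (Fin k → P) := Module.Flat.trans R P (Fin k → P)
    have : Module.Flat R (LinearMap.ker f) :=
      (flat_ker_of_flat (f.restrictScalars R) hf :)
    have h1 : Function.Injective ((LinearMap.ker f).subtype.baseChange P') := by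
      rw [baseChange_injective_iff_lTensor (R := R) (R' := R')]
      have hex : Function.Exact ((LinearMap.ker f).subtype.restrictScalars R) (f.restrictScalars R) := by
        intro x
        simp
      exact LinearMap.lTensor_injective_of_exact_of_flat (f.restrictScalars R) hf
        ((LinearMap.ker f).subtype.restrictScalars R)
        (Submodule.subtype_injective (LinearMap.ker f)) hex R'
    have h2 : Function.Surjective (f.baseChange P') := LinearMap.lTensor_surjective P' hf
    have h3 : Function.Exact ((LinearMap.ker f).subtype.baseChange P') (f.baseChange P') :=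
      lTensor_exact P' (by intro x; simp) hf
    exact FPn.right _ _ h1 h2 h3 (ih hk)
      (FPn.of_equiv_pi (n + 1) (TensorProduct.piScalarRight P P' P' (Fin k)))

include R' in
theorem FPInf.baseChange_of_flat [Module.Flat R P] {M : Type u} [AddCommGroup M] [Module R M]
    [Module P M] [IsScalarTower R P M] [Module.Flat R M] (h : FPInf P M) :
    FPInf P' (P' ⊗[P] M) := fun n => FPn.baseChange_of_flat (R := R) R' (h n)

include R' in
theorem FPInf.of_isBaseChange_of_flat [Module.Flat R P] {M N : Type u} [AddCommGroup M] [Module R M]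
    [Module P M] [IsScalarTower R P M] [Module.Flat R M] [AddCommGroup N] [Module P N] [Module P' N]
    [IsScalarTower P P' N] {g : M →ₗ[P] N} (hg : IsBaseChange P' g) (h : FPInf P M) :
    FPInf P' N :=
  (FPInf.baseChange_of_flat (R := R) R' h).of_equiv hg.equiv

end

section

attribute [local instance] MvPolynomial.algebraMvPolynomial

variable {A B : Type u} [CommRing A] [CommRing B] [Algebra A B]

/-- A flat pseudo-coherent algebra stays pseudo-coherent after an arbitrary base change. -/
theorem PCHom.of_isPushout_of_flat (h : PCHom A B) (A' B' : Type u) [CommRing A'] [CommRing B']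
    [Algebra A A'] [Algebra B B'] [Algebra A' B'] [Algebra A B'] [IsScalarTower A A' B']
    [IsScalarTower A B B'] [Algebra.IsPushout A A' B B'] [Module.Flat A B] : PCHom A' B' := by
  obtain ⟨n, φ, hφ, h⟩ := h
  letI : Algebra (MvPolynomial (Fin n) A) B := φ.toRingHom.toAlgebra
  haveI : IsScalarTower A (MvPolynomial (Fin n) A) B :=
    IsScalarTower.of_algebraMap_eq' φ.comp_algebraMap.symm
  let φ' : MvPolynomial (Fin n) A' →ₐ[A'] B' := aeval (fun i => algebraMap B B' (φ (X i)))
  letI : Algebra (MvPolynomial (Fin n) A') B' := φ'.toRingHom.toAlgebra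
  haveI : IsScalarTower A' (MvPolynomial (Fin n) A') B' :=
    IsScalarTower.of_algebraMap_eq' φ'.comp_algebraMap.symm
  letI : Algebra (MvPolynomial (Fin n) A) B' := ((algebraMap B B').comp φ.toRingHom).toAlgebra
  haveI : IsScalarTower (MvPolynomial (Fin n) A) B B' := IsScalarTower.of_algebraMap_eq' rfl
  have hcomp : (algebraMap B B').comp φ.toRingHom =
      φ'.toRingHom.comp (MvPolynomial.map (algebraMap A A')) := by
    apply MvPolynomial.ringHom_ext
    · intro r
      simp only [AlgHom.toRingHom_eq_coe, RingHom.coe_comp, RingHom.coe_coe, Function.comp_apply,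
        map_C, φ', aeval_C]
      rw [show (C r : MvPolynomial (Fin n) A) = algebraMap A _ r from rfl, AlgHom.commutes]
      rw [← IsScalarTower.algebraMap_apply A B B', ← IsScalarTower.algebraMap_apply A A' B']
    · intro i
      simp [φ']
  haveI : IsScalarTower (MvPolynomial (Fin n) A) (MvPolynomial (Fin n) A') B' :=
    IsScalarTower.of_algebraMap_eq' hcomp
  haveI : IsScalarTower A (MvPolynomial (Fin n) A) B' := IsScalarTower.of_algebraMap_eq' (by
    rw [IsScalarTower.algebraMap_eq A B B', IsScalarTower.algebraMap_eq A (MvPolynomial (Fin n) A) B,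
      ← RingHom.comp_assoc]
    rfl)
  haveI : IsScalarTower A (MvPolynomial (Fin n) A') B' := IsScalarTower.of_algebraMap_eq' (by
    rw [IsScalarTower.algebraMap_eq A A' B', IsScalarTower.algebraMap_eq A' (MvPolynomial (Fin n) A') B',
      IsScalarTower.algebraMap_eq A A' (MvPolynomial (Fin n) A'), ← RingHom.comp_assoc])
  have hp : Algebra.IsPushout A A' (MvPolynomial (Fin n) A) (MvPolynomial (Fin n) A') := inferInstance
  have hp' : Algebra.IsPushout A (MvPolynomial (Fin n) A) A' (MvPolynomial (Fin n) A') := inferInstance
  have hq : Algebra.IsPushout A B A' B' := .symm inferInstance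
  have hr : Algebra.IsPushout (MvPolynomial (Fin n) A) B (MvPolynomial (Fin n) A') B' :=
    (Algebra.IsPushout.comp_iff A (MvPolynomial (Fin n) A) A' (MvPolynomial (Fin n) A')).1 hq
  have hr' := hr.symm
  have h1 : FPInf (MvPolynomial (Fin n) A) B := h
  have h2 : FPInf (MvPolynomial (Fin n) A') B' :=
    FPInf.of_isBaseChange_of_flat (R := A) A' hr'.out h1
  refine ⟨n, φ', ?_, h2⟩
  intro y
  have hy : IsBaseChange A' (IsScalarTower.toAlgHom A B B').toLinearMap := Algebra.IsPushout.out
  induction y using hy.inductionOn with
  | zero => exact ⟨0, map_zero _⟩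
  | tmul m =>
    obtain ⟨p, rfl⟩ := hφ m
    refine ⟨MvPolynomial.map (algebraMap A A') p, ?_⟩
    exact (RingHom.congr_fun hcomp p).symm
  | smul s m ih =>
    obtain ⟨p, rfl⟩ := ih
    exact ⟨s • p, map_smul _ _ _⟩
  | add m m' ih ih' =>
    obtain ⟨p, rfl⟩ := ih
    obtain ⟨p', rfl⟩ := ih'
    exact ⟨p + p', map_add _ _ _⟩

/-- A finite type algebra over a Noetherian ring is pseudo-coherent. -/
theorem PCHom.of_isNoetherianRing [IsNoetherianRing A] [Algebra.FiniteType A B] : PCHom A B := by
  obtain ⟨n, φ, hφ⟩ := Algebra.FiniteType.iff_quotient_mvPolynomial''.1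
    (inferInstance : Algebra.FiniteType A B)
  refine ⟨n, φ, hφ, ?_⟩
  letI : Algebra (MvPolynomial (Fin n) A) B := φ.toRingHom.toAlgebra
  haveI : Module.Finite (MvPolynomial (Fin n) A) B :=
    Module.Finite.of_surjective (Algebra.linearMap (MvPolynomial (Fin n) A) B) hφ
  exact FPInf.of_isNoetherianRing B

theorem PCHom.of_algEquiv {B' : Type u} [CommRing B'] [Algebra A B'] (e : B ≃ₐ[A] B')
    (h : PCHom A B) : PCHom A B' := by
  obtain ⟨n, φ, hφ, h⟩ := h
  refine ⟨n, e.toAlgHom.comp φ, e.surjective.comp hφ, ?_⟩
  have h2 := h.comp (PCMap.of_bijective (φ := (e : B →+* B')) e.bijective)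
  exact h2

end

end Groth.Agent.Flat2H.TorIndep
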