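import Groth.Agent.Flat2H.PCHom
import Mathlib.RingTheory.Flat.Equalizer
import Mathlib.RingTheory.Flat.Tensor
import Mathlib.RingTheory.Polynomial.Basic

/-!
# Base change of partial resolutions of modules flat over a smaller base
-/

set_option autoImplicit false
set_option linter.style.haveILetI false
universe u

namespace Groth.Agent.Flat2H

open TensorProduct MvPolynomial

attribute [local instance] MvPolynomial.algebraMvPolynomial

/-- kernels of surjections between flat modules are flat -/
theorem flat_ker_of_flat {R : Type u} [CommRing R] {M N : Type u} [AddCommGroup M] [Module R M]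
    [AddCommGroup N] [Module R N] [Module.Flat R M] [Module.Flat R N] (f : M →ₗ[R] N)
    (hf : Function.Surjective f) : Module.Flat R (LinearMap.ker f) := by
  rw [Module.Flat.iff_rTensor_injective']
  intro I
  have h1 : Function.Injective ((LinearMap.ker f).subtype.lTensor I) :=
    LinearMap.lTensor_injective_of_exact_of_flat f hf (LinearMap.ker f).subtype
      (Submodule.subtype_injective _) (by intro x; simp) I
  have h2 : Function.Injective (I.subtype.rTensor M) :=
    Module.Flat.rTensor_preserves_injective_linearMap I.subtype (Submodule.subtype_injective _)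
  have h3 : ((LinearMap.ker f).subtype.lTensor R) ∘ₗ (I.subtype.rTensor (LinearMap.ker f)) =
      (I.subtype.rTensor M) ∘ₗ ((LinearMap.ker f).subtype.lTensor I) := by
    rw [LinearMap.lTensor_comp_rTensor, LinearMap.rTensor_comp_lTensor]
  have h4 : Function.Injective (((LinearMap.ker f).subtype.lTensor R) ∘ₗ
      (I.subtype.rTensor (LinearMap.ker f))) := by
    rw [h3]
    exact h2.comp h1
  exact Function.Injective.of_comp (f := ((LinearMap.ker f).subtype.lTensor R)) h4

section

variable (R₀ R P₀ P : Type u) [CommRing R₀] [CommRing R] [CommRing P₀] [CommRing P]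
  [Algebra R₀ R] [Algebra R₀ P₀] [Algebra R P] [Algebra P₀ P] [Algebra R₀ P] [IsScalarTower R₀ R P]
  [IsScalarTower R₀ P₀ P] [Algebra.IsPushout R₀ R P₀ P]

include R

/-- a short exact sequence with quotient flat over `R₀` stays left exact after the base change
`P₀ → P = P₀ ⊗ R`. -/
theorem lTensor_injective_of_flat_base {M N L : Type u} [AddCommGroup M] [AddCommGroup N]
    [AddCommGroup L] [Module P₀ M] [Module P₀ N] [Module P₀ L] [Module R₀ M] [Module R₀ N]
    [Module R₀ L] [IsScalarTower R₀ P₀ M] [IsScalarTower R₀ P₀ N] [IsScalarTower R₀ P₀ L]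
    [Module.Flat R₀ L] (g : M →ₗ[P₀] N) (f : N →ₗ[P₀] L) (hg : Function.Injective g)
    (hf : Function.Surjective f) (H : Function.Exact g f) :
    Function.Injective (g.baseChange P) := by
  have h1 : Function.Injective ((g.restrictScalars R₀).lTensor R) :=
    LinearMap.lTensor_injective_of_exact_of_flat (f.restrictScalars R₀) hf (g.restrictScalars R₀)
      hg H R
  have h2 : ∀ x : R ⊗[R₀] M, (g.baseChange P) ((Algebra.IsPushout.cancelBaseChange R₀ R P₀ P M).symm x)
      = (Algebra.IsPushout.cancelBaseChange R₀ R P₀ P N).symm ((g.restrictScalars R₀).lTensor R x) := by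
    intro x
    induction x with
    | zero => simp
    | add x y hx hy => simp only [map_add, hx, hy]
    | tmul r m => simp
  intro x y hxy
  obtain ⟨x, rfl⟩ := (Algebra.IsPushout.cancelBaseChange R₀ R P₀ P M).symm.surjective x
  obtain ⟨y, rfl⟩ := (Algebra.IsPushout.cancelBaseChange R₀ R P₀ P M).symm.surjective y
  rw [h2, h2] at hxy
  rw [h1 ((Algebra.IsPushout.cancelBaseChange R₀ R P₀ P N).symm.injective hxy)]

/-- base change of partial resolutions of a `P₀`-module flat over `R₀` along `P₀ → P₀ ⊗ R`. -/
theorem FPn.baseChange_of_flat [Module.Flat R₀ P₀] {n : ℕ} {M : Type u} [AddCommGroup M]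
    [Module P₀ M] [Module R₀ M] [IsScalarTower R₀ P₀ M] [Module.Flat R₀ M] (h : FPn P₀ n M) :
    FPn P n (P ⊗[P₀] M) := by
  induction n generalizing M with
  | zero =>
    have : Module.Finite P₀ M := h
    exact (inferInstance : Module.Finite P (P ⊗[P₀] M))
  | succ n ih =>
    obtain ⟨k, f, hf, hk⟩ := h
    have hflat0 : Module.Flat R₀ (Fin k → P₀) :=
      Module.Flat.of_linearEquiv ((Finsupp.linearEquivFunOnFinite R₀ P₀ (Fin k)).symm.trans
        (finsuppLEquivDirectSum R₀ P₀ (Fin k)))
    have hflat : Module.Flat R₀ (LinearMap.ker f) :=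
      flat_ker_of_flat (f.restrictScalars R₀) hf
    have h1 : Function.Injective ((LinearMap.ker f).subtype.baseChange P) :=
      lTensor_injective_of_flat_base R₀ R P₀ P (LinearMap.ker f).subtype f
        (Submodule.subtype_injective _) hf (by intro x; simp)
    have h2 : Function.Surjective (f.baseChange P) := LinearMap.lTensor_surjective P hf
    have h3 : Function.Exact ((LinearMap.ker f).subtype.baseChange P) (f.baseChange P) :=
      lTensor_exact P (f := (LinearMap.ker f).subtype) (g := f) (by intro x; simp) hf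
    exact FPn.right _ _ h1 h2 h3 (ih hk)
      (FPn.of_equiv_pi (n + 1) (TensorProduct.piScalarRight P₀ P P (Fin k)))

theorem FPInf.of_isBaseChange_of_flat [Module.Flat R₀ P₀] {M N : Type u} [AddCommGroup M]
    [Module P₀ M] [Module R₀ M] [IsScalarTower R₀ P₀ M] [Module.Flat R₀ M] [AddCommGroup N]
    [Module P₀ N] [Module P N] [IsScalarTower P₀ P N] {g : M →ₗ[P₀] N} (hg : IsBaseChange P g)
    (h : FPInf P₀ M) : FPInf P N :=
  fun n => ((h n).baseChange_of_flat R₀ R P₀ P).of_equiv hg.equiv

end

variable {A B : Type u} [CommRing A] [CommRing B] [Algebra A B]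

/-- arbitrary base change of a *flat* pseudo-coherent ring map, pushout form -/
theorem PCHom.of_isPushout_of_flat [Module.Flat A B] (h : PCHom A B) (A' B' : Type u) [CommRing A']
    [CommRing B'] [Algebra A A'] [Algebra B B'] [Algebra A' B'] [Algebra A B'] [IsScalarTower A A' B']
    [IsScalarTower A B B'] [Algebra.IsPushout A A' B B'] : PCHom A' B' := by
  obtain ⟨n, φ, hφ, h⟩ := h
  letI : Algebra (MvPolynomial (Fin n) A) B := φ.toRingHom.toAlgebra
  haveI : IsScalarTower A (MvPolynomial (Fin n) A) B :=
    IsScalarTower.of_algebraMap_eq' φ.comp_algebraMap.symm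
  let φ' : MvPolynomial (Fin n) A' →ₐ[A'] B' := aeval (fun i => algebraMap B B' (φ (X i)))
  letI : Algebra (MvPolynomial (Fin n) A') B' := φ'.toRingHom.toAlgebra
  haveI : IsScalarTower A' (MvPolynomial (Fin n) A') B' :=
    IsScalarTower.of_algebraMap_eq' φ'.comp_algebraMap.symm
  letI : Algebra (MvPolynomial (Fin n) A) B' := ((algebraMap B B').comp φ.toRingHom).toAlgebra
  haveI : IsScalarTower (MvPolynomial (Fin n) A) B B' := IsScalarTower.of_algebraMap_eq' rfl
  have hcomp : (algebraMap B B').comp φ.toRingHom =
      φ'.toRingHom.comp (MvPolynomial.map (algebraMap A A')) := by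
    apply MvPolynomial.ringHom_ext
    · intro r
      simp only [AlgHom.toRingHom_eq_coe, RingHom.coe_comp, RingHom.coe_coe, Function.comp_apply,
        map_C, φ', aeval_C]
      rw [show (C r : MvPolynomial (Fin n) A) = algebraMap A _ r from rfl, AlgHom.commutes]
      rw [← IsScalarTower.algebraMap_apply A B B', ← IsScalarTower.algebraMap_apply A A' B']
    · intro i
      simp [φ']
  haveI : IsScalarTower (MvPolynomial (Fin n) A) (MvPolynomial (Fin n) A') B' :=
    IsScalarTower.of_algebraMap_eq' hcomp
  haveI : IsScalarTower A (MvPolynomial (Fin n) A) B' := IsScalarTower.of_algebraMap_eq' (by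
    rw [IsScalarTower.algebraMap_eq A B B', IsScalarTower.algebraMap_eq A (MvPolynomial (Fin n) A) B,
      ← RingHom.comp_assoc]
    rfl)
  haveI : IsScalarTower A (MvPolynomial (Fin n) A') B' := IsScalarTower.of_algebraMap_eq' (by
    rw [IsScalarTower.algebraMap_eq A A' B', IsScalarTower.algebraMap_eq A' (MvPolynomial (Fin n) A') B',
      IsScalarTower.algebraMap_eq A A' (MvPolynomial (Fin n) A'), ← RingHom.comp_assoc])
  have hp : Algebra.IsPushout A A' (MvPolynomial (Fin n) A) (MvPolynomial (Fin n) A') := inferInstance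
  have hq : Algebra.IsPushout A B A' B' := .symm inferInstance
  have hr : Algebra.IsPushout (MvPolynomial (Fin n) A) B (MvPolynomial (Fin n) A') B' :=
    (Algebra.IsPushout.comp_iff A (MvPolynomial (Fin n) A) A' (MvPolynomial (Fin n) A')).1 hq
  have hr' := hr.symm
  have h1 : FPInf (MvPolynomial (Fin n) A) B := h
  have h2 : FPInf (MvPolynomial (Fin n) A') B' :=
    FPInf.of_isBaseChange_of_flat A A' (MvPolynomial (Fin n) A) (MvPolynomial (Fin n) A') hr'.out h1
  refine ⟨n, φ', ?_, h2⟩
  intro y
  have hy : IsBaseChange A' (IsScalarTower.toAlgHom A B B').toLinearMap := Algebra.IsPushout.out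
  induction y using hy.inductionOn with
  | zero => exact ⟨0, map_zero _⟩
  | tmul m =>
    obtain ⟨p, rfl⟩ := hφ m
    refine ⟨MvPolynomial.map (algebraMap A A') p, ?_⟩
    exact (RingHom.congr_fun hcomp p).symm
  | smul s m ih =>
    obtain ⟨p, rfl⟩ := ih
    exact ⟨s • p, map_smul _ _ _⟩
  | add m m' ih ih' =>
    obtain ⟨p, rfl⟩ := ih
    obtain ⟨p', rfl⟩ := ih'
    exact ⟨p + p', map_add _ _ _⟩

/-- finite type maps from a Noetherian ring are pseudo-coherent -/
theorem PCHom.of_isNoetherianRing [IsNoetherianRing A] [Algebra.FiniteType A B] : PCHom A B := by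
  obtain ⟨n, φ, hφ⟩ := Algebra.FiniteType.iff_quotient_mvPolynomial''.1 (inferInstance : Algebra.FiniteType A B)
  letI : Algebra (MvPolynomial (Fin n) A) B := φ.toRingHom.toAlgebra
  have : Module.Finite (MvPolynomial (Fin n) A) B :=
    Module.Finite.of_surjective (Algebra.linearMap (MvPolynomial (Fin n) A) B) hφ
  exact ⟨n, φ, hφ, FPInf.of_isNoetherianRing B⟩

end Groth.Agent.Flat2H
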