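import Mathlib.AlgebraicGeometry.Morphisms.RingHomProperties
import Mathlib.AlgebraicGeometry.Morphisms.Flat
import Mathlib.AlgebraicGeometry.Morphisms.FinitePresentation
import Mathlib.AlgebraicGeometry.Morphisms.UnderlyingMap
import Mathlib.AlgebraicGeometry.Morphisms.Descent
import Mathlib.AlgebraicGeometry.Morphisms.FlatDescent

/-!
# Local properties of morphisms: flat base change, descent, fppf locality on the source

Generic lemmas for `P : MorphismProperty Scheme` with `HasRingHomProperty P Q`, where `Q` is only stable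
under FLAT base change.
-/

set_option autoImplicit false
universe u

open CategoryTheory CategoryTheory.Limits AlgebraicGeometry TensorProduct

namespace Groth.Agent.Flat2H.LocalFlat

/-- `Q` is stable under flat base change. -/
def StableUnderFlatBaseChange
    (Q : ∀ {R S : Type u} [CommRing R] [CommRing S], (R →+* S) → Prop) : Prop :=
  ∀ ⦃R S T : Type u⦄ [CommRing R] [CommRing S] [CommRing T] [Algebra R S] [Algebra R T]
    [Module.Flat R S], Q (algebraMap R T) → Q (algebraMap S (S ⊗[R] T))

variable (P : MorphismProperty Scheme.{u})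
  {Q : ∀ {R S : Type u} [CommRing R] [CommRing S], (R →+* S) → Prop} [HasRingHomProperty P Q]

section BaseChange

variable (hQ : StableUnderFlatBaseChange Q)

include hQ

theorem pullback_fst_Spec {R S T : CommRingCat.{u}} (φ : R ⟶ S) (ψ : R ⟶ T) [Flat (Spec.map φ)]
    (h : P (Spec.map ψ)) : P (pullback.fst (Spec.map φ) (Spec.map ψ)) := by
  have hfl : φ.hom.Flat := Flat.SpecMap_iff.1 inferInstance
  algebraize [φ.hom, ψ.hom]
  change P (pullback.fst (Spec.map (CommRingCat.ofHom (algebraMap R S)))
    (Spec.map (CommRingCat.ofHom (algebraMap R T))))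
  rw [← pullbackSpecIso_hom_fst R S T, P.cancel_left_of_respectsIso,
    HasRingHomProperty.Spec_iff (P := P)]
  have h' : Q (algebraMap R T) := (HasRingHomProperty.Spec_iff (P := P)).1 h
  exact hQ h'

set_option backward.isDefEq.respectTransparency.types false in
/-- Flat base change for a local property of morphisms stable under flat base change of rings. -/
theorem of_isPullback {X S X' S' : Scheme.{u}} {f : X ⟶ S} {f' : X' ⟶ S'} {g' : X' ⟶ X}
    {g : S' ⟶ S} (hg : Flat g) (hc : IsPullback g' f' f g) (hf : P f) : P f' := by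
  wlog hS : ∃ R, S = Spec R generalizing X S X' S'
  · rw [IsZariskiLocalAtTarget.iff_of_openCover (P := P) (S.affineCover.pullback₁ g)]
    intro i
    have h1 : IsPullback (pullback.fst f' ((S.affineCover.pullback₁ g).f i) ≫ g')
        (pullback.snd f' ((S.affineCover.pullback₁ g).f i)) f
        (pullback.snd g (S.affineCover.f i) ≫ S.affineCover.f i) := by
      have := (IsPullback.of_hasPullback f' ((S.affineCover.pullback₁ g).f i)).paste_horiz hc
      rwa [show (S.affineCover.pullback₁ g).f i ≫ g = pullback.snd g (S.affineCover.f i) ≫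
        S.affineCover.f i from pullback.condition] at this
    have h2 := IsPullback.of_right' h1 (IsPullback.of_hasPullback f (S.affineCover.f i))
    have hfl : Flat (pullback.snd g (S.affineCover.f i)) := inferInstance
    exact this hfl h2 (IsZariskiLocalAtTarget.of_isPullback (IsPullback.of_hasPullback f (S.affineCover.f i)) hf)
      ⟨_, rfl⟩
  wlog hS' : ∃ R, S' = Spec R generalizing X' S'
  · rw [IsZariskiLocalAtTarget.iff_of_openCover (P := P) S'.affineCover]
    intro i
    exact this inferInstance ((IsPullback.of_hasPullback f' (S'.affineCover.f i)).paste_horiz hc) ⟨_, rfl⟩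
  wlog hX : ∃ R, X = Spec R generalizing X X'
  · rw [IsZariskiLocalAtSource.iff_of_openCover (P := P) (X.affineCover.pullback₁ g')]
    intro i
    exact this (HasRingHomProperty.comp_of_isOpenImmersion P _ _ hf)
      ((IsPullback.of_hasPullback g' (X.affineCover.f i)).flip.paste_vert hc) ⟨_, rfl⟩
  obtain ⟨R, rfl⟩ := hS
  obtain ⟨R', rfl⟩ := hS'
  obtain ⟨T, rfl⟩ := hX
  obtain ⟨φ, rfl⟩ := Spec.map_surjective g
  obtain ⟨ψ, rfl⟩ := Spec.map_surjective f
  have h := pullback_fst_Spec P hQ φ ψ hf
  rw [← hc.flip.isoPullback_hom_fst, P.cancel_left_of_respectsIso]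
  exact h

end BaseChange

/-- `Q` descends along faithfully flat ring maps. -/
def DescendsFaithfullyFlat
    (Q : ∀ {R S : Type u} [CommRing R] [CommRing S], (R →+* S) → Prop) : Prop :=
  ∀ ⦃R S T : Type u⦄ [CommRing R] [CommRing S] [CommRing T] [Algebra R S] [Algebra R T]
    [Module.FaithfullyFlat R S], Q (algebraMap S (S ⊗[R] T)) → Q (algebraMap R T)

section Descent

variable (hQ : StableUnderFlatBaseChange Q) (hQ' : DescendsFaithfullyFlat Q)

include hQ' in
theorem of_pullback_fst_Spec {R S T : CommRingCat.{u}} (φ : R ⟶ S) (ψ : R ⟶ T) [Flat (Spec.map φ)]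
    [Surjective (Spec.map φ)] (h : P (pullback.fst (Spec.map φ) (Spec.map ψ))) : P (Spec.map ψ) := by
  have hfl : φ.hom.FaithfullyFlat := (flat_and_surjective_SpecMap_iff φ).1 ⟨inferInstance, inferInstance⟩
  algebraize [φ.hom, ψ.hom]
  change P (pullback.fst (Spec.map (CommRingCat.ofHom (algebraMap R S)))
    (Spec.map (CommRingCat.ofHom (algebraMap R T)))) at h
  rw [← pullbackSpecIso_hom_fst R S T, P.cancel_left_of_respectsIso,
    HasRingHomProperty.Spec_iff (P := P)] at h
  rw [HasRingHomProperty.Spec_iff (P := P)]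
  exact hQ' h

include hQ hQ' in
set_option backward.isDefEq.respectTransparency.types false in
/-- Descent along flat surjective quasi-compact base change. -/
theorem descent {X S X' S' : Scheme.{u}} {f : X ⟶ S} {f' : X' ⟶ S'} {g' : X' ⟶ X}
    {g : S' ⟶ S} (hg : Flat g) (hg₁ : Surjective g) (hg₂ : QuasiCompact g)
    (hc : IsPullback g' f' f g) (hf : P f') : P f := by
  wlog hS : ∃ R, S = Spec R generalizing X S X' S'
  · rw [IsZariskiLocalAtTarget.iff_of_openCover (P := P) S.affineCover]
    intro i
    have h0 := IsPullback.of_hasPullback f' (pullback.fst g (S.affineCover.f i))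
    have h1 : IsPullback (pullback.fst f' (pullback.fst g (S.affineCover.f i)) ≫ g')
        (pullback.snd f' (pullback.fst g (S.affineCover.f i))) f
        (pullback.snd g (S.affineCover.f i) ≫ S.affineCover.f i) := by
      have := h0.paste_horiz hc
      rwa [pullback.condition] at this
    have h2 := IsPullback.of_right' h1 (IsPullback.of_hasPullback f (S.affineCover.f i))
    have hfl : Flat (pullback.snd g (S.affineCover.f i)) := inferInstance
    have hfs : Surjective (pullback.snd g (S.affineCover.f i)) := inferInstance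
    have hfq : QuasiCompact (pullback.snd g (S.affineCover.f i)) := inferInstance
    exact this hfl hfs hfq h2 (IsZariskiLocalAtTarget.of_isPullback h0 hf) ⟨_, rfl⟩
  obtain ⟨R, rfl⟩ := hS
  wlog hS' : ∃ R, S' = Spec R generalizing X' S'
  · have _ : CompactSpace S' := by simpa [← quasiCompact_iff_compactSpace g] using hg₂
    obtain ⟨Y, p, hsurj, hP', hY⟩ := S'.exists_hom_isAffine_of_isZariskiLocalAtSource @Flat
    have hc' := (IsPullback.of_hasPullback f' (Y.isoSpec.inv ≫ p)).paste_horiz hc
    have h1 : Flat (Y.isoSpec.inv ≫ p) := inferInstance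
    have h2 : Surjective ((Y.isoSpec.inv ≫ p) ≫ g) := inferInstance
    exact this (of_isPullback P hQ h1 (IsPullback.of_hasPullback f' (Y.isoSpec.inv ≫ p)) hf)
      inferInstance h2 inferInstance hc' ⟨_, rfl⟩
  wlog hX : ∃ R, X = Spec R generalizing X X'
  · rw [IsZariskiLocalAtSource.iff_of_openCover (P := P) X.affineCover]
    intro i
    exact this (HasRingHomProperty.comp_of_isOpenImmersion P _ _ hf)
      ((IsPullback.of_hasPullback g' (X.affineCover.f i)).flip.paste_vert hc) ⟨_, rfl⟩
  obtain ⟨R', rfl⟩ := hS'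
  obtain ⟨T, rfl⟩ := hX
  obtain ⟨φ, rfl⟩ := Spec.map_surjective g
  obtain ⟨ψ, rfl⟩ := Spec.map_surjective f
  apply of_pullback_fst_Spec P hQ' φ ψ
  rw [← hc.flip.isoPullback_hom_fst, P.cancel_left_of_respectsIso] at hf
  exact hf

end Descent

section Fppf

/-- `Q` is stable under composition (on the source side) with flat finitely presented ring maps. -/
def CompFlatFP (Q : ∀ {R S : Type u} [CommRing R] [CommRing S], (R →+* S) → Prop) : Prop :=
  ∀ ⦃R S T : Type u⦄ [CommRing R] [CommRing S] [CommRing T] (f : R →+* S) (g : S →+* T),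
    g.Flat → g.FinitePresentation → Q f → Q (g.comp f)

/-- `Q` descends (on the source side) along faithfully flat finitely presented ring maps. -/
def OfCompFlatFP (Q : ∀ {R S : Type u} [CommRing R] [CommRing S], (R →+* S) → Prop) : Prop :=
  ∀ ⦃R S T : Type u⦄ [CommRing R] [CommRing S] [CommRing T] (f : R →+* S) (g : S →+* T),
    g.FaithfullyFlat → g.FinitePresentation → Q (g.comp f) → Q f

set_option backward.isDefEq.respectTransparency.types false in
theorem comp_flat_lfp (hQ : CompFlatFP Q) {X' X S : Scheme.{u}} {a : X' ⟶ X} {f : X ⟶ S}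
    (ha : Flat a) (ha' : LocallyOfFinitePresentation a) (hf : P f) : P (a ≫ f) := by
  wlog hS : ∃ R, S = Spec R generalizing X' X S
  · rw [IsZariskiLocalAtTarget.iff_of_openCover (P := P) S.affineCover]
    intro i
    have h1 := IsPullback.of_hasPullback f (S.affineCover.f i)
    have h2 := IsPullback.of_hasPullback a (pullback.fst f (S.affineCover.f i))
    have h3 := h2.paste_vert h1
    change P (pullback.snd (a ≫ f) (S.affineCover.f i))
    have h5 : Flat (pullback.snd a (pullback.fst f (S.affineCover.f i))) := inferInstance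
    have h6 : LocallyOfFinitePresentation (pullback.snd a (pullback.fst f (S.affineCover.f i))) :=
      inferInstance
    have h7 := this h5 h6 (IsZariskiLocalAtTarget.of_isPullback h1 hf) ⟨_, rfl⟩
    rw [← h3.isoPullback_inv_snd, P.cancel_left_of_respectsIso]
    exact h7
  wlog hX : ∃ R, X = Spec R generalizing X' X
  · rw [IsZariskiLocalAtSource.iff_of_openCover (P := P) (X.affineCover.pullback₁ a)]
    intro i
    change P (pullback.fst a (X.affineCover.f i) ≫ a ≫ f)
    rw [pullback.condition_assoc]
    exact this inferInstance inferInstance (HasRingHomProperty.comp_of_isOpenImmersion P _ _ hf) ⟨_, rfl⟩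
  wlog hX' : ∃ R, X' = Spec R generalizing X'
  · rw [IsZariskiLocalAtSource.iff_of_openCover (P := P) X'.affineCover]
    intro i
    rw [← Category.assoc]
    exact this inferInstance inferInstance ⟨_, rfl⟩
  obtain ⟨R, rfl⟩ := hS
  obtain ⟨T, rfl⟩ := hX
  obtain ⟨T', rfl⟩ := hX'
  obtain ⟨φ, rfl⟩ := Spec.map_surjective a
  obtain ⟨ψ, rfl⟩ := Spec.map_surjective f
  rw [← Spec.map_comp]
  rw [HasRingHomProperty.Spec_iff (P := P)] at hf ⊢
  exact hQ _ _ (Flat.SpecMap_iff.1 ha) ((HasRingHomProperty.Spec_iff (P := @LocallyOfFinitePresentation)).1 ha') hf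

set_option backward.isDefEq.respectTransparency.types false in
theorem of_comp_flat_lfp (hQ : OfCompFlatFP Q) {X' X S : Scheme.{u}} {a : X' ⟶ X} {f : X ⟶ S}
    (ha : Flat a) (ha' : LocallyOfFinitePresentation a) (ha'' : Surjective a) (hf : P (a ≫ f)) : P f := by
  wlog hS : ∃ R, S = Spec R generalizing X' X S
  · rw [IsZariskiLocalAtTarget.iff_of_openCover (P := P) S.affineCover]
    intro i
    have h1 := IsPullback.of_hasPullback f (S.affineCover.f i)
    have h2 := IsPullback.of_hasPullback a (pullback.fst f (S.affineCover.f i))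
    have h3 := h2.paste_vert h1
    change P (pullback.snd f (S.affineCover.f i))
    have h5 : Flat (pullback.snd a (pullback.fst f (S.affineCover.f i))) := inferInstance
    have h6 : LocallyOfFinitePresentation (pullback.snd a (pullback.fst f (S.affineCover.f i))) :=
      inferInstance
    have h7 : Surjective (pullback.snd a (pullback.fst f (S.affineCover.f i))) := inferInstance
    exact this h5 h6 h7 (IsZariskiLocalAtTarget.of_isPullback h3 hf) ⟨_, rfl⟩
  wlog hX : ∃ R, X = Spec R generalizing X' X
  · rw [IsZariskiLocalAtSource.iff_of_openCover (P := P) X.affineCover]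
    intro i
    have h : P (pullback.snd a (X.affineCover.f i) ≫ X.affineCover.f i ≫ f) := by
      rw [← pullback.condition_assoc]
      exact HasRingHomProperty.comp_of_isOpenImmersion P _ _ hf
    exact this inferInstance inferInstance inferInstance h ⟨_, rfl⟩
  obtain ⟨R, rfl⟩ := hS
  obtain ⟨T, rfl⟩ := hX
  wlog hX' : ∃ R, X' = Spec R generalizing X'
  · have hopen : IsOpenMap a := a.isOpenMap
    have hcover : ∀ x : Spec T, ∃ i : X'.affineCover.I₀, x ∈ Set.range (X'.affineCover.f i ≫ a) := by
      intro x
      obtain ⟨y, rfl⟩ := a.surjective x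
      obtain ⟨i, z, rfl⟩ := X'.affineCover.exists_eq y
      exact ⟨i, z, by simp⟩
    obtain ⟨t, ht⟩ := isCompact_univ.elim_finite_subcover
      (fun i : X'.affineCover.I₀ => Set.range (X'.affineCover.f i ≫ a))
      (fun i => (X'.affineCover.f i ≫ a).isOpenMap.isOpen_range)
      (fun x _ => Set.mem_iUnion.2 (hcover x))
    let Y : Scheme.{u} := ∐ (fun i : t => X'.affineCover.X i)
    let p : Y ⟶ X' := Sigma.desc (fun i : t => X'.affineCover.f i)
    have hY : IsAffine Y := inferInstance
    have hp : Flat p := inferInstance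
    have hp' : LocallyOfFinitePresentation p :=
      IsZariskiLocalAtSource.sigmaDesc (P := @LocallyOfFinitePresentation) (fun _ ↦ inferInstance)
    have hs : Surjective (p ≫ a) := by
      refine ⟨fun x => ?_⟩
      obtain ⟨i, hi⟩ := Set.mem_iUnion.1 (ht (Set.mem_univ x))
      obtain ⟨hit, z, hz⟩ := Set.mem_iUnion.1 hi
      refine ⟨Sigma.ι (fun i : t => X'.affineCover.X i) ⟨i, hit⟩ z, ?_⟩
      rw [← hz, ← Scheme.Hom.comp_apply, Sigma.ι_desc_assoc]
    have hP : P (p ≫ a ≫ f) := by
      rw [IsZariskiLocalAtSource.iff_of_openCover (P := P) (sigmaOpenCover _)]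
      rintro (i : t)
      change P (Sigma.ι (fun i : t => X'.affineCover.X i) i ≫ p ≫ a ≫ f)
      rw [Sigma.ι_desc_assoc]
      exact HasRingHomProperty.comp_of_isOpenImmersion P _ _ hf
    have h1 : Surjective (Y.isoSpec.inv ≫ p ≫ a) := inferInstance
    have h2 : P ((Y.isoSpec.inv ≫ p ≫ a) ≫ f) := by
      rw [Category.assoc, Category.assoc, P.cancel_left_of_respectsIso]
      exact hP
    exact this inferInstance inferInstance h1 h2 ⟨_, rfl⟩
  obtain ⟨T', rfl⟩ := hX'
  obtain ⟨φ, rfl⟩ := Spec.map_surjective a
  obtain ⟨ψ, rfl⟩ := Spec.map_surjective f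
  rw [← Spec.map_comp] at hf
  rw [HasRingHomProperty.Spec_iff (P := P)] at hf ⊢
  exact hQ _ _ ((flat_and_surjective_SpecMap_iff _).1 ⟨ha, ha''⟩)
    ((HasRingHomProperty.Spec_iff (P := @LocallyOfFinitePresentation)).1 ha') hf

/-- fppf locality on the source. -/
theorem iff_comp_flat_lfp (hQ : CompFlatFP Q) (hQ' : OfCompFlatFP Q) {X' X S : Scheme.{u}} {a : X' ⟶ X} {f : X ⟶ S}
    (ha : Flat a) (ha' : LocallyOfFinitePresentation a) (ha'' : Surjective a) : P f ↔ P (a ≫ f) :=
  ⟨comp_flat_lfp P hQ ha ha', of_comp_flat_lfp P hQ' ha ha' ha''⟩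

end Fppf

end Groth.Agent.Flat2H.LocalFlat
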