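import Groth.Agent.Flat2H.PCMor
import Groth.Agent.Flat2H.PCBridge
import Groth.Agent.Flat2H.LocalFlat
import Groth.Prelude.Def_MoreMor

/-!
# Pseudo-coherent ring maps and morphisms: the frozen definitions versus `PCHom`, `PCMor`
-/

set_option autoImplicit false
set_option linter.style.haveILetI false
universe u

attribute [local instance] HasDerivedCategory.standard

namespace Groth.Agent.Flat2H

open CategoryTheory CategoryTheory.Limits AlgebraicGeometry TensorProduct

theorem isPseudoCoherentHom_iff {A B : Type u} [CommRing A] [CommRing B] [Algebra A B] :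
    MoreMor.IsPseudoCoherentHom A B ↔ PCHom A B := by
  unfold MoreMor.IsPseudoCoherentHom PCHom
  refine exists_congr fun n => exists_congr fun φ => and_congr_right fun hφ => ?_
  letI := φ.toRingHom.toAlgebra
  exact PCBridge.isPseudoCoherentModule'_iff (A := MvPolynomial (Fin n) A) B

theorem isPseudoCoherentMor_iff {X Y : Scheme.{u}} (f : X ⟶ Y) :
    MoreMor.IsPseudoCoherentMor f ↔ PCMor f := by
  unfold MoreMor.IsPseudoCoherentMor
  refine forall_congr' fun U => forall_congr' fun V => forall_congr' fun hU => forall_congr' fun hV =>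
    forall_congr' fun hUV => ?_
  letI := (f.appLE V U hUV).hom.toAlgebra
  exact isPseudoCoherentHom_iff

/-- the ring-hom property "pseudo-coherent". -/
abbrev PCRing {R S : Type u} [CommRing R] [CommRing S] (f : R →+* S) : Prop :=
  AlgProp.toRingHom @PCHom f

theorem pcRing_iff {R S : Type u} [CommRing R] [CommRing S] (f : R →+* S) :
    PCRing f ↔ letI := f.toAlgebra; MoreMor.IsPseudoCoherentHom R S := by
  letI := f.toAlgebra
  exact isPseudoCoherentHom_iff.symm

theorem pcRing_propertyIsLocal : RingHom.PropertyIsLocal (@PCRing.{u}) := pcHom_isLocal.propertyIsLocal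

theorem pcRing_stableUnderComposition : RingHom.StableUnderComposition (@PCRing.{u}) := by
  intro R S T _ _ _ f g hf hg
  letI := f.toAlgebra
  letI := g.toAlgebra
  letI := (g.comp f).toAlgebra
  haveI : IsScalarTower R S T := IsScalarTower.of_algebraMap_eq' rfl
  exact PCHom.trans (A := R) (B := S) (D := T) hf hg

attribute [local instance] Algebra.TensorProduct.rightAlgebra in
theorem pcRing_stableUnderFlatBaseChange : LocalFlat.StableUnderFlatBaseChange (@PCRing.{u}) := by
  intro R S T _ _ _ _ _ _ h
  rw [PCRing, AlgProp.toRingHom_algebraMap] at h ⊢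
  exact h.of_isPushout S (S ⊗[R] T)

attribute [local instance] Algebra.TensorProduct.rightAlgebra in
theorem pcRing_descendsFaithfullyFlat : LocalFlat.DescendsFaithfullyFlat (@PCRing.{u}) := by
  intro R S T _ _ _ _ _ _ h
  rw [PCRing, AlgProp.toRingHom_algebraMap] at h ⊢
  exact h.of_isPushout_of_faithfullyFlat S (S ⊗[R] T)

theorem pcRing_of_pcHom {R S : Type u} [CommRing R] [CommRing S] [Algebra R S] (h : PCHom R S) :
    PCRing (algebraMap R S) := (AlgProp.toRingHom_algebraMap @PCHom).2 h

end Groth.Agent.Flat2H
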