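import Groth.Agent.Flat2H.Syz2
import Mathlib.LinearAlgebra.TensorProduct.Quotient
import Mathlib.RingTheory.Ideal.Quotient.Operations

/-!
# fppf descent on the source for modules of type `FP_n` over a presentation
-/

set_option autoImplicit false
universe u

namespace Groth.Agent.Flat2H.Syz

open TensorProduct Groth.Agent.Flat2H

section basechange

variable {P : Type u} [CommRing P] (Q : Type u) [CommRing Q] [Algebra P Q] [Module.Flat P Q]

/-- Base change of a cover, with its kernel. -/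
theorem Cov.baseChange {N : Type u} [AddCommGroup N] [Module P N] (r : Cov P N)
    {N' : Type u} [AddCommGroup N'] [Module Q N'] (e : (Q ⊗[P] N) ≃ₗ[Q] N') :
    ∃ r' : Cov Q N', Nonempty ((Q ⊗[P] (LinearMap.ker r.f)) ≃ₗ[Q] LinearMap.ker r'.f) := by
  obtain ⟨h1, h2, h3⟩ := baseChange_exact_data Q (LinearMap.ker r.f).subtype r.f
    (Submodule.subtype_injective _) r.surj (by intro x; simp)
  let f' : (Q ⊗[P] r.F) →ₗ[Q] N' := e.toLinearMap ∘ₗ r.f.baseChange Q
  have hf' : Function.Surjective f' := e.surjective.comp h2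
  refine ⟨⟨Q ⊗[P] r.F, f', hf'⟩, ⟨?_⟩⟩
  refine LinearEquiv.ofBijective
    (LinearMap.codRestrict (LinearMap.ker f') ((LinearMap.ker r.f).subtype.baseChange Q) ?_) ⟨?_, ?_⟩
  · intro x
    rw [LinearMap.mem_ker]
    change e _ = 0
    rw [h3.apply_apply_eq_zero, map_zero]
  · intro x y hxy
    exact h1 (congrArg Subtype.val hxy)
  · rintro ⟨y, hy⟩
    have : (r.f.baseChange Q) y = 0 := by
      apply e.injective
      rw [map_zero]
      exact hy
    obtain ⟨x, hx⟩ := (h3 y).1 this
    exact ⟨x, Subtype.ext hx⟩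

theorem exists_pRes_baseChange (n : ℕ) : ∀ {N : Type u} [AddCommGroup N] [Module P N]
    (r : PRes P n N) {N' : Type u} [AddCommGroup N'] [Module Q N'] (_ : (Q ⊗[P] N) ≃ₗ[Q] N'),
    ∃ r' : PRes Q n N', Nonempty ((Q ⊗[P] (Om n r)) ≃ₗ[Q] Om n r') := by
  induction n with
  | zero =>
    intro N _ _ r N' _ _ e
    obtain ⟨r', h⟩ := Cov.baseChange Q r e
    exact ⟨r', h⟩
  | succ n ih =>
    intro N _ _ r N' _ _ e
    obtain ⟨s', ⟨e'⟩⟩ := Cov.baseChange Q r.1 e
    obtain ⟨t', h⟩ := ih r.2 e'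
    exact ⟨⟨s', t'⟩, h⟩

end basechange

/-- Transitivity: `S` of type `FP_n` over `R` and `M` of type `FP_n` over `S`. -/
theorem fpn_trans {R S : Type u} [CommRing R] [CommRing S] [Algebra R S] {n : ℕ}
    (h : FPn R n S) {M : Type u} [AddCommGroup M] [Module R M]
    [Module S M] [IsScalarTower R S M] (hM : FPn S n M) : FPn R n M := by
  induction n generalizing M with
  | zero =>
    have : Module.Finite S M := hM
    have := h.finite
    exact Module.Finite.trans S M
  | succ n ih =>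
    obtain ⟨k, f, hf, hk⟩ := hM
    have h1 : FPn R n (LinearMap.ker f) := ih h.of_succ hk
    have h2 : FPn R (n + 1) (Fin k → S) := h.pi_of k
    exact FPn.of_ker (f.restrictScalars R) hf h2
      (h1.of_equiv (LinearEquiv.refl R (LinearMap.ker f)))

/-- finiteness after tensoring with an algebra killed by the ideal -/
theorem finite_tensor_of_top_le {Q C : Type u} [CommRing Q] [CommRing C] [Algebra Q C]
    (a : Ideal Q) (ha : ∀ x ∈ a, algebraMap Q C x = 0) {M : Type u} [AddCommGroup M] [Module Q M]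
    (Y : Submodule Q M) (hY : Y.FG) (h : ⊤ ≤ a • (⊤ : Submodule Q M) ⊔ Y) :
    Module.Finite C (C ⊗[Q] M) := by
  have : Module.Finite Q Y := Module.Finite.iff_fg.2 hY
  refine Module.Finite.of_surjective (Y.subtype.baseChange C) ?_
  rw [← LinearMap.range_eq_top, eq_top_iff]
  rintro t -
  induction t with
  | zero => exact Submodule.zero_mem _
  | add x y hx hy => exact Submodule.add_mem _ hx hy
  | tmul c m =>
    obtain ⟨v, hv, y, hy, rfl⟩ := Submodule.mem_sup.1 (h (show m ∈ ⊤ from trivial))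
    rw [TensorProduct.tmul_add]
    refine Submodule.add_mem _ ?_ ⟨c ⊗ₜ ⟨y, hy⟩, rfl⟩
    have : c ⊗ₜ[Q] v = 0 := by
      induction hv using Submodule.smul_induction_on' with
      | smul x hx m' _ =>
        rw [← TensorProduct.smul_tmul, Algebra.smul_def, ha x hx, zero_mul, TensorProduct.zero_tmul]
      | add x _ y _ hx hy => rw [TensorProduct.tmul_add, hx, hy, add_zero]
    rw [this]
    exact Submodule.zero_mem _

/-- Finiteness of `M` from finiteness of `B ⊗ M` when `I M` lies in a finitely generated submodule. -/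
theorem finite_of_finite_tensor {P B : Type u} [CommRing P] [CommRing B] [Algebra P B]
    (hs : Function.Surjective (algebraMap P B)) {M : Type u} [AddCommGroup M] [Module P M]
    (Y : Submodule P M) (hY : Y.FG)
    (hI : (RingHom.ker (algebraMap P B)) • (⊤ : Submodule P M) ≤ Y)
    (h : Module.Finite B (B ⊗[P] M)) : Module.Finite P M := by
  have : Module.Finite P B := Module.Finite.of_surjective (Algebra.linearMap P B) hs
  have h1 : Module.Finite P (B ⊗[P] M) := Module.Finite.trans B (B ⊗[P] M)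
  let I := RingHom.ker (algebraMap P B)
  let e : (P ⧸ I) ≃ₗ[P] B :=
    (Ideal.quotientKerAlgEquivOfSurjective (f := Algebra.ofId P B) hs).toLinearEquiv
  let e1 : ((P ⧸ I) ⊗[P] M) ≃ₗ[P] (B ⊗[P] M) := TensorProduct.congr e (LinearEquiv.refl P M)
  have h2 : Module.Finite P ((P ⧸ I) ⊗[P] M) := Module.Finite.equiv e1.symm
  have h3 : Module.Finite P (M ⧸ (I • (⊤ : Submodule P M))) :=
    Module.Finite.equiv (TensorProduct.quotTensorEquivQuotSMul M I)
  have h4 : Module.Finite P (M ⧸ Y) :=
    Module.Finite.of_surjective (Submodule.factor hI) (Submodule.factor_surjective hI)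
  have h5 : Module.Finite P Y := Module.Finite.iff_fg.2 hY
  exact Module.Finite.of_submodule_quotient Y

/-- **Key theorem.** `P → B` surjective with finitely generated kernel, `Q` a flat `P`-algebra,
`Q → C` surjective, `C` a faithfully flat `B`-algebra such that `C` is `FP_∞` over `Q ⊗ B` and
`FP_{n+1}` over `Q`, and `B` is `FP_n` over `P`.  Then `B` is `FP_{n+1}` over `P`. -/
theorem fpn_succ_of_fppf {P B Q C : Type u} [CommRing P] [CommRing B] [CommRing Q] [CommRing C]
    [Algebra P B] [Algebra P Q] [Algebra P C] [Algebra B C] [Algebra Q C]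
    [IsScalarTower P B C] [IsScalarTower P Q C]
    (hPB : Function.Surjective (algebraMap P B)) (hI : (RingHom.ker (algebraMap P B)).FG)
    [Module.Flat P Q] [Module.FaithfullyFlat B C]
    (hQC : Function.Surjective (algebraMap Q C))
    [Algebra (Q ⊗[P] B) C] [IsScalarTower Q (Q ⊗[P] B) C]
    (hC' : FPInf (Q ⊗[P] B) C)
    (n : ℕ) (hB : FPn P n B) (hC : FPn Q (n + 1) C) : FPn P (n + 1) B := by
  obtain ⟨r⟩ := nonempty_pRes_of_fpn n B hB
  rw [fpn_succ_iff n r]
  obtain ⟨r', ⟨e⟩⟩ := exists_pRes_baseChange Q n r (LinearEquiv.refl Q (Q ⊗[P] B))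
  -- the algebra `B' = Q ⊗ B`
  have hQB' : Function.Surjective (algebraMap Q (Q ⊗[P] B)) := by
    intro t
    induction t with
    | zero => exact ⟨0, map_zero _⟩
    | add x y hx hy =>
      obtain ⟨a, rfl⟩ := hx
      obtain ⟨b, rfl⟩ := hy
      exact ⟨a + b, map_add _ _ _⟩
    | tmul q b =>
      obtain ⟨p, rfl⟩ := hPB b
      refine ⟨p • q, ?_⟩
      rw [Algebra.TensorProduct.algebraMap_apply, Algebra.algebraMap_self, RingHom.id_apply,
        TensorProduct.smul_tmul, Algebra.smul_def, mul_one]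
  have hB'C : Function.Surjective (algebraMap (Q ⊗[P] B) C) := by
    intro c
    obtain ⟨q, rfl⟩ := hQC c
    exact ⟨algebraMap Q (Q ⊗[P] B) q, (IsScalarTower.algebraMap_apply Q (Q ⊗[P] B) C q).symm⟩
  -- the ideal `J` of `B'`
  let p : (Q ⊗[P] B) →ₗ[Q ⊗[P] B] C := Algebra.linearMap _ _
  have hp : Function.Surjective p := hB'C
  have hJ : FPInf (Q ⊗[P] B) (LinearMap.ker p) := FPInf.ker p hp (FPInf.of_projective _) hC'
  obtain ⟨k, u, hu, -⟩ := hJ 1
  have hker : FPInf (Q ⊗[P] B) (LinearMap.ker u) := FPInf.ker u hu (FPInf.of_projective _) hJ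
  have hB'n : FPn Q n (Q ⊗[P] B) := hB.baseChange Q
  have hJn : FPn Q n (LinearMap.ker p) := fpn_trans hB'n (hJ n)
  have hkern : FPn Q n (LinearMap.ker u) := fpn_trans hB'n (hker n)
  obtain ⟨rJ⟩ := nonempty_pRes_of_fpn n _ hJn
  -- generators
  let x' : Fin k → Q ⊗[P] B := fun i => (u (Pi.single i 1)).1
  choose x hx using fun i => hQB' (x' i)
  have hxC : ∀ i, algebraMap Q C (x i) = 0 := by
    intro i
    rw [IsScalarTower.algebraMap_apply Q (Q ⊗[P] B) C, hx]
    exact LinearMap.mem_ker.1 (u (Pi.single i 1)).2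
  let j : (LinearMap.ker p) →ₗ[Q] (Q ⊗[P] B) := (LinearMap.ker p).subtype.restrictScalars Q
  let uQ : (Fin k → Q ⊗[P] B) →ₗ[Q] (LinearMap.ker p) := u.restrictScalars Q
  have hju : ∀ v, j (uQ v) = ∑ i, x i • v i := by
    intro v
    change (u v).1 = _
    have hv : v = ∑ i, v i • (Pi.single i 1 : Fin k → Q ⊗[P] B) := by
      refine (Finset.univ_sum_single v).symm.trans (Finset.sum_congr rfl fun i _ => ?_)
      ext l
      by_cases hl : l = i
      · subst hl; simp
      · simp [Pi.single_eq_of_ne hl]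
    conv_lhs => rw [hv]
    rw [map_sum, Submodule.coe_sum]
    refine Finset.sum_congr rfl fun i _ => ?_
    rw [map_smul, Submodule.coe_smul]
    change v i * x' i = _
    rw [← hx, Algebra.smul_def, mul_comm]
  obtain ⟨φ, hφ⟩ := exists_isLift n rJ r' j
  obtain ⟨Y₁, hY₁, h1⟩ := top_le_range_sup_fg n j (p.restrictScalars Q)
    (Submodule.injective_subtype _) hp (LinearMap.exact_subtype_ker_map p) hC rJ r' φ hφ
  obtain ⟨Y₂, hY₂, h2⟩ := range_le_smul_sup_fg n j uQ hu
    (hkern.of_equiv (LinearEquiv.refl Q (LinearMap.ker u))) x hju rJ r' φ hφ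
  have h3 : Module.Finite C (C ⊗[Q] (Om n r')) := by
    refine finite_tensor_of_top_le (Ideal.span (Set.range x)) ?_ (Y₂ ⊔ Y₁) (hY₂.sup hY₁) ?_
    · intro a ha
      have : Ideal.span (Set.range x) ≤ RingHom.ker (algebraMap Q C) := by
        rw [Ideal.span_le]
        rintro _ ⟨i, rfl⟩
        exact hxC i
      exact this ha
    · refine h1.trans (sup_le (h2.trans ?_) (le_sup_of_le_right le_sup_right))
      exact sup_le le_sup_left (le_sup_of_le_right le_sup_left)
  have h4 : Module.Finite C (C ⊗[B] (B ⊗[P] (Om n r))) := by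
    have e1 : (C ⊗[Q] (Q ⊗[P] (Om n r))) ≃ₗ[C] (C ⊗[Q] (Om n r')) :=
      TensorProduct.AlgebraTensorModule.congr (LinearEquiv.refl C C) e
    have e2 : (C ⊗[Q] (Q ⊗[P] (Om n r))) ≃ₗ[C] (C ⊗[P] (Om n r)) :=
      TensorProduct.AlgebraTensorModule.cancelBaseChange P Q C C (Om n r)
    have e3 : (C ⊗[B] (B ⊗[P] (Om n r))) ≃ₗ[C] (C ⊗[P] (Om n r)) :=
      TensorProduct.AlgebraTensorModule.cancelBaseChange P B C C (Om n r)
    exact Module.Finite.equiv (e1.symm.trans (e2.trans e3.symm))
  have h5 : Module.Finite B (B ⊗[P] (Om n r)) :=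
    Module.Finite.of_finite_tensorProduct_of_faithfullyFlat C
  obtain ⟨Y, hY, h6⟩ := ideal_smul_le_fg n r (RingHom.ker (algebraMap P B)) hI (by
    intro a ha b
    rw [Algebra.smul_def, RingHom.mem_ker.1 ha, zero_mul])
  exact finite_of_finite_tensor hPB Y hY h6 h5

end Groth.Agent.Flat2H.Syz
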