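import Groth.Agent.Flat2H.PCHom
import Groth.Agent.Flat2H.Syz3
import Mathlib.RingTheory.FinitePresentation

/-!
# Pseudo-coherent ring maps: fppf descent on the source
-/

set_option autoImplicit false
set_option linter.style.haveILetI false
universe u

namespace Groth.Agent.Flat2H

open TensorProduct MvPolynomial

/-- A pseudo-coherent ring map is of finite presentation. -/
theorem PCHom.finitePresentation {A B : Type u} [CommRing A] [CommRing B] [Algebra A B]
    (h : PCHom A B) : Algebra.FinitePresentation A B := by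
  obtain ⟨n, φ, hφ, h⟩ := h
  letI : Algebra (MvPolynomial (Fin n) A) B := φ.toRingHom.toAlgebra
  have h1 : FPInf (MvPolynomial (Fin n) A) B := h
  have h2 := FPn.ker (n := 0) (Algebra.linearMap (MvPolynomial (Fin n) A) B) hφ
    (FPn.of_projective 0 _) (h1 1)
  have h3 : Module.Finite (MvPolynomial (Fin n) A)
      (LinearMap.ker (Algebra.linearMap (MvPolynomial (Fin n) A) B)) := h2
  refine Algebra.FinitePresentation.of_surjective (f := φ) hφ ?_
  exact Module.Finite.iff_fg.1 h3

variable {A B D : Type u} [CommRing A] [CommRing B] [CommRing D] [Algebra A B] [Algebra B D]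
  [Algebra A D] [IsScalarTower A B D]

/-- fppf descent on the source of pseudo-coherent ring maps (given that `A → B` is finitely presented
and that `B → D` is pseudo-coherent). -/
theorem PCHom.of_fppf (hAB : Algebra.FinitePresentation A B) [Module.FaithfullyFlat B D]
    (hBD : PCHom B D) (h : PCHom A D) : PCHom A B := by
  obtain ⟨k, φ, hφ, hker⟩ := hAB
  obtain ⟨m, ψ, hψ, hψ'⟩ := hBD
  -- the rings `P = A[x]` and `Q = P[y]`
  let P := MvPolynomial (Fin k) A
  let Q := MvPolynomial (Fin m) P
  letI : Algebra P B := φ.toRingHom.toAlgebra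
  letI : Algebra P D := ((algebraMap B D).comp φ.toRingHom).toAlgebra
  haveI : IsScalarTower P B D := IsScalarTower.of_algebraMap_eq' rfl
  let θ : Q →+* D := ψ.toRingHom.comp (MvPolynomial.map φ.toRingHom)
  letI : Algebra Q D := θ.toAlgebra
  have hθC : ∀ x : P, θ (C x) = algebraMap B D (φ x) := by
    intro x
    change ψ (MvPolynomial.map φ.toRingHom (C x)) = _
    rw [map_C]
    exact ψ.commutes _
  haveI : IsScalarTower P Q D := IsScalarTower.of_algebraMap_eq fun x => (hθC x).symm
  have hθ : Function.Surjective θ := hψ.comp (MvPolynomial.map_surjective _ hφ)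
  -- the algebra structure over `Q ⊗ B`
  let ρ : Q ⊗[P] B →ₐ[P] D := Algebra.TensorProduct.lift (IsScalarTower.toAlgHom P Q D)
    (IsScalarTower.toAlgHom P B D) (fun _ _ => Commute.all _ _)
  have hρ : ∀ (x : Q) (b : B), ρ (x ⊗ₜ b) = θ x * algebraMap B D b := fun x b => rfl
  letI : Algebra (Q ⊗[P] B) D := ρ.toRingHom.toAlgebra
  haveI : IsScalarTower Q (Q ⊗[P] B) D := IsScalarTower.of_algebraMap_eq fun x => by
    change θ x = ρ (x ⊗ₜ 1)
    rw [hρ, map_one, mul_one]
  -- `D` is `FPInf` over `Q ⊗ B`
  have hC' : FPInf (Q ⊗[P] B) D := by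
    let e : Q ⊗[P] B ≃ₐ[P] MvPolynomial (Fin m) B :=
      (Algebra.TensorProduct.comm P Q B).trans
        ((MvPolynomial.algebraTensorAlgEquiv P B (σ := Fin m)).restrictScalars P)
    have he : ρ.toRingHom = ψ.toRingHom.comp (RingHomClass.toRingHom e) := by
      refine RingHom.ext fun t => ?_
      induction t with
      | zero => rw [map_zero, map_zero]
      | add x y hx hy => rw [map_add, map_add, hx, hy]
      | tmul x b =>
        change ρ (x ⊗ₜ b) = ψ (MvPolynomial.algebraTensorAlgEquiv P B (b ⊗ₜ x))
        rw [hρ, MvPolynomial.algebraTensorAlgEquiv_tmul, Algebra.smul_def, map_mul, mul_comm]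
        congr 1
        exact (ψ.commutes b).symm
    exact (PCMap.of_comp_bij e.bijective he).2 hψ'
  have hC : FPInf Q D := by
    let χ : MvPolynomial (Fin m ⊕ Fin k) A →ₐ[A] D :=
      aeval (Sum.elim (fun i => ψ (X i)) (fun i => algebraMap B D (φ (X i))))
    have h2 : χ.toRingHom = θ.comp (RingHomClass.toRingHom (sumAlgEquiv A (Fin m) (Fin k))) := by
      apply MvPolynomial.ringHom_ext
      · intro r
        change χ (C r) = θ (sumAlgEquiv A (Fin m) (Fin k) (C r))
        rw [sumAlgEquiv_C_inl, hθC]
        simp only [χ, algHom_C]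
        exact IsScalarTower.algebraMap_apply A B D r
      · rintro (i | i)
        · change χ (X (Sum.inl i)) = ψ (MvPolynomial.map φ.toRingHom (sumAlgEquiv A (Fin m) (Fin k) (X (Sum.inl i))))
          simp [χ]
        · change χ (X (Sum.inr i)) = θ (sumAlgEquiv A (Fin m) (Fin k) (X (Sum.inr i)))
          rw [sumAlgEquiv_X_inr, hθC]
          simp [χ]
    have h4 : Function.Surjective χ.toRingHom := by
      rw [h2]
      exact hθ.comp (sumAlgEquiv A (Fin m) (Fin k)).surjective
    exact (PCMap.of_comp_bij (sumAlgEquiv A (Fin m) (Fin k)).bijective h2).1 (h.pcMap χ h4)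
  have hI : (RingHom.ker (algebraMap P B)).FG := hker
  have key : ∀ n, FPn P n B := by
    intro n
    induction n with
    | zero => exact Module.Finite.of_surjective (Algebra.linearMap P B) hφ
    | succ n ih => exact Syz.fpn_succ_of_fppf hφ hI hθ hC' n ih (hC (n + 1))
  exact ⟨k, φ, hφ, key⟩

end Groth.Agent.Flat2H
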