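import Groth.Agent.Flat2H.FlatPC
import Groth.Agent.Flat2H.PCFppf
import Groth.Agent.Flat2H.PCFinal
import Groth.Agent.Etbase.FPModel
import Groth.Agent.S0112

/-!
# Flat finitely presented ring maps are pseudo-coherent (Stacks 0682 for rings), and pseudo-coherence of
ring maps is fppf local on the source
-/

set_option autoImplicit false
set_option linter.style.haveILetI false
universe u

namespace Groth.Agent.Flat2H

open TensorProduct

/-- transport along an isomorphism of the target -/
theorem PCHom.equiv {A B C : Type u} [CommRing A] [CommRing B] [CommRing C] [Algebra A B] [Algebra A C]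
    (h : PCHom A B) (e : B ≃ₐ[A] C) : PCHom A C := by
  letI : Algebra B C := e.toRingHom.toAlgebra
  haveI : IsScalarTower A B C := IsScalarTower.of_algebraMap_eq' e.toAlgHom.comp_algebraMap.symm
  haveI : IsLocalization.Away (1 : B) C := by
    apply IsLocalization.away_of_isUnit_of_bijective _ isUnit_one
    exact e.bijective
  exact h.trans (PCHom.of_isLocalizationAway 1 C)

/-- A flat ring map of finite presentation is pseudo-coherent. -/
theorem PCHom.of_flat (A B : Type u) [CommRing A] [CommRing B] [Algebra A B] [Module.Flat A B]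
    [Algebra.FinitePresentation A B] : PCHom A B := by
  obtain ⟨A₂, B₂, _, _, _, _, -, hA, hB, hf, ⟨e⟩⟩ :=
    Groth.Agent.Etbase.FPModel.exists_model_flat A B
  have hN : IsNoetherianRing A₂ := Algebra.FiniteType.isNoetherianRing ℤ A₂
  have hft : Algebra.FiniteType A₂ B₂ := Algebra.FiniteType.of_finitePresentation
  have h0 : PCHom A₂ B₂ := PCHom.of_isNoetherianRing
  letI : Algebra B₂ (A ⊗[A₂] B₂) := Algebra.TensorProduct.rightAlgebra
  have h1 : PCHom A (A ⊗[A₂] B₂) := h0.of_isPushout_of_flat A (A ⊗[A₂] B₂)
  exact h1.equiv e

/-- Pseudo-coherence of ring maps is fppf local on the source. -/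
theorem PCHom.of_comp_flat (A B C : Type u) [CommRing A] [CommRing B] [CommRing C] [Algebra A B]
    [Algebra A C] [Algebra B C] [IsScalarTower A B C] [Module.FaithfullyFlat B C]
    [Algebra.FinitePresentation B C] (h : PCHom A C) : PCHom A B := by
  have := h.finitePresentation
  exact PCHom.of_fppf (Groth.Agent.S0112.result (R := A) (A := B) (B := C)) (PCHom.of_flat B C) h

theorem pcRing_compFlatFP : LocalFlat.CompFlatFP (@PCRing.{u}) := by
  intro R S T _ _ _ f g hg hg' hf
  refine pcRing_stableUnderComposition f g hf ?_
  algebraize [g]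
  exact PCHom.of_flat S T

theorem pcRing_ofCompFlatFP : LocalFlat.OfCompFlatFP (@PCRing.{u}) := by
  intro R S T _ _ _ f g hg hg' hf
  letI := f.toAlgebra
  letI := g.toAlgebra
  letI := (g.comp f).toAlgebra
  haveI : IsScalarTower R S T := IsScalarTower.of_algebraMap_eq' rfl
  haveI : Module.FaithfullyFlat S T := hg
  haveI : Algebra.FinitePresentation S T := hg'
  exact PCHom.of_comp_flat R S T hf

/-- pseudo-coherent morphisms, as a morphism property -/
abbrev PCohMor : CategoryTheory.MorphismProperty AlgebraicGeometry.Scheme.{u} :=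
  fun _ _ f => MoreMor.IsPseudoCoherentMor f

open AlgebraicGeometry in
instance hasRingHomProperty_pCohMor : HasRingHomProperty PCohMor.{u} (@PCRing.{u}) where
  isLocal_ringHomProperty := pcRing_propertyIsLocal
  eq_affineLocally' := by
    ext X Y f
    rw [affineLocally_iff_forall_isAffineOpen]
    constructor
    · intro hf V hV U hU e
      exact (pcRing_iff _).2 (hf U V hU hV e)
    · intro hf U V hU hV e
      exact (pcRing_iff _).1 (hf hV hU e)

end Groth.Agent.Flat2H
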