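import Groth.Agent.Flat2H.FlatPC2

/-!
# Pseudo-coherence of quotients of flat finitely presented algebras (Stacks 0697)
-/

set_option autoImplicit false
set_option linter.style.haveILetI false
universe u

namespace Groth.Agent.Flat2H

open TensorProduct MvPolynomial

theorem FPInf.quotient_iff {B : Type u} [CommRing B] (I : Ideal B) : FPInf B (B ⧸ I) ↔ FPInf B I := by
  have hk : LinearMap.ker (Submodule.mkQ I) = I := Submodule.ker_mkQ I
  constructor
  · intro h
    have h1 := FPInf.ker (Submodule.mkQ I) (Submodule.mkQ_surjective I) (FPInf.of_projective B) h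
    exact h1.of_equiv (LinearEquiv.ofEq _ _ hk)
  · intro h
    exact FPInf.of_ker (Submodule.mkQ I) (Submodule.mkQ_surjective I) (FPInf.of_projective B)
      (h.of_equiv (LinearEquiv.ofEq _ _ hk.symm))

/-- A flat finitely presented algebra is `FPInf` over any polynomial ring surjecting onto it. -/
theorem pcMap_of_flat {A B : Type u} [CommRing A] [CommRing B] [Algebra A B] [Module.Flat A B]
    [Algebra.FinitePresentation A B] {σ : Type} [Finite σ] (φ : MvPolynomial σ A →ₐ[A] B)
    (hφ : Function.Surjective φ) : PCMap φ.toRingHom :=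
  (PCHom.of_flat A B).pcMap φ hφ

/-- A flat finitely presented algebra is `FPInf` over any polynomial ring surjecting onto it. -/
theorem fpInf_of_flat {A B : Type u} [CommRing A] [CommRing B] [Algebra A B] [Module.Flat A B]
    [Algebra.FinitePresentation A B] {σ : Type} [Finite σ] [Algebra (MvPolynomial σ A) B]
    [IsScalarTower A (MvPolynomial σ A) B]
    (h : Function.Surjective (algebraMap (MvPolynomial σ A) B)) : FPInf (MvPolynomial σ A) B := by
  have h1 := pcMap_of_flat (IsScalarTower.toAlgHom A (MvPolynomial σ A) B) h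
  exact pcMap_algebraMap_iff.1 h1

/-- Stacks 0697 -/
theorem pcHom_quotient_iff_of_pcHom {A B : Type u} [CommRing A] [CommRing B] [Algebra A B]
    (hAB : PCHom A B) (I : Ideal B) : PCHom A (B ⧸ I) ↔ FPInf B I := by
  obtain ⟨n, φ, hφ, h⟩ := hAB
  rw [PCHom.iff_pcMap ((Ideal.Quotient.mkₐ A I).comp φ)
    ((Ideal.Quotient.mkₐ_surjective A I).comp hφ)]
  have h1 : ((Ideal.Quotient.mkₐ A I).comp φ).toRingHom = (algebraMap B (B ⧸ I)).comp φ.toRingHom := rfl
  rw [h1, h.comp_iff, pcMap_algebraMap_iff, FPInf.quotient_iff]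

end Groth.Agent.Flat2H
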