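import Mathlib.Algebra.Homology.HomotopyCategory.ShortExact
import Mathlib.Algebra.Homology.HomotopyCategory.HomologicalFunctor
import Mathlib.Algebra.Homology.Linear
import Mathlib.Algebra.Homology.SingleHomology
import Mathlib.Algebra.Homology.DerivedCategory.Fractions
import Mathlib.Algebra.Homology.DerivedCategory.TStructure
import Mathlib.Algebra.Homology.ShortComplex.Linear
import Mathlib.Algebra.Category.ModuleCat.Abelian
import Mathlib.RingTheory.Regular.RegularSequence
import Groth.Prelude.Def_Koszul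

/-!
# Iterated mapping cones of multiplication by ring elements (Koszul complexes), basic API
-/

set_option autoImplicit false

universe w v u

open CategoryTheory Category Limits CochainComplex CochainComplex.HomComplex CochainComplex.mappingCone

namespace Groth.Agent.Flat2H.KoszulBasic

section General

variable {A : Type w} [CommRing A] {C : Type u} [Category.{v} C] [Preadditive C] [Linear A C]
  [HasBinaryBiproducts C]

/-- The mapping cone of multiplication by `f` on `K`. -/
noncomputable abbrev cone1 (f : A) (K : CochainComplex C ℤ) : CochainComplex C ℤ :=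
  mappingCone (f • 𝟙 K)

/-- The Koszul complex of the list `l` on the complex `K` (iterated mapping cones). -/
noncomputable def kos (l : List A) (K : CochainComplex C ℤ) : CochainComplex C ℤ :=
  match l with
  | [] => K
  | f :: l => cone1 f (kos l K)

@[simp] lemma kos_nil (K : CochainComplex C ℤ) : kos ([] : List A) K = K := rfl

@[simp] lemma kos_cons (f : A) (l : List A) (K : CochainComplex C ℤ) :
    kos (f :: l) K = cone1 f (kos l K) := rfl

lemma kos_append (l m : List A) (K : CochainComplex C ℤ) :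
    kos (l ++ m) K = kos l (kos m K) := by
  induction l with
  | nil => rfl
  | cons f l ih => simp only [List.cons_append, kos_cons, ih]

/-- Functoriality of the cone of multiplication by `f`. -/
noncomputable def cone1Map (f : A) {K L : CochainComplex C ℤ} (φ : K ⟶ L) :
    cone1 f K ⟶ cone1 f L :=
  mappingCone.map (f • 𝟙 K) (f • 𝟙 L) φ φ (by simp)

@[simp] lemma cone1Map_id (f : A) (K : CochainComplex C ℤ) : cone1Map f (𝟙 K) = 𝟙 _ :=
  mappingCone.map_id _

lemma cone1Map_comp (f : A) {K L M : CochainComplex C ℤ} (φ : K ⟶ L) (ψ : L ⟶ M) :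
    cone1Map f (φ ≫ ψ) = cone1Map f φ ≫ cone1Map f ψ :=
  mappingCone.map_comp _ _ _ _ _ _ _ _ _

/-- An isomorphism of complexes induces an isomorphism on cones of multiplication by `f`. -/
noncomputable def cone1Iso (f : A) {K L : CochainComplex C ℤ} (e : K ≅ L) : cone1 f K ≅ cone1 f L where
  hom := cone1Map f e.hom
  inv := cone1Map f e.inv
  hom_inv_id := by rw [← cone1Map_comp, e.hom_inv_id, cone1Map_id]
  inv_hom_id := by rw [← cone1Map_comp, e.inv_hom_id, cone1Map_id]

/-- Functoriality of `kos l`. -/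
noncomputable def kosMap (l : List A) {K L : CochainComplex C ℤ} (φ : K ⟶ L) : kos l K ⟶ kos l L :=
  match l with
  | [] => φ
  | f :: l => cone1Map f (kosMap l φ)

@[simp] lemma kosMap_nil {K L : CochainComplex C ℤ} (φ : K ⟶ L) : kosMap ([] : List A) φ = φ := rfl

@[simp] lemma kosMap_cons (f : A) (l : List A) {K L : CochainComplex C ℤ} (φ : K ⟶ L) :
    kosMap (f :: l) φ = cone1Map f (kosMap l φ) := rfl

lemma kosMap_id (l : List A) (K : CochainComplex C ℤ) : kosMap l (𝟙 K) = 𝟙 _ := by
  induction l with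
  | nil => rfl
  | cons f l ih => rw [kosMap_cons, ih, cone1Map_id]; rfl

lemma kosMap_comp (l : List A) {K L M : CochainComplex C ℤ} (φ : K ⟶ L) (ψ : L ⟶ M) :
    kosMap l (φ ≫ ψ) = kosMap l φ ≫ kosMap l ψ := by
  induction l with
  | nil => rfl
  | cons f l ih => rw [kosMap_cons, ih, cone1Map_comp]; rfl

/-- `kos l` sends isomorphisms to isomorphisms. -/
noncomputable def kosIso (l : List A) {K L : CochainComplex C ℤ} (e : K ≅ L) : kos l K ≅ kos l L where
  hom := kosMap l e.hom
  inv := kosMap l e.inv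
  hom_inv_id := by rw [← kosMap_comp, e.hom_inv_id, kosMap_id]
  inv_hom_id := by rw [← kosMap_comp, e.inv_hom_id, kosMap_id]

/-- The comparison map exchanging the order of two iterated cones. -/
noncomputable def swapHom (x y : A) (K : CochainComplex C ℤ) :
    cone1 x (cone1 y K) ⟶ cone1 y (cone1 x K) :=
  desc (x • 𝟙 (cone1 y K))
    (descCochain (y • 𝟙 K)
      (-(inl (x • 𝟙 K)).comp (inl (y • 𝟙 (cone1 x K))) (by norm_num : (-1 : ℤ) + -1 = -2))
      ((inl (x • 𝟙 K)).comp (Cochain.ofHom (inr (y • 𝟙 (cone1 x K)))) (add_zero _)) (by norm_num))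
    (mappingCone.map (y • 𝟙 K) (y • 𝟙 (cone1 x K)) (inr (x • 𝟙 K)) (inr (x • 𝟙 K)) (by simp))
    (by
      rw [δ_descCochain _ _ _ _ 0 (by norm_num)]
      ext p
      simp [mappingCone.map, ext_from_iff _ (p+1) _ rfl, δ_comp (inl (x • 𝟙 K)) (inl (y • 𝟙 (cone1 x K))) (by norm_num : (-1 : ℤ) + -1 = -2) 0 0 (-1) (by norm_num) (by norm_num) (by norm_num), Cochain.comp_v _ _ (by norm_num : (1:ℤ) + (-1) = 0) p (p + 1) p (by lia) (by lia)])


lemma swapHom_comp (x y : A) (K : CochainComplex C ℤ) :
    swapHom x y K ≫ swapHom y x K = 𝟙 _ := by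
  ext n
  apply ext_from _ (n + 1) n rfl
  · apply ext_from _ (n + 2) (n + 1) (by lia)
    · simp [swapHom, mappingCone.map, Cochain.comp_v _ _ (by norm_num : (-1:ℤ) + (-1) = -2) (n + 2) (n + 1) n (by lia) (by lia)]
    · simp [swapHom, mappingCone.map]
  · apply ext_from _ (n + 1) n (by lia)
    · simp [swapHom, mappingCone.map]
    · simp [swapHom, mappingCone.map]


/-- multiplication by `z` on `K` is null-homotopic -/
def NullH (K : CochainComplex C ℤ) (z : A) : Prop :=
  ∃ h : Cochain K K (-1), δ (-1) 0 h = z • Cochain.ofHom (𝟙 K)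

lemma nullH_cone1_self (x : A) (K : CochainComplex C ℤ) : NullH (cone1 x K) x := by
  refine ⟨(snd (x • 𝟙 K)).comp (inl (x • 𝟙 K)) (zero_add _), ?_⟩
  rw [δ_comp (snd (x • 𝟙 K)) (inl (x • 𝟙 K)) (zero_add (-1)) 1 0 0 (by norm_num) (by norm_num) (by norm_num)]
  ext n
  apply ext_from _ (n + 1) n rfl
  · simp [Cochain.comp_v _ _ (by norm_num : (1:ℤ) + (-1) = 0) n (n + 1) n (by lia) (by lia)]
  · simp [Cochain.comp_v _ _ (by norm_num : (1:ℤ) + (-1) = 0) n (n + 1) n (by lia) (by lia)]

lemma nullH_cone1 {K : CochainComplex C ℤ} {z : A} (hK : NullH K z) (x : A) : NullH (cone1 x K) z := by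
  obtain ⟨h, hh⟩ := hK
  refine ⟨(snd (x • 𝟙 K)).comp (h.comp (Cochain.ofHom (inr (x • 𝟙 K))) (add_zero _)) (zero_add _) -
    (fst (x • 𝟙 K)).1.comp (h.comp (inl (x • 𝟙 K)) (by norm_num : (-1 : ℤ) + -1 = -2)) (by norm_num), ?_⟩
  rw [δ_sub, δ_comp (snd (x • 𝟙 K)) _ (zero_add (-1)) 1 0 0 (by norm_num) (by norm_num) (by norm_num),
    δ_comp (fst (x • 𝟙 K)).1 _ _ 2 (-1) 0 (by norm_num) (by norm_num) (by norm_num),
    δ_comp h (inl (x • 𝟙 K)) _ 0 0 (-1) (by norm_num) (by norm_num) (by norm_num)]
  ext n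
  apply ext_from _ (n + 1) n rfl
  · simp [hh, Cochain.comp_v _ _ (by norm_num : (1:ℤ) + (-1) = 0) n (n + 1) n (by lia) (by lia)]
  · simp [hh, Cochain.comp_v _ _ (by norm_num : (1:ℤ) + (-1) = 0) n (n + 1) n (by lia) (by lia)]

omit [HasBinaryBiproducts C] in
lemma NullH.zero (K : CochainComplex C ℤ) : NullH K (0 : A) := ⟨0, by simp⟩

omit [HasBinaryBiproducts C] in
lemma NullH.add {K : CochainComplex C ℤ} {z w : A} (hz : NullH K z) (hw : NullH K w) : NullH K (z + w) := by
  obtain ⟨h, hh⟩ := hz
  obtain ⟨h', hh'⟩ := hw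
  exact ⟨h + h', by rw [δ_add, hh, hh', add_smul]⟩

omit [HasBinaryBiproducts C] in
lemma NullH.mul_left {K : CochainComplex C ℤ} {z : A} (hz : NullH K z) (w : A) : NullH K (w * z) := by
  obtain ⟨h, hh⟩ := hz
  exact ⟨w • h, by rw [δ_smul, hh, smul_smul]⟩

/-- Exchanging the order of two iterated cones. -/
noncomputable def swapIso (x y : A) (K : CochainComplex C ℤ) :
    cone1 x (cone1 y K) ≅ cone1 y (cone1 x K) where
  hom := swapHom x y K
  inv := swapHom y x K
  hom_inv_id := swapHom_comp x y K
  inv_hom_id := swapHom_comp y x K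

/-- Permutation invariance of the iterated cones. -/
lemma nonempty_kosIso_of_perm {l l' : List A} (h : l.Perm l') (K : CochainComplex C ℤ) :
    Nonempty (kos l K ≅ kos l' K) := by
  induction h with
  | nil => exact ⟨Iso.refl _⟩
  | cons x _ ih => exact ih.map (fun e => cone1Iso x e)
  | swap x y l => exact ⟨swapIso _ _ _⟩
  | trans _ _ ih₁ ih₂ => exact ih₁.elim fun e₁ => ih₂.elim fun e₂ => ⟨e₁ ≪≫ e₂⟩

/-- Elements of the ideal generated by `l` act null-homotopically on `kos l K`. -/
lemma nullH_kos_of_mem (l : List A) (K : CochainComplex C ℤ) (z : A) (hz : z ∈ Ideal.ofList l) :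
    NullH (kos l K) z := by
  induction l generalizing z with
  | nil =>
    have : z = 0 := by simpa [Ideal.ofList] using hz
    subst this
    exact NullH.zero _
  | cons x l ih =>
    rw [Ideal.ofList_cons, Submodule.mem_sup] at hz
    obtain ⟨a, ha, b, hb, rfl⟩ := hz
    obtain ⟨c, rfl⟩ := Ideal.mem_span_singleton'.1 ha
    exact ((nullH_cone1_self x _).mul_left c).add (nullH_cone1 (ih b hb) x)

lemma nullH_kos {K : CochainComplex C ℤ} {z : A} (hK : NullH K z) (l : List A) : NullH (kos l K) z := by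
  induction l with
  | nil => exact hK
  | cons x l ih => exact nullH_cone1 ih x

end General

section Abelian

variable {A : Type w} [CommRing A] {C : Type u} [Category.{v} C] [Abelian C] [Linear A C]

open ComplexShape HomotopyCategory Pretriangulated

/-- The connecting morphism in the homology sequence of a mapping cone. -/
noncomputable def coneδ {K L : CochainComplex C ℤ} (φ : K ⟶ L) (i j : ℤ) (h : i + 1 = j) :
    (mappingCone φ).homology i ⟶ K.homology j :=
  (homologyFunctorFactors C (up ℤ) i).inv.app (mappingCone φ) ≫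
    (HomotopyCategory.homologyFunctor C (up ℤ) 0).homologySequenceδ (triangleh φ) i j h ≫
      (homologyFunctorFactors C (up ℤ) j).hom.app K

@[reassoc (attr := simp)]
lemma cone_w₂ {K L : CochainComplex C ℤ} (φ : K ⟶ L) (i : ℤ) :
    HomologicalComplex.homologyMap φ i ≫ HomologicalComplex.homologyMap (inr φ) i = 0 := by
  have h := (HomotopyCategory.homologyFunctor C (up ℤ) 0).homologySequence_comp (triangleh φ)
    (mappingCone_triangleh_distinguished φ) i
  have n₁ := (homologyFunctorFactors C (up ℤ) i).hom.naturality φ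
  have n₂ := (homologyFunctorFactors C (up ℤ) i).hom.naturality (inr φ)
  change (HomologicalComplex.homologyFunctor C (up ℤ) i).map φ ≫
    (HomologicalComplex.homologyFunctor C (up ℤ) i).map (inr φ) = 0
  rw [← cancel_epi ((homologyFunctorFactors C (up ℤ) i).hom.app K), comp_zero, ← reassoc_of% n₁, ← n₂]
  erw [reassoc_of% h, zero_comp]
  rfl

/-- Exactness at the homology of the target. -/
lemma cone_exact₂ {K L : CochainComplex C ℤ} (φ : K ⟶ L) (i : ℤ) :
    (ShortComplex.mk _ _ (cone_w₂ φ i)).Exact := by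
  refine ShortComplex.exact_of_iso ?_ ((HomotopyCategory.homologyFunctor C (up ℤ) 0).homologySequence_exact₂
    (triangleh φ) (mappingCone_triangleh_distinguished φ) i)
  exact ShortComplex.isoMk ((homologyFunctorFactors C (up ℤ) i).app _)
    ((homologyFunctorFactors C (up ℤ) i).app _) ((homologyFunctorFactors C (up ℤ) i).app _)
    ((homologyFunctorFactors C (up ℤ) i).hom.naturality φ).symm
    ((homologyFunctorFactors C (up ℤ) i).hom.naturality (inr φ)).symm

@[reassoc (attr := simp)]
lemma cone_w₃ {K L : CochainComplex C ℤ} (φ : K ⟶ L) (i j : ℤ) (h : i + 1 = j) :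
    HomologicalComplex.homologyMap (inr φ) i ≫ coneδ φ i j h = 0 := by
  have h := (HomotopyCategory.homologyFunctor C (up ℤ) 0).comp_homologySequenceδ (triangleh φ)
    (mappingCone_triangleh_distinguished φ) i j h
  have n₂ := (homologyFunctorFactors C (up ℤ) i).inv.naturality (inr φ)
  rw [coneδ]
  erw [reassoc_of% n₂, reassoc_of% h]
  rw [zero_comp]
  exact comp_zero (C := C)

/-- Exactness at the homology of the cone. -/
lemma cone_exact₃ {K L : CochainComplex C ℤ} (φ : K ⟶ L) (i j : ℤ) (h : i + 1 = j) :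
    (ShortComplex.mk _ _ (cone_w₃ φ i j h)).Exact := by
  refine ShortComplex.exact_of_iso ?_ ((HomotopyCategory.homologyFunctor C (up ℤ) 0).homologySequence_exact₃
    (triangleh φ) (mappingCone_triangleh_distinguished φ) i j h)
  exact ShortComplex.isoMk ((homologyFunctorFactors C (up ℤ) i).app _)
    ((homologyFunctorFactors C (up ℤ) i).app _) ((homologyFunctorFactors C (up ℤ) j).app _)
    ((homologyFunctorFactors C (up ℤ) i).hom.naturality (inr φ)).symm (Iso.hom_inv_id_app_assoc (homologyFunctorFactors C (up ℤ) i) _ _)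

@[reassoc (attr := simp)]
lemma cone_w₁ {K L : CochainComplex C ℤ} (φ : K ⟶ L) (i j : ℤ) (h : i + 1 = j) :
    coneδ φ i j h ≫ HomologicalComplex.homologyMap φ j = 0 := by
  have h := (HomotopyCategory.homologyFunctor C (up ℤ) 0).homologySequenceδ_comp (triangleh φ)
    (mappingCone_triangleh_distinguished φ) i j h
  have n₂ := (homologyFunctorFactors C (up ℤ) j).hom.naturality φ
  rw [coneδ, assoc, assoc]
  erw [← n₂, reassoc_of% h]
  rw [zero_comp]
  exact comp_zero (C := C)

/-- Exactness at the homology of the source. -/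
lemma cone_exact₁ {K L : CochainComplex C ℤ} (φ : K ⟶ L) (i j : ℤ) (h : i + 1 = j) :
    (ShortComplex.mk _ _ (cone_w₁ φ i j h)).Exact := by
  refine ShortComplex.exact_of_iso ?_ ((HomotopyCategory.homologyFunctor C (up ℤ) 0).homologySequence_exact₁
    (triangleh φ) (mappingCone_triangleh_distinguished φ) i j h)
  exact ShortComplex.isoMk ((homologyFunctorFactors C (up ℤ) i).app _)
    ((homologyFunctorFactors C (up ℤ) j).app _) ((homologyFunctorFactors C (up ℤ) j).app _)
    (Iso.hom_inv_id_app_assoc (homologyFunctorFactors C (up ℤ) i) _ _) ((homologyFunctorFactors C (up ℤ) j).hom.naturality φ).symm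

/-- The cone of `φ` is acyclic in degree `i` iff `φ` is epi on `H^i` and mono on `H^(i+1)`. -/
lemma isZero_homology_mappingCone_iff {K L : CochainComplex C ℤ} (φ : K ⟶ L) (i j : ℤ) (h : i + 1 = j) :
    IsZero ((mappingCone φ).homology i) ↔
      Epi (HomologicalComplex.homologyMap φ i) ∧ Mono (HomologicalComplex.homologyMap φ j) := by
  constructor
  · intro h0
    refine ⟨(cone_exact₂ φ i).epi_f (h0.eq_of_tgt _ _), (cone_exact₁ φ i j h).mono_g (h0.eq_of_src _ _)⟩
  · rintro ⟨h1, h2⟩
    have e1 : HomologicalComplex.homologyMap (inr φ) i = 0 := by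
      rw [← cancel_epi (HomologicalComplex.homologyMap φ i), cone_w₂, comp_zero]
    have e2 : coneδ φ i j h = 0 := by
      rw [← cancel_mono (HomologicalComplex.homologyMap φ j), cone_w₁, zero_comp]
    exact (cone_exact₃ φ i j h).isZero_of_both_zeros e1 e2

lemma homologyMap_smul {K L : CochainComplex C ℤ} (φ : K ⟶ L) (a : A) (i : ℤ) :
    HomologicalComplex.homologyMap (a • φ) i = a • HomologicalComplex.homologyMap φ i :=
  ShortComplex.homologyMap_smul ((HomologicalComplex.shortComplexFunctor C _ i).map φ) a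

lemma homologyMap_smul_id (K : CochainComplex C ℤ) (a : A) (i : ℤ) :
    HomologicalComplex.homologyMap (a • 𝟙 K) i = a • 𝟙 (K.homology i) := by
  rw [homologyMap_smul, HomologicalComplex.homologyMap_id]

/-- The cone of multiplication by `f` is acyclic in degree `i` iff `f` is epi on `H^i` and mono on
`H^(i+1)`. -/
lemma isZero_homology_cone1_iff (f : A) (K : CochainComplex C ℤ) (i j : ℤ) (h : i + 1 = j) :
    IsZero ((cone1 f K).homology i) ↔
      Epi (f • 𝟙 (K.homology i)) ∧ Mono (f • 𝟙 (K.homology j)) := by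
  rw [isZero_homology_mappingCone_iff _ i j h, homologyMap_smul_id, homologyMap_smul_id]

/-- A null-homotopy of `z` on `K` gives a retraction of `K ⟶ cone1 z K`. -/
lemma NullH.exists_retraction {K : CochainComplex C ℤ} {z : A} (hK : NullH K z) :
    ∃ r : cone1 z K ⟶ K, inr (z • 𝟙 K) ≫ r = 𝟙 K := by
  obtain ⟨h, hh⟩ := hK
  refine ⟨desc (z • 𝟙 K) h (𝟙 K) ?_, mappingCone.inr_desc _ _ _ _⟩
  rw [hh, comp_id]
  ext
  simp

lemma NullH.homologyMap_eq_zero {K : CochainComplex C ℤ} {z : A} (hK : NullH K z) (i : ℤ) :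
    z • 𝟙 (K.homology i) = 0 := by
  obtain ⟨r, hr⟩ := hK.exists_retraction
  have h1 := cone_w₂ (z • 𝟙 K) i
  have h2 : HomologicalComplex.homologyMap (inr (z • 𝟙 K)) i ≫ HomologicalComplex.homologyMap r i = 𝟙 _ := by
    rw [← HomologicalComplex.homologyMap_comp, hr, HomologicalComplex.homologyMap_id]
  rw [← homologyMap_smul_id, ← comp_id (HomologicalComplex.homologyMap (z • 𝟙 K) i), ← h2,
    reassoc_of% h1, zero_comp]

section Derived

attribute [local instance] HasDerivedCategory.standard

/-- Cones of maps of pairs which are quasi-isomorphisms. -/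
lemma quasiIso_mappingCone_map {K₁ L₁ K₂ L₂ : CochainComplex C ℤ} (φ₁ : K₁ ⟶ L₁) (φ₂ : K₂ ⟶ L₂)
    (a : K₁ ⟶ K₂) (b : L₁ ⟶ L₂) (comm : φ₁ ≫ b = a ≫ φ₂) [QuasiIso a] [QuasiIso b] :
    QuasiIso (mappingCone.map φ₁ φ₂ a b comm) := by
  have h := isIso₃_of_isIso₁₂ (DerivedCategory.Q.mapTriangle.map (mappingCone.triangleMap φ₁ φ₂ a b comm))
    (DerivedCategory.mappingCone_triangle_distinguished φ₁)
    (DerivedCategory.mappingCone_triangle_distinguished φ₂)
    (inferInstanceAs (IsIso (DerivedCategory.Q.map a))) (inferInstanceAs (IsIso (DerivedCategory.Q.map b)))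
  rw [← DerivedCategory.isIso_Q_map_iff_quasiIso]
  exact h

instance quasiIso_cone1Map (f : A) {K L : CochainComplex C ℤ} (φ : K ⟶ L) [QuasiIso φ] :
    QuasiIso (cone1Map f φ) :=
  quasiIso_mappingCone_map _ _ _ _ _

instance quasiIso_kosMap (l : List A) {K L : CochainComplex C ℤ} (φ : K ⟶ L) [QuasiIso φ] :
    QuasiIso (kosMap l φ) := by
  induction l with
  | nil => assumption
  | cons f l ih => exact quasiIso_cone1Map f _

/-- `kos l` descends to the derived category on isomorphism classes. -/
lemma nonempty_Q_kos_iso (l : List A) {K L : CochainComplex C ℤ}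
    (h : Nonempty (DerivedCategory.Q.obj K ≅ DerivedCategory.Q.obj L)) :
    Nonempty (DerivedCategory.Q.obj (kos l K) ≅ DerivedCategory.Q.obj (kos l L)) := by
  obtain ⟨e⟩ := h
  obtain ⟨X, s, hs, g, hg⟩ := DerivedCategory.right_fac e.hom
  have hg' : IsIso (DerivedCategory.Q.map g) := by
    have : DerivedCategory.Q.map g = DerivedCategory.Q.map s ≫ e.hom := by rw [hg, IsIso.hom_inv_id_assoc]
    rw [this]
    infer_instance
  rw [DerivedCategory.isIso_Q_map_iff_quasiIso] at hs hg'
  exact ⟨(asIso (DerivedCategory.Q.map (kosMap l s))).symm ≪≫ asIso (DerivedCategory.Q.map (kosMap l g))⟩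

lemma nonempty_homology_iso_of_Q_iso {K L : CochainComplex C ℤ}
    (h : Nonempty (DerivedCategory.Q.obj K ≅ DerivedCategory.Q.obj L)) (i : ℤ) :
    Nonempty (K.homology i ≅ L.homology i) := by
  obtain ⟨e⟩ := h
  exact ⟨((DerivedCategory.homologyFunctorFactors C i).app K).symm ≪≫
    (DerivedCategory.homologyFunctor C i).mapIso e ≪≫ (DerivedCategory.homologyFunctorFactors C i).app L⟩

/-- A complex whose cohomology is concentrated in degree `0` is isomorphic to `H^0[0]` in the derived
category. -/
lemma nonempty_Q_iso_single {K : CochainComplex C ℤ} (hK : ∀ i : ℤ, i ≠ 0 → IsZero (K.homology i)) :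
    Nonempty (DerivedCategory.Q.obj K ≅
      DerivedCategory.Q.obj ((CochainComplex.singleFunctor C 0).obj (K.homology 0))) := by
  have h1 : (DerivedCategory.Q.obj K).IsGE 0 := by
    rw [DerivedCategory.isGE_iff]
    intro i hi
    exact (hK i hi.ne).of_iso ((DerivedCategory.homologyFunctorFactors C i).app K)
  have h2 : (DerivedCategory.Q.obj K).IsLE 0 := by
    rw [DerivedCategory.isLE_iff]
    intro i hi
    exact (hK i hi.ne').of_iso ((DerivedCategory.homologyFunctorFactors C i).app K)
  obtain ⟨Y, ⟨e⟩⟩ := DerivedCategory.exists_iso_singleFunctor_obj_of_isGE_of_isLE (DerivedCategory.Q.obj K) 0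
  have e' : DerivedCategory.Q.obj K ≅ DerivedCategory.Q.obj ((CochainComplex.singleFunctor C 0).obj Y) :=
    e ≪≫ (DerivedCategory.singleFunctorIsoCompQ C 0).app Y
  obtain ⟨e0⟩ := nonempty_homology_iso_of_Q_iso ⟨e'⟩ 0
  have e1 : K.homology 0 ≅ Y := e0 ≪≫ HomologicalComplex.singleObjHomologySelfIso _ 0 Y
  exact ⟨e' ≪≫ DerivedCategory.Q.mapIso ((CochainComplex.singleFunctor C 0).mapIso e1.symm)⟩

end Derived

end Abelian

end Groth.Agent.Flat2H.KoszulBasic
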