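import Groth.Agent.Flat2H.LCIMaps
import Groth.Agent.Flat2H.AlgProp
import Mathlib.RingTheory.TensorProduct.MvPolynomial
import Mathlib.LinearAlgebra.TensorProduct.RightExactness
import Mathlib.RingTheory.Flat.Stability
import Mathlib.RingTheory.FiniteType
import Mathlib.RingTheory.Finiteness.Descent
import Mathlib.RingTheory.RingHom.FiniteType
import Mathlib.RingTheory.Finiteness.FiniteTypeLocal

/-!
# Local complete intersection ring maps (frozen `LCI.IsLCI`): flat base change, composition, locality
-/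

set_option autoImplicit false

universe u v

namespace Groth.Agent.Flat2H.LCIMaps2

open LCI KoszulSeq KoszulWrap KoszulIdeal LCIMaps TensorProduct

lemma flat_includeRight (A A' P : Type u) [CommRing A] [CommRing A'] [CommRing P] [Algebra A A']
    [Algebra A P] [Module.Flat A A'] :
    (Algebra.TensorProduct.includeRight : P →ₐ[A] A' ⊗[A] P).toRingHom.Flat := by
  let := (Algebra.TensorProduct.includeRight : P →ₐ[A] A' ⊗[A] P).toRingHom.toAlgebra
  change Module.Flat P (A' ⊗[A] P)
  let e : P ⊗[A] A' ≃ₗ[P] A' ⊗[A] P :=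
    { TensorProduct.comm A P A' with
      map_smul' := fun p x => by
        induction x with
        | zero => simp
        | add x y hx hy =>
          simp only [smul_add, AddHom.toFun_eq_coe, map_add] at hx hy ⊢
          rw [hx, hy]
        | tmul q a =>
          change (TensorProduct.comm A P A') ((p * q) ⊗ₜ[A] a) = (1 ⊗ₜ[A] p) * (a ⊗ₜ[A] q)
          simp }
  exact Module.Flat.of_linearEquiv e.symm

/-- Flat base change. -/
theorem IsLCI.baseChange {A B A' B' : Type u} [CommRing A] [CommRing B] [CommRing A'] [CommRing B']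
    [Algebra A B] [Algebra A A'] [Algebra B B'] [Algebra A' B'] [Algebra A B']
    [IsScalarTower A A' B'] [IsScalarTower A B B'] [Algebra.IsPushout A A' B B']
    [Module.Flat A A'] (h : IsLCI A B) : IsLCI A' B' := by
  obtain ⟨-, n, φ, hφ, hk⟩ := h
  let P := MvPolynomial (Fin n) A
  let φ' : A' ⊗[A] P →ₐ[A'] A' ⊗[A] B := Algebra.TensorProduct.map (AlgHom.id A' A') φ
  have hφ' : Function.Surjective φ' := Algebra.TensorProduct.map_surjective _ _
    Function.surjective_id hφ
  let e : A' ⊗[A] B ≃ₐ[A'] B' := Algebra.IsPushout.equiv A A' B B'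
  have hker : RingHom.ker φ'.toRingHom =
      (RingHom.ker φ.toRingHom).map (Algebra.TensorProduct.includeRight : P →ₐ[A] A' ⊗[A] P) :=
    Algebra.TensorProduct.lTensor_ker φ hφ
  let := (Algebra.TensorProduct.includeRight : P →ₐ[A] A' ⊗[A] P).toRingHom.toAlgebra
  have : Module.Flat P (A' ⊗[A] P) := flat_includeRight A A' P
  refine isLCI_of_kerK_of_equiv (MvPolynomial.algebraTensorAlgEquiv A A' (σ := Fin n))
    (e.toAlgHom.comp φ') (e.surjective.comp hφ') ?_
  have h2 : KerK φ'.toRingHom := by
    unfold KerK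
    rw [hker]
    exact IsKoszulRegularIdeal.map (B := A' ⊗[A] P) hk
  exact (kerK_equiv_comp_iff φ'.toRingHom e.toRingEquiv).2 h2

/-- Composition. -/
theorem IsLCI.trans {A B C : Type u} [CommRing A] [CommRing B] [CommRing C] [Algebra A B]
    [Algebra B C] [Algebra A C] [IsScalarTower A B C] (hAB : IsLCI A B) (hBC : IsLCI B C) :
    IsLCI A C := by
  obtain ⟨-, n, φ, hφ, hk⟩ := hAB
  obtain ⟨-, m, ψ, hψ, hk'⟩ := hBC
  -- the presentation `A[x][y] → B[y] → C`
  let π : MvPolynomial (Fin m) (MvPolynomial (Fin n) A) →+* MvPolynomial (Fin m) B :=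
    MvPolynomial.map φ.toRingHom
  have hπ : Function.Surjective π := MvPolynomial.map_surjective _ hφ
  have hker : RingHom.ker π = (RingHom.ker φ.toRingHom).map
      (algebraMap (MvPolynomial (Fin n) A) (MvPolynomial (Fin m) (MvPolynomial (Fin n) A))) :=
    MvPolynomial.ker_map _
  have h1 : IsKoszulRegularIdeal (RingHom.ker π) := by
    rw [hker]
    exact IsKoszulRegularIdeal.map hk
  have h2 : IsKoszulRegularIdeal ((RingHom.ker ψ.toRingHom).comap π) :=
    IsKoszulRegularIdeal.comap π hπ h1 hk'
  rw [RingHom.comap_ker] at h2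
  let χ : MvPolynomial (Fin m) (MvPolynomial (Fin n) A) →ₐ[A] C :=
    { ψ.toRingHom.comp π with
      commutes' := fun a => by
        have h3 : algebraMap A (MvPolynomial (Fin m) (MvPolynomial (Fin n) A)) a =
          MvPolynomial.C (MvPolynomial.C a) := rfl
        rw [h3]
        simp [π, ← IsScalarTower.algebraMap_apply] }
  exact isLCI_of_kerK_of_equiv (MvPolynomial.sumAlgEquiv A (Fin m) (Fin n)).symm χ
    (hψ.comp hπ) h2

/-- `IsLCI A B_b` in terms of a presentation `φ : P → B` and a lift `h` of `b`. -/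
theorem isLCI_away_iff {A B Bb P P' : Type u} [CommRing A] [CommRing B] [CommRing Bb] [CommRing P]
    [CommRing P'] [Algebra A B] [Algebra B Bb] [Algebra A Bb] [IsScalarTower A B Bb] [Algebra A P]
    [Algebra P P'] {n : ℕ} (e : P ≃ₐ[A] MvPolynomial (Fin n) A) (φ : P →ₐ[A] B)
    (h : P) [IsLocalization.Away h P']
    (φ' : P' →+* Bb) (hφ' : Function.Surjective φ')
    (hc : φ'.comp (algebraMap P P') = (algebraMap B Bb).comp φ.toRingHom) :
    IsLCI A Bb ↔ KerK φ' := by
  rw [← kerK_away_iff (P := P) h φ']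
  let χ : Polynomial P →ₐ[A] Bb :=
    { Polynomial.eval₂RingHom (φ'.comp (algebraMap P P')) (φ' (IsLocalization.Away.invSelf h)) with
      commutes' := fun a => by
        have h3 : algebraMap A (Polynomial P) a = Polynomial.C (algebraMap A P a) := rfl
        rw [h3, hc]
        simp [← IsScalarTower.algebraMap_apply] }
  have hχ : Function.Surjective χ := by
    have h1 : (Polynomial.eval₂RingHom (φ'.comp (algebraMap P P'))
        (φ' (IsLocalization.Away.invSelf h))) =
        φ'.comp (Polynomial.eval₂RingHom (algebraMap P P') (IsLocalization.Away.invSelf h)) := by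
      ext <;> simp
    intro x
    obtain ⟨y, rfl⟩ := (hφ'.comp (exists_surj_away (P' := P') h).1) x
    exact ⟨y, DFunLike.congr_fun h1 y⟩
  let E : Polynomial P ≃ₐ[A] MvPolynomial (Fin (n + 1)) A :=
    (Polynomial.mapAlgEquiv e).trans (MvPolynomial.finSuccEquiv A n).symm
  exact ⟨fun H => IsLCI.kerK_of_equiv H E χ hχ, fun H => isLCI_of_kerK_of_equiv E χ hχ H⟩

/-- Localization on the target. -/
theorem IsLCI.away_target {A B Bb : Type u} [CommRing A] [CommRing B] [CommRing Bb] [Algebra A B]
    [Algebra B Bb] [Algebra A Bb] [IsScalarTower A B Bb] (b : B) [IsLocalization.Away b Bb]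
    (h : IsLCI A B) : IsLCI A Bb := by
  obtain ⟨-, n, φ, hφ, hk⟩ := h
  obtain ⟨h, rfl⟩ := hφ b
  obtain ⟨π', hπ', hker, hc⟩ := exists_awayMap φ.toRingHom hφ h
  let e : Localization.Away (φ.toRingHom h) ≃ₐ[B] Bb :=
    IsLocalization.algEquiv (Submonoid.powers (φ.toRingHom h)) _ _
  refine (isLCI_away_iff (P' := Localization.Away h) AlgEquiv.refl φ h
    ((e : _ →+* Bb).comp π') (e.surjective.comp hπ') ?_).2 ?_
  · rw [RingHom.comp_assoc, hc, ← RingHom.comp_assoc]
    congr 1
    ext x
    simp
  · refine (kerK_equiv_comp_iff π' e.toRingEquiv).2 ?_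
    unfold KerK
    rw [hker]
    exact IsKoszulRegularIdeal.map hk

theorem isLCI_self (A : Type u) [CommRing A] : IsLCI A A := by
  refine isLCI_of_kerK_of_equiv (MvPolynomial.isEmptyAlgEquiv A (Fin 0)).symm (AlgHom.id A A)
    Function.surjective_id ?_
  have : RingHom.ker (AlgHom.id A A).toRingHom = ⊥ :=
    (RingHom.injective_iff_ker_eq_bot _).1 Function.injective_id
  unfold KerK
  rw [this]
  refine GenK.isKoszulRegularIdeal ⟨[], ?_, by simp⟩
  rw [isKoszulRegularSeq_iff]
  exact fun i hi => isZero_base_homology i hi.ne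

theorem IsLCI.away_source {A Aa B : Type u} [CommRing A] [CommRing B] [CommRing Aa] [Algebra A Aa]
    [Algebra Aa B] [Algebra A B] [IsScalarTower A Aa B] (a : A) [IsLocalization.Away a Aa]
    (h : IsLCI Aa B) : IsLCI A B :=
  IsLCI.trans (IsLCI.away_target (B := A) a (isLCI_self A)) h

/-- Zariski gluing on the target. -/
theorem isLCI_of_span {A B : Type u} [CommRing A] [CommRing B] [Algebra A B] (s : Set B)
    (hs : Ideal.span s = ⊤) (h : ∀ b ∈ s, IsLCI A (Localization.Away b)) : IsLCI A B := by
  have hft : Algebra.FiniteType A B :=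
    Algebra.FiniteType.of_span_eq_top_target s hs (fun b hb => (h b hb).1)
  obtain ⟨n, φ, hφ⟩ := Algebra.FiniteType.iff_quotient_mvPolynomial''.1 hft
  refine ⟨hft, n, φ, hφ, ?_⟩
  refine isKoszulRegularIdeal_of_span
    (RingHom.ker φ.toRingHom ∪ φ.toRingHom ⁻¹' s : Set (MvPolynomial (Fin n) A)) ?_ ?_
  · set K := Ideal.span (RingHom.ker φ.toRingHom ∪ φ.toRingHom ⁻¹' s : Set (MvPolynomial (Fin n) A))
    have h1 : RingHom.ker φ.toRingHom ≤ K := fun x hx => Ideal.subset_span (Or.inl hx)
    have h2 : K.map φ.toRingHom = ⊤ := by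
      rw [← top_le_iff, ← hs, Ideal.span_le]
      intro b hb
      obtain ⟨g, rfl⟩ := hφ b
      exact Ideal.mem_map_of_mem φ.toRingHom (Ideal.subset_span (Or.inr hb))
    have h3 : K = (K.map φ.toRingHom).comap φ.toRingHom := by
      rw [Ideal.comap_map_of_surjective φ.toRingHom hφ]
      exact (sup_eq_left.2 (by rwa [RingHom.ker_eq_comap_bot] at h1)).symm
    rw [h3, h2, Ideal.comap_top]
  · rintro g (hg | hg)
    · have : (RingHom.ker φ.toRingHom).map (algebraMap _ (Localization.Away g)) = ⊤ :=
        Ideal.eq_top_of_isUnit_mem _ (Ideal.mem_map_of_mem _ hg)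
          (IsLocalization.Away.algebraMap_isUnit g)
      rw [this]
      exact genK_top.isKoszulRegularIdeal
    · obtain ⟨π', hπ', hker, hc⟩ := exists_awayMap φ.toRingHom hφ g
      rw [← hker]
      exact (isLCI_away_iff AlgEquiv.refl φ g π' hπ' hc).1 (h _ hg)

theorem isLocal_isLCI : AlgProp.IsLocal.{u} (fun A B => IsLCI A B) where
  away_target b _ h := IsLCI.away_target b h
  away_source a _ h := IsLCI.away_source a h
  away_base {A B A' B'} _ _ _ _ _ _ _ _ _ _ _ _ a _ h := by
    have : Module.Flat A A' := IsLocalization.flat A' (Submonoid.powers a)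
    exact IsLCI.baseChange (A := A) (A' := A') (B := B) (B' := B') h
  span_target s hs h := isLCI_of_span s hs h

end Groth.Agent.Flat2H.LCIMaps2
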