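import Groth.Agent.Flat2H.FibreRank
import Groth.Agent.Flat2H.LCIMaps2

/-!
# Faithfully flat descent of Koszul-regular ideals
-/

set_option autoImplicit false

universe u

namespace Groth.Agent.Flat2H.KoszulDescent

open LCI KoszulSeq KoszulWrap KoszulIdeal FibreRank TensorProduct

section

variable {A B : Type u} [CommRing A] [CommRing B]

/-- Around `p`, a finitely generated ideal is generated by `mu I κ(p)` elements. -/
lemma exists_generators {I : Ideal A} (hI : I.FG) (p : Ideal A) [p.IsPrime] :
    ∃ (f : Fin (mu I p.ResidueField) → A) (a : A), (∀ i, f i ∈ I) ∧ a ∉ p ∧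
      ∀ x ∈ I, a * x ∈ Ideal.span (Set.range f) := by
  have : Module.Finite A I := Module.Finite.iff_fg.2 hI
  let K := p.ResidueField
  let S : Set (K ⊗[A] I) := Set.range (fun x : I => (1 : K) ⊗ₜ[A] x)
  have hS : ⊤ ≤ Submodule.span K S := by
    rintro x -
    induction x with
    | zero => exact zero_mem _
    | add x y hx hy => exact add_mem hx hy
    | tmul k x =>
      have : k ⊗ₜ[A] x = k • ((1 : K) ⊗ₜ[A] x) := by rw [TensorProduct.smul_tmul', smul_eq_mul, mul_one]
      rw [this]
      exact Submodule.smul_mem _ _ (Submodule.subset_span ⟨x, rfl⟩)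
  let b := Module.Basis.ofSpan hS
  let b' := b.reindex (Finite.equivFinOfCardEq (n := mu I K) (by
    rw [mu, Module.finrank_eq_nat_card_basis b]))
  have hb' : ∀ i, b' i ∈ S := fun i => Module.Basis.ofSpan_subset hS (by
    rw [Module.Basis.reindex_apply]; exact Set.mem_range_self _)
  choose x hx using hb'
  let N : Submodule A I := Submodule.span A (Set.range x)
  let M := I ⧸ N
  have hM : Subsingleton (K ⊗[A] M) := by
    rw [subsingleton_iff_forall_eq 0]
    intro y
    obtain ⟨y, rfl⟩ := LinearMap.lTensor_surjective K N.mkQ_surjective y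
    have hy : y ∈ Submodule.span K (Set.range b') := by rw [b'.span_eq]; trivial
    change N.mkQ.baseChange K y = 0
    rw [← LinearMap.mem_ker]
    refine (Submodule.span_le.2 ?_ : Submodule.span K (Set.range b') ≤ _) hy
    rintro _ ⟨i, rfl⟩
    rw [SetLike.mem_coe, LinearMap.mem_ker, ← hx, LinearMap.baseChange_tmul, Submodule.mkQ_apply,
      (Submodule.Quotient.mk_eq_zero N).2 (Submodule.subset_span (Set.mem_range_self i)),
      TensorProduct.tmul_zero]
  have hs : (⟨p, ‹_›⟩ : PrimeSpectrum A) ∉ Module.support A M := by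
    rw [Module.mem_support_iff_nontrivial_residueField_tensorProduct, not_nontrivial_iff_subsingleton]
    exact hM
  rw [Module.mem_support_iff_of_finite] at hs
  obtain ⟨a, ha, hap⟩ := Set.not_subset.1 hs
  refine ⟨fun i => x i, a, fun i => (x i).2, hap, fun y hy => ?_⟩
  have h1 : a • (N.mkQ ⟨y, hy⟩) = 0 := Module.mem_annihilator.1 ha _
  rw [← map_smul, Submodule.mkQ_apply, Submodule.Quotient.mk_eq_zero] at h1
  have h2 := Submodule.mem_map_of_mem (f := I.subtype) h1
  rw [Submodule.map_span, ← Set.range_comp] at h2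
  exact h2

/-- a Koszul-regular ideal is finitely generated. -/
lemma IsKoszulRegularIdeal.fg {J : Ideal A} (h : IsKoszulRegularIdeal J) : J.FG := by
  refine Ideal.fg_of_localizationSpan
    {g : A | (J.map (algebraMap A (Localization.Away g))).FG} ?_ fun g => g.2
  by_contra hne
  obtain ⟨m, hm, hle⟩ := Ideal.exists_le_maximal _ hne
  have := hm.isPrime
  obtain ⟨g, hg, hT⟩ := IsKoszulRegularIdeal.exists_genK h m
  refine hg (hle (Ideal.subset_span ?_))
  obtain ⟨l, -, hl⟩ := hT (Localization.Away g) (IsLocalization.Away.algebraMap_isUnit g)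
  rw [Set.mem_ofPred_eq, hl]
  classical exact ⟨l.toFinset, by simp [Ideal.ofList]⟩

/-- Fibre ranks and flat base change. -/
lemma mu_comap [Algebra A B] [Module.Flat A B] (I : Ideal A) (q : Ideal B) [q.IsPrime] :
    mu I (q.comap (algebraMap A B)).ResidueField = mu (I.map (algebraMap A B)) q.ResidueField := by
  rw [mu_map]
  refine (mu_eq_of_ker I q.ResidueField (q.comap (algebraMap A B)) ?_).symm
  ext x
  rw [RingHom.mem_ker, IsScalarTower.algebraMap_apply A B q.ResidueField,
    Ideal.algebraMap_residueField_eq_zero, Ideal.mem_comap]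

lemma isOpen_le_mu_of_faithfullyFlat [Algebra A B] [Module.FaithfullyFlat A B] {I : Ideal A}
    (h : IsKoszulRegularIdeal (I.map (algebraMap A B))) (r : ℕ) :
    IsOpen {p : PrimeSpectrum A | I ≤ p.asIdeal → r ≤ mu I p.asIdeal.ResidueField} := by
  have hq : Topology.IsQuotientMap (PrimeSpectrum.comap (algebraMap A B)) :=
    PrimeSpectrum.isQuotientMap_of_generalizingMap PrimeSpectrum.comap_surjective_of_faithfullyFlat
      (RingHom.Flat.generalizingMap_comap ((RingHom.flat_algebraMap_iff).2 inferInstance))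
  rw [← hq.isOpen_preimage]
  convert isOpen_le_mu h r using 1
  ext q
  have h1 : mu I (PrimeSpectrum.comap (algebraMap A B) q).asIdeal.ResidueField =
    mu (I.map (algebraMap A B)) q.asIdeal.ResidueField := mu_comap I q.asIdeal
  have h2 : I ≤ (PrimeSpectrum.comap (algebraMap A B) q).asIdeal ↔
    I.map (algebraMap A B) ≤ q.asIdeal := Ideal.map_le_iff_le_comap.symm
  simp only [Set.mem_preimage, Set.mem_ofPred_eq, h1, h2]

lemma exists_list_of_isUnit {J : Ideal B} (g : B) {l : List (Localization.Away g)}
    (hl : IsKoszulRegularSeq (Localization.Away g) l)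
    (hJ : J.map (algebraMap B (Localization.Away g)) = Ideal.ofList l) (T : Type u) [CommRing T]
    [Algebra B T] [Module.Flat B T] (hg : IsUnit (algebraMap B T g)) :
    ∃ m : List T, m.length = l.length ∧ IsKoszulRegularSeq T m ∧
      J.map (algebraMap B T) = Ideal.ofList m := by
  let φ : Localization.Away g →+* T := IsLocalization.Away.lift g hg
  let := φ.toAlgebra
  have hφ : φ.comp (algebraMap B (Localization.Away g)) = algebraMap B T :=
    IsLocalization.Away.lift_comp g hg
  have : IsScalarTower B (Localization.Away g) T := IsScalarTower.of_algebraMap_eq' hφ.symm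
  have : Module.Flat (Localization.Away g) T :=
    (Module.flat_iff_of_isLocalization (Localization.Away g) (Submonoid.powers g) T).2
      inferInstance
  refine ⟨l.map (algebraMap (Localization.Away g) T), by simp, isKoszulRegularSeq_map hl, ?_⟩
  rw [← Ideal.map_ofList, ← hJ, Ideal.map_map, ← IsScalarTower.algebraMap_eq]

/-- Faithfully flat descent of Koszul-regular ideals. -/
theorem IsKoszulRegularIdeal.of_faithfullyFlat [Algebra A B] [Module.FaithfullyFlat A B]
    {I : Ideal A} (h : IsKoszulRegularIdeal (I.map (algebraMap A B))) : IsKoszulRegularIdeal I := by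
  have hfg : I.FG := Ideal.FG.of_FG_map_of_faithfullyFlat (IsKoszulRegularIdeal.fg h)
  rw [isKoszulRegularIdeal_iff]
  intro p hp hI
  obtain ⟨f, a, hf, ha, haf⟩ := exists_generators hfg p
  obtain ⟨_, ⟨b, rfl⟩, hbp, hbW⟩ := PrimeSpectrum.isTopologicalBasis_basic_opens.isOpen_iff.1
    (isOpen_le_mu_of_faithfullyFlat h (mu I p.ResidueField)) ⟨p, hp⟩ (fun _ => le_rfl)
  let Ag := Localization.Away (a * b)
  let C := Ag ⊗[A] B
  have hab : IsUnit (algebraMap A Ag (a * b)) := IsLocalization.Away.algebraMap_isUnit (a * b)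
  let l : List Ag := List.ofFn (fun i => algebraMap A Ag (f i))
  have hIl : I.map (algebraMap A Ag) = Ideal.ofList l := by
    apply le_antisymm
    · rw [Ideal.map_le_iff_le_comap]
      intro x hx
      have h1 := Ideal.mem_map_of_mem (algebraMap A Ag) (haf x hx)
      rw [Ideal.map_span, ← Set.range_comp] at h1
      have h2 : Ideal.span (Set.range (⇑(algebraMap A Ag) ∘ f)) = Ideal.ofList l := by
        rw [Ideal.ofList]
        congr 1
        ext y
        simp [l]
      rw [h2, map_mul] at h1
      have h3 : IsUnit (algebraMap A Ag a) := isUnit_of_mul_isUnit_left (by rwa [map_mul] at hab)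
      rw [Ideal.mem_comap]
      exact (Ideal.unit_mul_mem_iff_mem _ h3).1 h1
    · refine Ideal.span_le.2 fun y hy => ?_
      obtain ⟨i, rfl⟩ := (List.mem_ofFn' _ _).1 hy
      exact Ideal.mem_map_of_mem _ (hf i)
  refine ⟨a * b, ?_, l, ?_, hIl⟩
  · rw [hp.mul_mem_iff_mem_or_mem, not_or]
    exact ⟨ha, hbp⟩
  refine isKoszulRegularSeq_of_map (B := C) (isKoszulRegularSeq_of_localization fun Q hQ hlQ => ?_)
  let := (Algebra.TensorProduct.includeRight : B →ₐ[A] C).toRingHom.toAlgebra
  have : Module.Flat B C := LCIMaps2.flat_includeRight A Ag B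
  have : IsScalarTower A B C := IsScalarTower.of_algebraMap_eq' (by
    exact (Algebra.TensorProduct.includeRight : B →ₐ[A] C).comp_algebraMap.symm)
  have : Module.Flat B (Localization.AtPrime Q) := Module.Flat.trans B C _
  have hIQ : I ≤ (Q.comap (algebraMap B C)).comap (algebraMap A B) := by
    rw [← Ideal.map_ofList, ← hIl, Ideal.map_map, ← IsScalarTower.algebraMap_eq,
      Ideal.map_le_iff_le_comap, IsScalarTower.algebraMap_eq A B C, ← Ideal.comap_comap] at hlQ
    exact hlQ
  have hbQ : b ∉ (Q.comap (algebraMap B C)).comap (algebraMap A B) := by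
    intro hb
    rw [Ideal.comap_comap, ← IsScalarTower.algebraMap_eq, Ideal.mem_comap,
      IsScalarTower.algebraMap_apply A Ag C] at hb
    have h3 : IsUnit (algebraMap A Ag b) := isUnit_of_mul_isUnit_right (by rwa [map_mul] at hab)
    exact hQ.ne_top (Ideal.eq_top_of_isUnit_mem _ hb (h3.map _))
  have hr : mu I p.ResidueField ≤ mu (I.map (algebraMap A B)) (Q.comap (algebraMap B C)).ResidueField := by
    rw [← mu_comap]
    exact hbW (a := ⟨(Q.comap (algebraMap B C)).comap (algebraMap A B), inferInstance⟩) hbQ hIQ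
  obtain ⟨g, hg, l', hl', hJl'⟩ := isKoszulRegularIdeal_iff.1 h (Q.comap (algebraMap B C))
    inferInstance (Ideal.map_le_iff_le_comap.2 hIQ)
  rw [mu_eq_length g hl' hJl' _ hg (Ideal.map_le_iff_le_comap.2 hIQ)] at hr
  obtain ⟨m, hm, hmr, hmI⟩ := exists_list_of_isUnit g hl' hJl' (Localization.AtPrime Q) (by
    rw [IsScalarTower.algebraMap_apply B C]
    exact IsLocalization.map_units _ (⟨algebraMap B C g, hg⟩ : Q.primeCompl))
  refine isKoszulRegularSeq_of_ofList_eq hmr ?_ ?_
  · rw [← hmI, ← Ideal.map_ofList, ← Ideal.map_ofList, ← hIl, Ideal.map_map, Ideal.map_map,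
      Ideal.map_map, ← IsScalarTower.algebraMap_eq, ← IsScalarTower.algebraMap_eq,
      ← IsScalarTower.algebraMap_eq]
  · rw [hm]
    simpa [l] using hr

end

lemma faithfullyFlat_includeRight (A A' P : Type u) [CommRing A] [CommRing A'] [CommRing P]
    [Algebra A A'] [Algebra A P] [Module.FaithfullyFlat A A'] :
    (Algebra.TensorProduct.includeRight : P →ₐ[A] A' ⊗[A] P).toRingHom.FaithfullyFlat := by
  let := (Algebra.TensorProduct.includeRight : P →ₐ[A] A' ⊗[A] P).toRingHom.toAlgebra
  change Module.FaithfullyFlat P (A' ⊗[A] P)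
  let e : P ⊗[A] A' ≃ₗ[P] A' ⊗[A] P :=
    { TensorProduct.comm A P A' with
      map_smul' := fun p x => by
        induction x with
        | zero => simp
        | add x y hx hy =>
          simp only [smul_add, AddHom.toFun_eq_coe, map_add] at hx hy ⊢
          rw [hx, hy]
        | tmul q a =>
          change (TensorProduct.comm A P A') ((p * q) ⊗ₜ[A] a) = (1 ⊗ₜ[A] p) * (a ⊗ₜ[A] q)
          simp }
  exact Module.FaithfullyFlat.of_linearEquiv P (P ⊗[A] A') e.symm

/-- Faithfully flat descent of the lci property. -/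
theorem IsLCI.of_faithfullyFlat {A B A' B' : Type u} [CommRing A] [CommRing B] [CommRing A']
    [CommRing B'] [Algebra A B] [Algebra A A'] [Algebra B B'] [Algebra A' B'] [Algebra A B']
    [IsScalarTower A A' B'] [IsScalarTower A B B'] [Algebra.IsPushout A A' B B']
    [Module.FaithfullyFlat A A'] (h : IsLCI A' B') : IsLCI A B := by
  let e : A' ⊗[A] B ≃ₐ[A'] B' := Algebra.IsPushout.equiv A A' B B'
  have hft : Algebra.FiniteType A B := by
    have h1 : Algebra.FiniteType A' B' := h.1
    have : Algebra.FiniteType A' (A' ⊗[A] B) := h1.equiv e.symm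
    exact Algebra.FiniteType.of_finiteType_tensorProduct_of_faithfullyFlat A'
  obtain ⟨n, φ, hφ⟩ := Algebra.FiniteType.iff_quotient_mvPolynomial''.1 hft
  refine ⟨hft, n, φ, hφ, ?_⟩
  let P := MvPolynomial (Fin n) A
  let φ' : A' ⊗[A] P →ₐ[A'] A' ⊗[A] B := Algebra.TensorProduct.map (AlgHom.id A' A') φ
  have hφ' : Function.Surjective φ' := Algebra.TensorProduct.map_surjective _ _
    Function.surjective_id hφ
  have hker : RingHom.ker φ'.toRingHom =
      (RingHom.ker φ.toRingHom).map (Algebra.TensorProduct.includeRight : P →ₐ[A] A' ⊗[A] P) :=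
    Algebra.TensorProduct.lTensor_ker φ hφ
  let := (Algebra.TensorProduct.includeRight : P →ₐ[A] A' ⊗[A] P).toRingHom.toAlgebra
  have : Module.FaithfullyFlat P (A' ⊗[A] P) := faithfullyFlat_includeRight A A' P
  have h2 : LCIMaps.KerK ((e.toAlgHom.comp φ').toRingHom) :=
    LCIMaps.IsLCI.kerK_of_equiv h (MvPolynomial.algebraTensorAlgEquiv A A' (σ := Fin n))
      (e.toAlgHom.comp φ') (e.surjective.comp hφ')
  have h3 : LCIMaps.KerK φ'.toRingHom := (LCIMaps.kerK_equiv_comp_iff φ'.toRingHom e.toRingEquiv).1 h2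
  unfold LCIMaps.KerK at h3
  rw [hker] at h3
  exact IsKoszulRegularIdeal.of_faithfullyFlat (B := A' ⊗[A] P) h3

end Groth.Agent.Flat2H.KoszulDescent
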