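import Groth.Agent.Etbase.FlatStageModule
import Mathlib.RingTheory.Extension.Presentation.Core
import Mathlib.RingTheory.IsTensorProduct
import Mathlib.RingTheory.TensorProduct.Quotient
import Mathlib.LinearAlgebra.TensorProduct.Prod
import Mathlib.RingTheory.FiniteType

/-!
# Noetherian models of pairs `(P, I)` with `P` and `P / I` flat of finite presentation
-/

set_option autoImplicit false
universe u

open TensorProduct

namespace Groth.Agent.Flat2H.PairModel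

section Stage

variable (R₀ A P₀ P : Type u) [CommRing R₀] [CommRing A] [CommRing P₀] [CommRing P] [Algebra R₀ A] [Algebra R₀ P₀]
  [Algebra A P] [Algebra P₀ P] [Algebra R₀ P] [IsScalarTower R₀ A P] [IsScalarTower R₀ P₀ P]

/-- Base change of a model to an intermediate ring. -/
theorem exists_stage [Algebra.IsPushout R₀ A P₀ P] (R₁ : Type u) [CommRing R₁] [Algebra R₀ R₁] [Algebra R₁ A]
    [IsScalarTower R₀ R₁ A] :
    ∃ (P₁ : Type u) (_ : CommRing P₁) (_ : Algebra R₁ P₁) (_ : Algebra P₀ P₁) (_ : Algebra R₀ P₁)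
      (_ : IsScalarTower R₀ R₁ P₁) (_ : IsScalarTower R₀ P₀ P₁) (_ : Algebra P₁ P) (_ : Algebra R₁ P)
      (_ : IsScalarTower R₁ A P) (_ : IsScalarTower R₁ P₁ P) (_ : IsScalarTower P₀ P₁ P),
      Algebra.IsPushout R₀ R₁ P₀ P₁ ∧ Algebra.IsPushout R₁ A P₁ P := by
  let _ : Algebra R₁ P := ((algebraMap A P).comp (algebraMap R₁ A)).toAlgebra
  have : IsScalarTower R₁ A P := IsScalarTower.of_algebraMap_eq' rfl
  have : IsScalarTower R₀ R₁ P := IsScalarTower.of_algebraMap_eq' (by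
    rw [IsScalarTower.algebraMap_eq R₁ A P, RingHom.comp_assoc, ← IsScalarTower.algebraMap_eq R₀ R₁ A,
      ← IsScalarTower.algebraMap_eq R₀ A P])
  let _ : Algebra P₀ (R₁ ⊗[R₀] P₀) := Algebra.TensorProduct.rightAlgebra
  let χ : R₁ ⊗[R₀] P₀ →ₐ[R₁] P := Algebra.TensorProduct.lift (Algebra.ofId R₁ P)
    (IsScalarTower.toAlgHom R₀ P₀ P) (fun _ _ => Commute.all _ _)
  let _ : Algebra (R₁ ⊗[R₀] P₀) P := χ.toRingHom.toAlgebra
  have h1 : IsScalarTower R₁ (R₁ ⊗[R₀] P₀) P :=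
    IsScalarTower.of_algebraMap_eq (R := R₁) (S := R₁ ⊗[R₀] P₀) (A := P) fun a => (χ.commutes a).symm
  have h2 : IsScalarTower P₀ (R₁ ⊗[R₀] P₀) P :=
    IsScalarTower.of_algebraMap_eq (R := P₀) (S := R₁ ⊗[R₀] P₀) (A := P) fun x => by
    change _ = χ ((1 : R₁) ⊗ₜ[R₀] x)
    rw [Algebra.TensorProduct.lift_tmul, map_one, one_mul]
    rfl
  have h3 : IsScalarTower R₀ (R₁ ⊗[R₀] P₀) P :=
    IsScalarTower.of_algebraMap_eq (R := R₀) (S := R₁ ⊗[R₀] P₀) (A := P) fun a =>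
      ((χ.restrictScalars R₀).commutes a).symm
  refine ⟨R₁ ⊗[R₀] P₀, inferInstance, inferInstance, inferInstance, inferInstance, inferInstance, inferInstance,
    inferInstance, inferInstance, inferInstance, h1, h2, inferInstance, ?_⟩
  exact (Algebra.IsPushout.comp_iff (R := R₀) (S := R₁) (R' := P₀) (S' := R₁ ⊗[R₀] P₀) (T := A) (T' := P)).1
    inferInstance

variable {R₀ A P₀ P}

/-- every element of `P` is defined at a finite stage. -/
theorem exists_finset [h : Algebra.IsPushout R₀ A P₀ P] (x : P) :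
    ∃ s : Finset A, ∀ (R₁ P₁ : Type u) [CommRing R₁] [CommRing P₁] [Algebra R₁ A] [Algebra R₁ P₁] [Algebra P₀ P₁]
      [Algebra P₁ P] [Algebra R₁ P] [IsScalarTower R₁ A P] [IsScalarTower R₁ P₁ P] [IsScalarTower P₀ P₁ P],
      (∀ a ∈ s, a ∈ Set.range (algebraMap R₁ A)) → x ∈ Set.range (algebraMap P₁ P) := by
  classical
  refine h.1.inductionOn x (motive := fun x => ∃ s : Finset A, ∀ (R₁ P₁ : Type u) [CommRing R₁] [CommRing P₁]
      [Algebra R₁ A] [Algebra R₁ P₁] [Algebra P₀ P₁]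
      [Algebra P₁ P] [Algebra R₁ P] [IsScalarTower R₁ A P] [IsScalarTower R₁ P₁ P] [IsScalarTower P₀ P₁ P],
      (∀ a ∈ s, a ∈ Set.range (algebraMap R₁ A)) → x ∈ Set.range (algebraMap P₁ P)) ?_ ?_ ?_ ?_
  · refine ⟨∅, fun R₁ P₁ _ _ _ _ _ _ _ _ _ _ _ => ⟨0, map_zero _⟩⟩
  · intro p
    refine ⟨∅, fun R₁ P₁ _ _ _ _ _ _ _ _ _ _ _ => ⟨algebraMap P₀ P₁ p, ?_⟩⟩
    exact (IsScalarTower.algebraMap_apply P₀ P₁ P p).symm
  · rintro a x ⟨s, hs⟩
    refine ⟨insert a s, fun R₁ P₁ _ _ _ _ _ _ _ _ _ _ h => ?_⟩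
    obtain ⟨r, hr⟩ := h a (Finset.mem_insert_self _ _)
    obtain ⟨y, hy⟩ := hs R₁ P₁ (fun b hb => h b (Finset.mem_insert_of_mem hb))
    refine ⟨algebraMap R₁ P₁ r * y, ?_⟩
    rw [map_mul, hy, ← IsScalarTower.algebraMap_apply R₁ P₁ P, IsScalarTower.algebraMap_apply R₁ A P, hr,
      Algebra.smul_def]
  · rintro x y ⟨s, hs⟩ ⟨t, ht⟩
    refine ⟨s ∪ t, fun R₁ P₁ _ _ _ _ _ _ _ _ _ _ h => ?_⟩
    obtain ⟨x', hx'⟩ := hs R₁ P₁ (fun b hb => h b (Finset.mem_union_left _ hb))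
    obtain ⟨y', hy'⟩ := ht R₁ P₁ (fun b hb => h b (Finset.mem_union_right _ hb))
    exact ⟨x' + y', by rw [map_add, hx', hy']⟩

theorem flat_quotient_iff [Algebra.IsPushout R₀ A P₀ P] (I₀ : Ideal P₀) :
    Module.Flat A (A ⊗[R₀] (P₀ ⧸ I₀)) ↔ Module.Flat A (P ⧸ I₀.map (algebraMap P₀ P)) := by
  let e1 : P ⊗[P₀] (P₀ ⧸ I₀) ≃ₗ[A] A ⊗[R₀] (P₀ ⧸ I₀) := Algebra.IsPushout.cancelBaseChange R₀ A P₀ P (P₀ ⧸ I₀)
  let e2 : (P ⧸ I₀.map (algebraMap P₀ P)) ≃ₗ[A] P ⊗[P₀] (P₀ ⧸ I₀) :=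
    (Algebra.TensorProduct.quotIdealMapEquivTensorQuot P I₀).toLinearEquiv.restrictScalars A
  exact ⟨fun h => Module.Flat.of_linearEquiv (e2.trans e1), fun h => Module.Flat.of_linearEquiv (e2.trans e1).symm⟩

end Stage

section Model

variable {A P : Type u} [CommRing A] [CommRing P] [Algebra A P]

theorem exists_model₀ [Algebra.FinitePresentation A P] :
    ∃ (R₀ P₀ : Type u) (_ : CommRing R₀) (_ : CommRing P₀) (_ : Algebra R₀ A) (_ : Algebra R₀ P₀) (_ : Algebra P₀ P)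
      (_ : Algebra R₀ P) (_ : IsScalarTower R₀ A P) (_ : IsScalarTower R₀ P₀ P),
      Algebra.IsPushout R₀ A P₀ P ∧ IsNoetherianRing R₀ ∧ Algebra.FinitePresentation R₀ P₀ := by
  let Pr := Algebra.Presentation.ofFinitePresentation A P
  let χ : Pr.ModelOfHasCoeffs Pr.Core →ₐ[Pr.Core] P :=
    ((Pr.tensorModelOfHasCoeffsEquiv Pr.Core).toAlgHom.restrictScalars Pr.Core).comp
      (Algebra.TensorProduct.includeRight : Pr.ModelOfHasCoeffs Pr.Core →ₐ[Pr.Core] A ⊗[Pr.Core] _)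
  let _ : Algebra (Pr.ModelOfHasCoeffs Pr.Core) P := χ.toRingHom.toAlgebra
  have h1 : IsScalarTower Pr.Core (Pr.ModelOfHasCoeffs Pr.Core) P :=
    IsScalarTower.of_algebraMap_eq (R := Pr.Core) (S := Pr.ModelOfHasCoeffs Pr.Core) (A := P) fun a =>
      (χ.commutes a).symm
  refine ⟨Pr.Core, Pr.ModelOfHasCoeffs Pr.Core, inferInstance, inferInstance, inferInstance, inferInstance,
    inferInstance, inferInstance, inferInstance, h1, ?_, Algebra.FiniteType.isNoetherianRing ℤ _, inferInstance⟩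
  refine ⟨IsBaseChange.of_equiv (Pr.tensorModelOfHasCoeffsEquiv Pr.Core).toLinearEquiv fun x => ?_⟩
  rfl

theorem exists_adjoin (R₀ : Type u) {A : Type u} [CommRing R₀] [CommRing A] [Algebra R₀ A] (s : Finset A) :
    ∃ (R₁ : Type u) (_ : CommRing R₁) (_ : Algebra R₀ R₁) (_ : Algebra R₁ A) (_ : IsScalarTower R₀ R₁ A),
      Algebra.FiniteType R₀ R₁ ∧ ∀ a ∈ s, a ∈ Set.range (algebraMap R₁ A) :=
  ⟨Algebra.adjoin R₀ (s : Set A), inferInstance, inferInstance, inferInstance, inferInstance,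
    .adjoin_of_finite (Finset.finite_toSet _), fun a ha => ⟨⟨a, Algebra.subset_adjoin ha⟩, rfl⟩⟩

theorem exists_flat_stage' {A₀ A : Type u} [CommRing A₀] [CommRing A] [Algebra A₀ A]
    (S₀ M₀ : Type u) [CommRing S₀] [Algebra A₀ S₀] [Algebra.FinitePresentation A₀ S₀]
    [AddCommGroup M₀] [Module A₀ M₀] [Module S₀ M₀] [IsScalarTower A₀ S₀ M₀]
    [Module.FinitePresentation S₀ M₀] [Module.Flat A (A ⊗[A₀] M₀)] :
    ∃ (A₁ : Type u) (_ : CommRing A₁) (_ : Algebra A₀ A₁) (_ : Algebra A₁ A) (_ : IsScalarTower A₀ A₁ A),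
      Algebra.FiniteType A₀ A₁ ∧ Module.Flat A₁ (A₁ ⊗[A₀] M₀) := by
  obtain ⟨s, hs⟩ := Etbase.FlatStageModule.exists_flat_stage (A₀ := A₀) (A := A) S₀ M₀
  exact ⟨Algebra.adjoin A₀ (s : Set A), inferInstance, inferInstance, inferInstance, inferInstance,
    .adjoin_of_finite (Finset.finite_toSet _), hs⟩

/-- A pair `(P, I)` with `P` of finite presentation over `A`, `P` and `P / I` flat over `A` and `I` finitely generated has
a model over a Noetherian ring. -/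
theorem exists_model [Algebra.FinitePresentation A P] [Module.Flat A P] (I : Ideal P) (hI : I.FG)
    [Module.Flat A (P ⧸ I)] :
    ∃ (R₀ P₀ : Type u) (_ : CommRing R₀) (_ : CommRing P₀) (_ : Algebra R₀ A) (_ : Algebra R₀ P₀) (_ : Algebra P₀ P)
      (_ : Algebra R₀ P) (_ : IsScalarTower R₀ A P) (_ : IsScalarTower R₀ P₀ P) (I₀ : Ideal P₀),
      Algebra.IsPushout R₀ A P₀ P ∧ IsNoetherianRing R₀ ∧ Algebra.FinitePresentation R₀ P₀ ∧
      Module.Flat R₀ P₀ ∧ Module.Flat R₀ (P₀ ⧸ I₀) ∧ I = I₀.map (algebraMap P₀ P) := by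
  classical
  obtain ⟨R₀, P₀, _, _, _, _, _, _, _, _, hpo, hN, hfp⟩ := exists_model₀ (A := A) (P := P)
  obtain ⟨T, hT⟩ := hI
  choose s hs using exists_finset (R₀ := R₀) (A := A) (P₀ := P₀) (P := P)
  obtain ⟨R₁, _, _, _, _, hft₁, hR₁⟩ := exists_adjoin R₀ (T.biUnion s)
  have hN₁ : IsNoetherianRing R₁ := Algebra.FiniteType.isNoetherianRing R₀ R₁
  obtain ⟨P₁, _, _, _, _, _, _, _, _, _, _, _, hpo₁, hpo₁'⟩ := exists_stage R₀ A P₀ P R₁
  have hfp₁ : Algebra.FinitePresentation R₁ P₁ :=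
    Algebra.FinitePresentation.equiv (Algebra.IsPushout.equiv R₀ R₁ P₀ P₁)
  have hNP₁ : IsNoetherianRing P₁ := Algebra.FiniteType.isNoetherianRing R₁ P₁
  have hrange : ∀ t ∈ T, t ∈ Set.range (algebraMap P₁ P) := fun t ht =>
    hs t R₁ P₁ fun a ha => hR₁ a (Finset.mem_biUnion.2 ⟨t, ht, ha⟩)
  let I₁ : Ideal P₁ := Ideal.span ((algebraMap P₁ P) ⁻¹' (T : Set P))
  have hI₁ : I₁.map (algebraMap P₁ P) = I := by
    rw [Ideal.map_span, Set.image_preimage_eq_of_subset (fun t ht => hrange t ht), ← hT]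
  have hfl1 : Module.Flat A (A ⊗[R₁] P₁) :=
    Module.Flat.of_linearEquiv (Algebra.IsPushout.equiv R₁ A P₁ P).toLinearEquiv
  have hfl2 : Module.Flat A (A ⊗[R₁] (P₁ ⧸ I₁)) := by
    rw [flat_quotient_iff (R₀ := R₁) (A := A) (P₀ := P₁) (P := P) I₁, hI₁]
    infer_instance
  have hfl3 : Module.Flat A (A ⊗[R₁] (P₁ × (P₁ ⧸ I₁))) := by
    have := Etbase.FlatStageModule.flat_prod A (A ⊗[R₁] P₁) (A ⊗[R₁] (P₁ ⧸ I₁))
    exact Module.Flat.of_linearEquiv (TensorProduct.prodRight R₁ A A P₁ (P₁ ⧸ I₁))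
  have hMfp : Module.FinitePresentation P₁ (P₁ × (P₁ ⧸ I₁)) := Module.finitePresentation_of_finite _ _
  obtain ⟨R₂, _, _, _, _, hft₂, hs₂⟩ := exists_flat_stage' (A₀ := R₁) (A := A) P₁ (P₁ × (P₁ ⧸ I₁))
  have hN₂ : IsNoetherianRing R₂ := Algebra.FiniteType.isNoetherianRing R₁ R₂
  obtain ⟨P₂, _, _, _, _, _, _, _, _, _, _, _, hpo₂, hpo₂'⟩ := exists_stage R₁ A P₁ P R₂
  have hfp₂ : Algebra.FinitePresentation R₂ P₂ :=
    Algebra.FinitePresentation.equiv (Algebra.IsPushout.equiv R₁ R₂ P₁ P₂)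
  have hfl4 : Module.Flat R₂ ((R₂ ⊗[R₁] P₁) × (R₂ ⊗[R₁] (P₁ ⧸ I₁))) :=
    Module.Flat.of_linearEquiv (TensorProduct.prodRight R₁ R₂ R₂ P₁ (P₁ ⧸ I₁)).symm
  have hfl5 : Module.Flat R₂ (R₂ ⊗[R₁] P₁) := Etbase.FlatStageModule.flat_prod_left (N := R₂ ⊗[R₁] (P₁ ⧸ I₁))
  have hfl6 : Module.Flat R₂ (R₂ ⊗[R₁] (P₁ ⧸ I₁)) := Etbase.FlatStageModule.flat_prod_right (M := R₂ ⊗[R₁] P₁)
  refine ⟨R₂, P₂, inferInstance, inferInstance, inferInstance, inferInstance, inferInstance, inferInstance,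
    inferInstance, inferInstance, I₁.map (algebraMap P₁ P₂), hpo₂', hN₂, hfp₂, ?_, ?_, ?_⟩
  · exact Module.Flat.of_linearEquiv (Algebra.IsPushout.equiv R₁ R₂ P₁ P₂).symm.toLinearEquiv
  · exact (flat_quotient_iff (R₀ := R₁) (A := R₂) (P₀ := P₁) (P := P₂) I₁).1 hfl6
  · rw [Ideal.map_map, ← IsScalarTower.algebraMap_eq P₁ P₂ P, hI₁]

end Model

end Groth.Agent.Flat2H.PairModel
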