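import Groth.Agent.Flat2H.FibreKoszul
import Groth.Agent.Flat2H.PairModel
import Groth.Agent.Models.KoszulBC2
import Groth.Agent.Ega4C.FibreTower

/-!
# Koszul-regularity of `I ⊂ P` with `P`, `P / I` flat of finite presentation over `A`, and base change in `A`
-/

set_option autoImplicit false
universe u

open TensorProduct

namespace Groth.Agent.Flat2H.KoszulFibre

open Groth.Agent.Flat2H.KoszulIdeal

theorem awayMap_algebraMap {P P' : Type u} [CommRing P] [CommRing P'] (f : P →+* P') (g x : P) :
    Localization.awayMap f g (algebraMap P _ x) = algebraMap P' _ (f x) := by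
  simp [Localization.awayMap, IsLocalization.Away.map]

section Up

variable {A A' P P' : Type u} [CommRing A] [CommRing A'] [CommRing P] [CommRing P'] [Algebra A A'] [Algebra A P]
  [Algebra A P'] [Algebra A' P'] [Algebra P P'] [IsScalarTower A A' P'] [IsScalarTower A P P']

theorem flat_quotient_localization (I : Ideal P) [Module.Flat A (P ⧸ I)] (g : P) :
    Module.Flat A (Localization.Away g ⧸ I.map (algebraMap P (Localization.Away g))) := by
  have : IsLocalization (Algebra.algebraMapSubmonoid (P ⧸ I) (Submonoid.powers g))
    (Localization.Away g ⧸ (I.map (algebraMap P (Localization.Away g)))) := inferInstance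
  have : Module.Flat (P ⧸ I) (Localization.Away g ⧸ (I.map (algebraMap P (Localization.Away g)))) :=
    IsLocalization.flat _ (Algebra.algebraMapSubmonoid (P ⧸ I) (Submonoid.powers g))
  have : IsScalarTower A (P ⧸ I) (Localization.Away g ⧸ (I.map (algebraMap P (Localization.Away g)))) :=
    IsScalarTower.of_algebraMap_eq fun _ => rfl
  exact Module.Flat.trans A (P ⧸ I) _

/-- Base change of Koszul-regularity for a global generating sequence. -/
theorem genK_map [Algebra.IsPushout A A' P P'] [Module.Flat A P] (I : Ideal P) [Module.Flat A (P ⧸ I)]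
    (h : GenK I) : GenK (I.map (algebraMap P P')) := by
  obtain ⟨l, hl, rfl⟩ := h
  exact ⟨_, Models.KoszulBC2.isKoszulRegularSeq_map A A' l hl, Ideal.map_ofList _ _⟩

include A A' in
/-- Base change of Koszul-regularity near a point. -/
theorem genK_baseChange [h : Algebra.IsPushout A A' P P'] [Module.Flat A P] (I : Ideal P) [Module.Flat A (P ⧸ I)]
    (g : P) (hg : GenK (I.map (algebraMap P (Localization.Away g)))) :
    GenK ((I.map (algebraMap P P')).map (algebraMap P' (Localization.Away (algebraMap P P' g)))) := by
  let _ : Algebra (Localization.Away g) (Localization.Away (algebraMap P P' g)) :=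
    (Localization.awayMap (algebraMap P P') g).toAlgebra
  have h1 : IsScalarTower P (Localization.Away g) (Localization.Away (algebraMap P P' g)) :=
    IsScalarTower.of_algebraMap_eq (R := P) (S := Localization.Away g) (A := Localization.Away (algebraMap P P' g))
      fun x => (IsScalarTower.algebraMap_apply P P' (Localization.Away (algebraMap P P' g)) x).trans
        (awayMap_algebraMap (algebraMap P P') g x).symm
  have h2 : IsScalarTower A (Localization.Away g) (Localization.Away (algebraMap P P' g)) :=
    IsScalarTower.to₁₃₄ A P _ _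
  have h3 : IsLocalization (Algebra.algebraMapSubmonoid P' (Submonoid.powers g))
      (Localization.Away (algebraMap P P' g)) := by
    rw [Algebra.algebraMapSubmonoid_powers]
    infer_instance
  have h4 : Algebra.IsPushout P P' (Localization.Away g) (Localization.Away (algebraMap P P' g)) :=
    Algebra.isPushout_of_isLocalization (Submonoid.powers g) _ _ _
  have h5 : Algebra.IsPushout A P A' P' := h.symm
  have h6 : Algebra.IsPushout A (Localization.Away g) A' (Localization.Away (algebraMap P P' g)) :=
    (Algebra.IsPushout.comp_iff (R := A) (S := P) (R' := A') (S' := P') (T := Localization.Away g)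
      (T' := Localization.Away (algebraMap P P' g))).2 h4.symm
  have h7 : Algebra.IsPushout A A' (Localization.Away g) (Localization.Away (algebraMap P P' g)) := h6.symm
  have h8 : Module.Flat A (Localization.Away g) := Module.Flat.trans A P _
  have h9 := flat_quotient_localization (A := A) I g
  have h10 := genK_map (A := A) (A' := A') (P := Localization.Away g) (P' := Localization.Away (algebraMap P P' g)) _ hg
  rw [Ideal.map_map, ← IsScalarTower.algebraMap_eq] at h10
  rw [Ideal.map_map, ← IsScalarTower.algebraMap_eq]
  exact h10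

end Up

section Down

variable {A A' P P' : Type u} [CommRing A] [CommRing A'] [CommRing P] [CommRing P'] [Algebra A A'] [Algebra A P]
  [Algebra A P'] [Algebra A' P'] [Algebra P P'] [IsScalarTower A A' P'] [IsScalarTower A P P']

theorem exists_genK_of_field {k P'' : Type u} [Field k] [CommRing P''] [Algebra A k] [Algebra k P''] [Algebra A P'']
    [Algebra P P''] [IsScalarTower A k P''] [IsScalarTower A P P''] [hpo : Algebra.IsPushout A k P P'']
    [Algebra.FinitePresentation A P]
    [Module.Flat A P] (I : Ideal P) (hI : I.FG) [Module.Flat A (P ⧸ I)] (q : Ideal P'') [q.IsPrime] (g'' : P'')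
    (hg'' : g'' ∉ q) (h : GenK ((I.map (algebraMap P P'')).map (algebraMap P'' (Localization.Away g'')))) :
    ∃ g : P, g ∉ q.comap (algebraMap P P'') ∧ GenK (I.map (algebraMap P (Localization.Away g))) := by
  obtain ⟨R₀, P₀, _, _, _, _, _, _, _, _, I₀, hpo₀, hN₀, hfp₀, hfl₀, hflI₀, rfl⟩ :=
    PairModel.exists_model (A := A) (P := P) I hI
  let _ : Algebra R₀ k := ((algebraMap A k).comp (algebraMap R₀ A)).toAlgebra
  have : IsScalarTower R₀ A k := IsScalarTower.of_algebraMap_eq' rfl
  let _ : Algebra P₀ P'' := ((algebraMap P P'').comp (algebraMap P₀ P)).toAlgebra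
  have : IsScalarTower P₀ P P'' := IsScalarTower.of_algebraMap_eq' rfl
  let _ : Algebra R₀ P'' := ((algebraMap A P'').comp (algebraMap R₀ A)).toAlgebra
  have : IsScalarTower R₀ A P'' := IsScalarTower.of_algebraMap_eq' rfl
  have : IsScalarTower R₀ k P'' := IsScalarTower.of_algebraMap_eq (R := R₀) (S := k) (A := P'') fun x => by
    rw [IsScalarTower.algebraMap_apply R₀ A k, ← IsScalarTower.algebraMap_apply A k P'',
      ← IsScalarTower.algebraMap_apply R₀ A P'']
  have : IsScalarTower R₀ P P'' := IsScalarTower.of_algebraMap_eq (R := R₀) (S := P) (A := P'') fun x => by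
    rw [IsScalarTower.algebraMap_apply R₀ A P, ← IsScalarTower.algebraMap_apply A P P'',
      ← IsScalarTower.algebraMap_apply R₀ A P'']
  have : IsScalarTower R₀ P₀ P'' := IsScalarTower.of_algebraMap_eq (R := R₀) (S := P₀) (A := P'') fun x => by
    rw [IsScalarTower.algebraMap_apply P₀ P P'', ← IsScalarTower.algebraMap_apply R₀ P₀ P,
      ← IsScalarTower.algebraMap_apply R₀ P P'']
  have hpo₁ : Algebra.IsPushout R₀ k P₀ P'' :=
    (Algebra.IsPushout.comp_iff (R := R₀) (S := A) (R' := P₀) (S' := P) (T := k) (T' := P'')).2 hpo
  obtain ⟨g, hg, h1⟩ := FibreKoszul.genK_of_field (A := R₀) (P := P₀) I₀ (k := k) (P' := P'') q g'' hg'' (by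
    rw [IsScalarTower.algebraMap_eq P₀ P P'', ← Ideal.map_map]
    exact h)
  refine ⟨algebraMap P₀ P g, ?_, genK_baseChange (A := R₀) (A' := A) (P := P₀) (P' := P) I₀ g h1⟩
  intro h2
  rw [Ideal.mem_comap, ← IsScalarTower.algebraMap_apply] at h2
  exact hg h2

/-- **Descent of Koszul-regularity along arbitrary base change** for `I ⊂ P` with `P`, `P / I` flat of finite
presentation over `A`. -/
theorem exists_genK_of_baseChange [hpo : Algebra.IsPushout A A' P P'] [Algebra.FinitePresentation A P]
    [Module.Flat A P] (I : Ideal P) (hI : I.FG) [Module.Flat A (P ⧸ I)] (r : Ideal P') [r.IsPrime] (g' : P')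
    (hg' : g' ∉ r) (h : GenK ((I.map (algebraMap P P')).map (algebraMap P' (Localization.Away g')))) :
    ∃ g : P, g ∉ r.comap (algebraMap P P') ∧ GenK (I.map (algebraMap P (Localization.Away g))) := by
  let s : Ideal A' := r.comap (algebraMap A' P')
  obtain ⟨q, hq, hqr⟩ := Ega4C.FibreTower.exists_prime_fibre s r rfl
  -- the fibre
  let _ : Algebra P' (s.Fiber P') := Algebra.TensorProduct.rightAlgebra
  have hqr' : q.comap (algebraMap P' (s.Fiber P')) = r := hqr
  have hflP' : Module.Flat A' P' := Module.Flat.isBaseChange A A' P P' hpo.out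
  have hflI' : Module.Flat A' (P' ⧸ I.map (algebraMap P P')) := by
    rw [← PairModel.flat_quotient_iff (R₀ := A) (A := A') (P₀ := P) (P := P') I]
    infer_instance
  have h1 := genK_baseChange (A := A') (A' := s.ResidueField) (P := P') (P' := s.Fiber P')
    (I.map (algebraMap P P')) g' h
  have hg'' : algebraMap P' (s.Fiber P') g' ∉ q := fun hm => hg' (hqr' ▸ hm)
  -- the composite algebra structures
  let _ : Algebra P (s.Fiber P') := ((algebraMap P' (s.Fiber P')).comp (algebraMap P P')).toAlgebra
  have : IsScalarTower P P' (s.Fiber P') := IsScalarTower.of_algebraMap_eq' rfl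
  have : IsScalarTower A A' (s.Fiber P') := inferInstance
  have : IsScalarTower A s.ResidueField (s.Fiber P') := inferInstance
  have : IsScalarTower A P' (s.Fiber P') :=
    IsScalarTower.of_algebraMap_eq (R := A) (S := P') (A := s.Fiber P') fun x => by
      rw [IsScalarTower.algebraMap_apply A A' P', ← IsScalarTower.algebraMap_apply A' P' (s.Fiber P'),
        ← IsScalarTower.algebraMap_apply A A' (s.Fiber P')]
  have : IsScalarTower A P (s.Fiber P') :=
    IsScalarTower.of_algebraMap_eq (R := A) (S := P) (A := s.Fiber P') fun x => by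
      rw [IsScalarTower.algebraMap_apply P P' (s.Fiber P'), ← IsScalarTower.algebraMap_apply A P P',
        ← IsScalarTower.algebraMap_apply A P' (s.Fiber P')]
  have hpo' : Algebra.IsPushout A s.ResidueField P (s.Fiber P') :=
    (Algebra.IsPushout.comp_iff (R := A) (S := A') (R' := P) (S' := P') (T := s.ResidueField) (T' := s.Fiber P')).2
      inferInstance
  obtain ⟨g, hg, h2⟩ := exists_genK_of_field (A := A) (P := P) (k := s.ResidueField) (P'' := s.Fiber P') I hI q
    (algebraMap P' (s.Fiber P') g') hg'' (by
      rw [IsScalarTower.algebraMap_eq P P' (s.Fiber P'), ← Ideal.map_map]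
      exact h1)
  refine ⟨g, fun h3 => hg ?_, h2⟩
  rw [← hqr', Ideal.comap_comap, ← IsScalarTower.algebraMap_eq] at h3
  exact h3

end Down

end Groth.Agent.Flat2H.KoszulFibre
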