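import Groth.Prelude.Def_LCI2
import Mathlib.Algebra.Homology.ShortComplex.Linear
import Mathlib.Algebra.Homology.HomotopyCategory.HomologicalFunctor

/-!
# Iterated cones of multiplication maps (the frozen Koszul complex): permutation invariance,
# annihilation of the homology, change of generators of the same length.
-/

set_option autoImplicit false

universe u v w

open CategoryTheory CategoryTheory.Limits

namespace Groth.Agent.Flat2H.KoszulGen

open CochainComplex HomComplex

section Cone

variable {A : Type w} [CommRing A]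
variable {C : Type u} [Category.{v} C] [Preadditive C] [Linear A C] [HasBinaryBiproducts C]

/-- multiplication by `f` is null-homotopic on the cone of multiplication by `f`. -/
noncomputable def homotopyCone (f : A) (K : CochainComplex C ℤ) :
    Homotopy (f • 𝟙 (mappingCone (f • 𝟙 K))) 0 :=
  (Cochain.equivHomotopy _ _).symm
    ⟨(mappingCone.snd (f • 𝟙 K)).comp (mappingCone.inl (f • 𝟙 K)) (zero_add (-1)), by
      rw [δ_comp (mappingCone.snd (f • 𝟙 K)) (mappingCone.inl (f • 𝟙 K)) (zero_add (-1)) 1 0 0
        (by lia) (by lia) (by lia)]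
      simp only [mappingCone.δ_inl, mappingCone.δ_snd]
      ext p
      simp
      rw [← mappingCone.id_X (f • 𝟙 K) p (p+1) rfl]
      simp [Cochain.comp_v _ _ (show (1 : ℤ) + -1 = 0 by lia) p (p+1) p rfl (by lia)]
      exact add_comm _ _⟩

/-- The swap map of iterated cones. -/
noncomputable def swapHom (f g : A) (K : CochainComplex C ℤ) :
    mappingCone (f • 𝟙 (mappingCone (g • 𝟙 K))) ⟶ mappingCone (g • 𝟙 (mappingCone (f • 𝟙 K))) :=
  mappingCone.desc (f • 𝟙 (mappingCone (g • 𝟙 K)))
    (mappingCone.descCochain (g • 𝟙 K) (-((mappingCone.inl (f • 𝟙 K)).comp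
        (mappingCone.inl (g • 𝟙 (mappingCone (f • 𝟙 K)))) (show (-1 : ℤ) + -1 = -2 by lia)))
      ((mappingCone.inl (f • 𝟙 K)).comp
        (Cochain.ofHom (mappingCone.inr (g • 𝟙 (mappingCone (f • 𝟙 K))))) (add_zero (-1)))
      (show (-2 : ℤ) + 1 = -1 by lia))
    (mappingCone.map (g • 𝟙 K) (g • 𝟙 (mappingCone (f • 𝟙 K))) (mappingCone.inr _)
      (mappingCone.inr _) (by simp))
    (by
      rw [mappingCone.δ_descCochain _ _ _ _ 0 (by lia),
        mappingCone.ext_cochain_from_iff _ (-1) 0 (by lia)]
      constructor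
      · simp
        rw [δ_comp (mappingCone.inl (f • 𝟙 K)) (mappingCone.inl (g • 𝟙 (mappingCone (f • 𝟙 K))))
          _ 0 0 (-1) (by lia) (by lia) (by lia)]
        ext p q hpq
        simp [mappingCone.map]
      · simp
        ext p
        simp [mappingCone.map])

lemma swapHom_comp_swapHom (f g : A) (K : CochainComplex C ℤ) :
    swapHom f g K ≫ swapHom g f K = 𝟙 _ := by
  ext n
  rw [mappingCone.ext_from_iff _ (n+1) n rfl]
  constructor
  · rw [mappingCone.ext_from_iff _ (n+1+1) (n+1) rfl]
    constructor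
    · simp [swapHom, mappingCone.map,
        Cochain.comp_v _ _ (show (-1 : ℤ) + -1 = -2 by lia) (n+1+1) (n+1) n (by lia) (by lia)]
    · simp [swapHom, mappingCone.map]
  · rw [mappingCone.ext_from_iff _ (n+1) (n) rfl]
    simp [swapHom, mappingCone.map]

/-- The swap isomorphism of iterated cones. -/
noncomputable def swapIso (f g : A) (K : CochainComplex C ℤ) :
    mappingCone (f • 𝟙 (mappingCone (g • 𝟙 K))) ≅ mappingCone (g • 𝟙 (mappingCone (f • 𝟙 K))) where
  hom := swapHom f g K
  inv := swapHom g f K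
  hom_inv_id := swapHom_comp_swapHom f g K
  inv_hom_id := swapHom_comp_swapHom g f K

/-- functoriality of the cone of multiplication by `f` for isomorphisms. -/
noncomputable def coneIso (f : A) {K L : CochainComplex C ℤ} (e : K ≅ L) :
    mappingCone (f • 𝟙 K) ≅ mappingCone (f • 𝟙 L) where
  hom := mappingCone.map _ _ e.hom e.hom (by simp)
  inv := mappingCone.map _ _ e.inv e.inv (by simp)
  hom_inv_id := by
    rw [← mappingCone.map_comp]
    simp [mappingCone.map_id]
  inv_hom_id := by
    rw [← mappingCone.map_comp]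
    simp [mappingCone.map_id]

/-- iterated cones of the multiplications by the elements of a list. -/
noncomputable def kos : List A → CochainComplex C ℤ → CochainComplex C ℤ
  | [], K => K
  | f :: l, K => mappingCone (f • 𝟙 (kos l K))

@[simp] lemma kos_nil (K : CochainComplex C ℤ) : kos ([] : List A) K = K := rfl

lemma kos_cons (f : A) (l : List A) (K : CochainComplex C ℤ) :
    kos (f :: l) K = mappingCone (f • 𝟙 (kos l K)) := rfl

lemma kos_append (l l' : List A) (K : CochainComplex C ℤ) : kos (l ++ l') K = kos l (kos l' K) := by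
  induction l with
  | nil => rfl
  | cons f l ih => rw [List.cons_append, kos_cons, kos_cons, ih]

/-- `kos` only depends on the list up to permutation. -/
lemma kos_perm {l l' : List A} (h : l.Perm l') (K : CochainComplex C ℤ) :
    Nonempty (kos l K ≅ kos l' K) := by
  induction h with
  | nil => exact ⟨Iso.refl _⟩
  | cons f _ ih =>
    obtain ⟨e⟩ := ih
    exact ⟨coneIso f e⟩
  | swap f g l => exact ⟨swapIso g f _⟩
  | trans _ _ ih₁ ih₂ =>
    obtain ⟨e₁⟩ := ih₁
    obtain ⟨e₂⟩ := ih₂
    exact ⟨e₁ ≪≫ e₂⟩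

lemma kos_congr (l : List A) {K L : CochainComplex C ℤ} (e : K ≅ L) :
    Nonempty (kos l K ≅ kos l L) := by
  induction l with
  | nil => exact ⟨e⟩
  | cons f l ih =>
    obtain ⟨e⟩ := ih
    exact ⟨coneIso f e⟩

end Cone

section Homology

variable {A : Type w} [CommRing A]
variable {C : Type u} [Category.{v} C] [Abelian C] [Linear A C]

lemma homologyMap_smul_id (f : A) (K : CochainComplex C ℤ) (n : ℤ) :
    HomologicalComplex.homologyMap (f • 𝟙 K) n = f • 𝟙 (K.homology n) := by
  rw [← HomologicalComplex.homologyMap_id]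
  exact ShortComplex.homologyMap_smul
    ((HomologicalComplex.shortComplexFunctor C (ComplexShape.up ℤ) n).map (𝟙 K)) f

lemma exact_transport {X₁ X₂ X₃ Y₁ Y₂ Y₃ : C} {f : X₁ ⟶ X₂} {g : X₂ ⟶ X₃} {zero : f ≫ g = 0}
    (hex : (ShortComplex.mk f g zero).Exact) (i₁ : X₁ ≅ Y₁) (i₂ : X₂ ≅ Y₂) (i₃ : X₃ ≅ Y₃)
    {f' : Y₁ ⟶ Y₂} {g' : Y₂ ⟶ Y₃} (c₁ : f ≫ i₂.hom = i₁.hom ≫ f') (c₂ : g ≫ i₃.hom = i₂.hom ≫ g') :
    ∃ h : f' ≫ g' = 0, (ShortComplex.mk f' g' h).Exact := by
  have h : f' ≫ g' = 0 := by
    rw [← cancel_epi i₁.hom, comp_zero, ← Category.assoc, ← c₁, Category.assoc, ← c₂,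
      ← Category.assoc, zero, zero_comp]
  exact ⟨h, ShortComplex.exact_of_iso (ShortComplex.isoMk i₁ i₂ i₃ c₁.symm c₂.symm) hex⟩

open HomotopyCategory in
/-- The long exact homology sequence of a mapping cone. -/
lemma exists_les {K L : CochainComplex C ℤ} (φ : K ⟶ L) (n m : ℤ) (h : n + 1 = m) :
    ∃ δ : (mappingCone φ).homology n ⟶ K.homology m,
      (∃ (h₁ : HomologicalComplex.homologyMap φ n ≫
          HomologicalComplex.homologyMap (mappingCone.inr φ) n = 0),
        (ShortComplex.mk _ _ h₁).Exact) ∧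
      (∃ (h₂ : HomologicalComplex.homologyMap (mappingCone.inr φ) n ≫ δ = 0),
        (ShortComplex.mk _ _ h₂).Exact) ∧
      (∃ (h₃ : δ ≫ HomologicalComplex.homologyMap φ m = 0), (ShortComplex.mk _ _ h₃).Exact) := by
  have hT := mappingCone_triangleh_distinguished φ
  have e₁ := (homologyFunctor C (ComplexShape.up ℤ) 0).homologySequence_exact₂ _ hT n
  have e₂ := (homologyFunctor C (ComplexShape.up ℤ) 0).homologySequence_exact₃ _ hT n m h
  have e₃ := (homologyFunctor C (ComplexShape.up ℤ) 0).homologySequence_exact₁ _ hT n m h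
  let i := fun (n : ℤ) => homologyFunctorFactors C (ComplexShape.up ℤ) n
  let δ : (mappingCone φ).homology n ⟶ K.homology m :=
    (i n).inv.app (mappingCone φ) ≫ (homologyFunctor C (ComplexShape.up ℤ) 0).homologySequenceδ
      (mappingCone.triangleh φ) n m h ≫ (i m).hom.app K
  have hδ : (homologyFunctor C (ComplexShape.up ℤ) 0).homologySequenceδ
      (mappingCone.triangleh φ) n m h ≫ (i m).hom.app K = (i n).hom.app (mappingCone φ) ≫ δ := by
    dsimp only [δ]
    erw [Iso.hom_inv_id_app_assoc]
    rfl
  refine ⟨δ, ?_, ?_, ?_⟩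
  · exact exact_transport e₁ ((i n).app K) ((i n).app L) ((i n).app (mappingCone φ))
      ((i n).hom.naturality φ) ((i n).hom.naturality (mappingCone.inr φ))
  · exact exact_transport e₂ ((i n).app L) ((i n).app (mappingCone φ)) ((i m).app K)
      ((i n).hom.naturality (mappingCone.inr φ)) hδ
  · exact exact_transport e₃ ((i n).app (mappingCone φ)) ((i m).app K) ((i m).app L) hδ
      ((i m).hom.naturality φ)

/-- The long exact homology sequence of the cone of multiplication by `f`. -/
lemma exists_les_smul (f : A) (K : CochainComplex C ℤ) (n m : ℤ) (h : n + 1 = m) :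
    ∃ (ι : K.homology n ⟶ (mappingCone (f • 𝟙 K)).homology n)
      (δ : (mappingCone (f • 𝟙 K)).homology n ⟶ K.homology m),
      (∃ (h₁ : (f • 𝟙 (K.homology n)) ≫ ι = 0), (ShortComplex.mk _ _ h₁).Exact) ∧
      (∃ (h₂ : ι ≫ δ = 0), (ShortComplex.mk _ _ h₂).Exact) ∧
      (∃ (h₃ : δ ≫ (f • 𝟙 (K.homology m)) = 0), (ShortComplex.mk _ _ h₃).Exact) := by
  obtain ⟨δ, h₁, h₂, h₃⟩ := exists_les (f • 𝟙 K) n m h
  rw [homologyMap_smul_id] at h₁ h₃
  exact ⟨_, δ, h₁, h₂, h₃⟩

lemma isZero_homology_cone (f : A) (K : CochainComplex C ℤ) (n m : ℤ) (h : n + 1 = m)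
    (hn : IsZero (K.homology n)) (hm : IsZero (K.homology m)) :
    IsZero ((mappingCone (f • 𝟙 K)).homology n) := by
  obtain ⟨ι, δ, -, ⟨h₂, e₂⟩, -⟩ := exists_les_smul f K n m h
  exact e₂.isZero_of_both_zeros (hn.eq_of_src _ _) (hm.eq_of_tgt _ _)

/-- If `f` kills `H^m(K)` and `H^n` of the cone of `f` vanishes (`n + 1 = m`) then `H^m(K) = 0`. -/
lemma isZero_of_isZero_homology_cone (f : A) (K : CochainComplex C ℤ) (n m : ℤ) (h : n + 1 = m)
    (hf : f • 𝟙 (K.homology m) = 0) (hn : IsZero ((mappingCone (f • 𝟙 K)).homology n)) :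
    IsZero (K.homology m) := by
  obtain ⟨ι, δ, -, -, ⟨h₃, e₃⟩⟩ := exists_les_smul f K n m h
  have : Epi δ := e₃.epi_f hf
  exact IsZero.of_epi δ hn

lemma smul_homology_eq_zero_of_iso {f : A} {K L : CochainComplex C ℤ} (e : K ≅ L) (n : ℤ)
    (h : f • 𝟙 (K.homology n) = 0) : f • 𝟙 (L.homology n) = 0 := by
  let i : K.homology n ≅ L.homology n := (HomologicalComplex.homologyFunctor C _ n).mapIso e
  rw [← i.inv_hom_id, ← Linear.smul_comp, ← Category.comp_id i.inv, ← Linear.comp_smul, h,
    comp_zero, zero_comp]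

lemma smul_homology_kos_head (f : A) (l : List A) (K : CochainComplex C ℤ) (n : ℤ) :
    f • 𝟙 ((kos (f :: l) K).homology n) = 0 := by
  rw [← homologyMap_smul_id, kos_cons, (homotopyCone f (kos l K)).homologyMap_eq,
    HomologicalComplex.homologyMap_zero]

/-- The elements of the ideal generated by `l` kill the homology of `kos l K`. -/
lemma smul_homology_kos {a : A} {l : List A} (ha : a ∈ Ideal.ofList l) (K : CochainComplex C ℤ)
    (n : ℤ) : a • 𝟙 ((kos l K).homology n) = 0 := by
  classical
  unfold Ideal.ofList at ha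
  induction ha using Submodule.span_induction with
  | mem x hx =>
    obtain ⟨e⟩ := kos_perm (List.perm_cons_erase hx).symm K
    exact smul_homology_eq_zero_of_iso e n (smul_homology_kos_head x _ K n)
  | zero => rw [zero_smul]
  | add x y _ _ hx hy => rw [add_smul, hx, hy, add_zero]
  | smul b x _ hx => rw [smul_eq_mul, mul_smul, hx, smul_zero]

/-- Vanishing range of `kos l K` in terms of that of `K`. -/
lemma isZero_homology_kos (l : List A) (K : CochainComplex C ℤ) (a : ℤ)
    (h : ∀ i : ℤ, i < a → IsZero (K.homology i)) (i : ℤ) (hi : i < a - l.length) :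
    IsZero ((kos l K).homology i) := by
  induction l generalizing i with
  | nil => exact h i (by simpa using hi)
  | cons f l ih =>
    have hi' : i + 1 < a - l.length := by
      simp only [List.length_cons, Nat.cast_add, Nat.cast_one] at hi
      lia
    exact isZero_homology_cone f (kos l K) i (i + 1) rfl (ih i (by lia)) (ih (i + 1) hi')

/-- If the elements of `l` lie in the ideal generated by `l'` then vanishing of the homology of
`kos l (kos l' K)` in degrees `< b` gives vanishing of that of `kos l' K` in degrees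
`< b + l.length`. -/
lemma isZero_homology_of_kos_kos (l l' : List A) (K : CochainComplex C ℤ)
    (hl : ∀ f ∈ l, f ∈ Ideal.ofList l') (b : ℤ)
    (h : ∀ i : ℤ, i < b → IsZero ((kos l (kos l' K)).homology i)) (i : ℤ)
    (hi : i < b + l.length) : IsZero ((kos l' K).homology i) := by
  induction l generalizing b with
  | nil => exact h i (by simpa using hi)
  | cons f l ih =>
    refine ih (fun g hg => hl g (List.mem_cons_of_mem _ hg)) (b + 1) (fun j hj => ?_) (by
      simp only [List.length_cons, Nat.cast_add, Nat.cast_one] at hi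
      lia)
    refine isZero_of_isZero_homology_cone f (kos l (kos l' K)) (j - 1) j (by lia) ?_
      (h (j - 1) (by lia))
    rw [← kos_append]
    refine smul_homology_kos ?_ K j
    rw [Ideal.ofList_append]
    exact Ideal.mem_sup_right (hl f (List.mem_cons_self))

/-- **Change of generators / depth sensitivity.** If the elements of `l` lie in the ideal generated
by `l'`, if `l'.length ≤ l.length` and if `kos l K` has no homology in degrees `< a`, then `kos l' K`
has no homology in degrees `< a`. -/
theorem isZero_homology_kos_of_mem (l l' : List A) (K : CochainComplex C ℤ)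
    (hl : ∀ f ∈ l, f ∈ Ideal.ofList l') (hlen : l'.length ≤ l.length) (a : ℤ)
    (h : ∀ i : ℤ, i < a → IsZero ((kos l K).homology i)) (i : ℤ) (hi : i < a) :
    IsZero ((kos l' K).homology i) := by
  refine isZero_homology_of_kos_kos l l' K hl (a - l'.length) (fun j hj => ?_) i (by lia)
  obtain ⟨e⟩ := kos_perm (List.perm_append_comm (l₁ := l) (l₂ := l')) K
  rw [kos_append, kos_append] at e
  have := isZero_homology_kos l' (kos l K) a h j hj
  exact this.of_iso ((HomologicalComplex.homologyFunctor C _ j).mapIso e)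

end Homology

end Groth.Agent.Flat2H.KoszulGen
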