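import Groth.Agent.Flat2H.KoszulReg
import Mathlib.RingTheory.Finiteness.Basic

/-!
# Koszul-regular sequences generating the same ideal
-/

set_option autoImplicit false

universe w v u

open CategoryTheory Category Limits CochainComplex CochainComplex.HomComplex CochainComplex.mappingCone
open Groth.Agent.Flat2H.KoszulBasic Groth.Agent.Flat2H.KoszulReg
open scoped Pointwise

namespace Groth.Agent.Flat2H.KoszulLen

variable {A : Type u} [CommRing A]

/-- Total cohomology of a complex. -/
abbrev Tot (K : CochainComplex (ModuleCat.{u} A) ℤ) : Type u := ∀ i : ℤ, (K.homology i : Type u)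

lemma nonempty_homology_cone1_equiv_prod {K : CochainComplex (ModuleCat.{u} A) ℤ} {z : A} (h : NullH K z)
    (i : ℤ) : Nonempty (((cone1 z K).homology i : Type u) ≃ₗ[A]
      Prod (K.homology i : Type u) (K.homology (i + 1) : Type u)) := by
  obtain ⟨r, hr⟩ := h.exists_retraction
  have hr' : HomologicalComplex.homologyMap (inr (z • 𝟙 K)) i ≫ HomologicalComplex.homologyMap r i = 𝟙 _ := by
    rw [← HomologicalComplex.homologyMap_comp, hr, HomologicalComplex.homologyMap_id]
  have e3 := cone_exact₃ (z • 𝟙 K) i (i + 1) rfl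
  have hz : HomologicalComplex.homologyMap (z • 𝟙 K) (i + 1) = 0 := by
    rw [homologyMap_smul_id]; exact h.homologyMap_eq_zero _
  have hepi : Epi (coneδ (z • 𝟙 K) i (i + 1) rfl) := (cone_exact₁ (z • 𝟙 K) i (i + 1) rfl).epi_f hz
  rw [ModuleCat.epi_iff_surjective] at hepi
  rw [ShortComplex.moduleCat_exact_iff] at e3
  let ρ := (HomologicalComplex.homologyMap r i).hom
  let ι := (HomologicalComplex.homologyMap (inr (z • 𝟙 K)) i).hom
  let δ' := (coneδ (z • 𝟙 K) i (i + 1) rfl).hom
  have hρι : ∀ x, ρ (ι x) = x := fun x => by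
    have := congrArg (fun f => f.hom x) hr'
    exact this
  have hδι : ∀ x, δ' (ι x) = 0 := fun x => by
    have := congrArg (fun f => f.hom x) (cone_w₃ (z • 𝟙 K) i (i + 1) rfl)
    exact this
  refine ⟨LinearEquiv.ofBijective (ρ.prod δ') ⟨?_, ?_⟩⟩
  · rw [injective_iff_map_eq_zero]
    intro x hx
    have hx1 : ρ x = 0 := congrArg Prod.fst hx
    have hx2 : δ' x = 0 := congrArg Prod.snd hx
    obtain ⟨y, hy⟩ := e3 x hx2
    have hy' : ι y = x := hy
    rw [← hy', hρι] at hx1
    rw [← hy', hx1, map_zero]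
  · rintro ⟨a, b⟩
    obtain ⟨x, hx⟩ := hepi b
    have hx' : δ' x = b := hx
    refine ⟨x + ι (a - ρ x), Prod.ext ?_ ?_⟩
    · change ρ (x + ι (a - ρ x)) = a
      rw [map_add, hρι]; abel
    · change δ' (x + ι (a - ρ x)) = b
      rw [map_add, hδι, hx', add_zero]

lemma nonempty_tot_cone1_equiv {K : CochainComplex (ModuleCat.{u} A) ℤ} {z : A} (h : NullH K z) :
    Nonempty (Tot (cone1 z K) ≃ₗ[A] Tot K × Tot K) := by
  let e : ∀ i : ℤ, ((cone1 z K).homology i : Type u) ≃ₗ[A]
      Prod (K.homology i : Type u) (K.homology (i + 1) : Type u) := fun i =>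
    (nonempty_homology_cone1_equiv_prod h i).some
  let s : (∀ i : ℤ, (K.homology (i + 1) : Type u)) ≃ₗ[A] Tot K :=
    LinearEquiv.piCongrLeft A (fun i => (K.homology i : Type u)) (Equiv.addRight (1 : ℤ))
  let p : (∀ i : ℤ, Prod (K.homology i : Type u) (K.homology (i + 1) : Type u)) ≃ₗ[A]
      (∀ i : ℤ, (K.homology i : Type u)) × (∀ i : ℤ, (K.homology (i + 1) : Type u)) :=
    { toFun := fun f => (fun i => (f i).1, fun i => (f i).2)
      invFun := fun g i => (g.1 i, g.2 i)
      left_inv := fun f => rfl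
      right_inv := fun g => rfl
      map_add' := fun f g => rfl
      map_smul' := fun a f => rfl }
  exact ⟨(LinearEquiv.piCongrRight e).trans (p.trans (LinearEquiv.prodCongr (LinearEquiv.refl A _) s))⟩

lemma nonempty_tot_kos_equiv {K : CochainComplex (ModuleCat.{u} A) ℤ} (m : List A) (h : ∀ z ∈ m, NullH K z) :
    Nonempty (Tot (kos m K) ≃ₗ[A] (Fin (2 ^ m.length) → Tot K)) := by
  induction m with
  | nil => exact ⟨(LinearEquiv.funUnique (Fin 1) A (Tot K)).symm⟩
  | cons z m ih =>
    obtain ⟨e⟩ := ih (fun w hw => h w (List.mem_cons_of_mem _ hw))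
    obtain ⟨e'⟩ := nonempty_tot_cone1_equiv (nullH_kos (h z List.mem_cons_self) m)
    have hcard : 2 ^ m.length + 2 ^ m.length = 2 ^ (z :: m).length := by
      rw [List.length_cons, pow_succ]; ring
    let σ : Fin (2 ^ m.length) ⊕ Fin (2 ^ m.length) ≃ Fin (2 ^ (z :: m).length) :=
      finSumFinEquiv.trans (finCongr hcard)
    exact ⟨e'.trans ((LinearEquiv.prodCongr e e).trans
      ((LinearEquiv.sumArrowLequivProdArrow _ _ A (Tot K)).symm.trans
        (LinearEquiv.funCongrLeft A (Tot K) σ.symm)))⟩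

lemma nonempty_tot_equiv_of_iso {K L : CochainComplex (ModuleCat.{u} A) ℤ} (e : K ≅ L) :
    Nonempty (Tot K ≃ₗ[A] Tot L) :=
  ⟨LinearEquiv.piCongrRight fun i => ((HomologicalComplex.homologyFunctor _ _ i).mapIso e).toLinearEquiv⟩

/-- If `m` is Koszul-regular and `l` is a list with `(l) = (m)` of length at most that of `m`, then `l` is
Koszul-regular. -/
theorem isKoszulRegularSeq_of_ofList_eq {l m : List A} (hm : LCI.IsKoszulRegularSeq A m)
    (hlm : Ideal.ofList l = Ideal.ofList m) (hlen : l.length ≤ m.length) :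
    LCI.IsKoszulRegularSeq A l := by
  rw [isKoszulRegularSeq_iff] at hm ⊢
  let Kl := kos l (sgl (ModuleCat.of A A))
  let Km := kos m (sgl (ModuleCat.of A A))
  obtain ⟨e1⟩ := nonempty_tot_kos_equiv (K := Kl) m (fun z hz => nullH_kos_of_mem l _ z
    (hlm ▸ Ideal.subset_span hz))
  obtain ⟨e2⟩ := nonempty_tot_kos_equiv (K := Km) l (fun z hz => nullH_kos_of_mem m _ z
    (hlm ▸ Ideal.subset_span hz))
  obtain ⟨e3⟩ := nonempty_kosIso_of_perm (List.perm_append_comm (l₁ := m) (l₂ := l)) (sgl (ModuleCat.of A A))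
  rw [kos_append, kos_append] at e3
  obtain ⟨e4⟩ := nonempty_tot_equiv_of_iso e3
  -- total cohomology of `Km`
  obtain ⟨e5⟩ := nonempty_homology_zero_equiv m (ModuleCat.of A A)
  obtain ⟨e6⟩ := nonempty_homology_zero_equiv l (ModuleCat.of A A)
  let Q := A ⧸ (Ideal.ofList m • ⊤ : Submodule A A)
  have e6' : (Kl.homology 0 : Type u) ≃ₗ[A] Q := e6.trans (Submodule.quotEquivOfEq _ _ (by rw [hlm]))
  let p0 : Tot Km →ₗ[A] (Km.homology 0 : Type u) := LinearMap.proj 0
  have hp0 : Function.Bijective p0 := by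
    constructor
    · intro a b hab
      funext i
      by_cases hi : i = 0
      · subst hi; exact hab
      · have := hm i hi
        rw [ModuleCat.isZero_iff_subsingleton] at this
        exact this.elim _ _
    · intro x
      classical
      refine ⟨Function.update 0 0 x, ?_⟩
      change Function.update (0 : Tot Km) 0 x 0 = x
      rw [Function.update_self]
  let e7 : Tot Km ≃ₗ[A] Q := (LinearEquiv.ofBijective p0 hp0).trans e5
  intro i hi
  rw [ModuleCat.isZero_iff_subsingleton]
  let H : Type u := (Kl.homology i : Type u)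
  -- surjection `Tot Kl → Q × H`
  let g : Tot Kl →ₗ[A] Q × H := (e6'.toLinearMap ∘ₗ LinearMap.proj 0).prod (LinearMap.proj i)
  have hg : Function.Surjective g := by
    rintro ⟨q, x⟩
    classical
    refine ⟨Function.update (Function.update 0 0 (e6'.symm q)) i x, Prod.ext ?_ ?_⟩
    · change e6' (Function.update (Function.update (0 : Tot Kl) 0 (e6'.symm q)) i x 0) = q
      rw [Function.update_of_ne hi.symm, Function.update_self, LinearEquiv.apply_symm_apply]
    · change Function.update (Function.update (0 : Tot Kl) 0 (e6'.symm q)) i x i = x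
      rw [Function.update_self]
  let c : Fin (2 ^ l.length) → Fin (2 ^ m.length) := Fin.castLE (Nat.pow_le_pow_right (by norm_num) hlen)
  have hc : Function.Injective c := Fin.castLE_injective _
  -- the surjection `(Fin k → Q) → (Fin k → Q × H)`
  let φ₁ : (Fin (2 ^ m.length) → Q × H) →ₗ[A] (Fin (2 ^ l.length) → Q × H) := LinearMap.funLeft A (Q × H) c
  have h₁ : Function.Surjective φ₁ := LinearMap.funLeft_surjective_of_injective A (Q × H) c hc
  let φ₂ : (Fin (2 ^ m.length) → Tot Kl) →ₗ[A] (Fin (2 ^ m.length) → Q × H) :=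
    LinearMap.compLeft g (Fin (2 ^ m.length))
  have h₂ : Function.Surjective φ₂ := by
    intro y
    choose x hx using fun j => hg (y j)
    exact ⟨x, funext hx⟩
  let φ₃ : (Fin (2 ^ l.length) → Q) ≃ₗ[A] (Fin (2 ^ m.length) → Tot Kl) :=
    ((LinearEquiv.piCongrRight fun _ => e7.symm).trans e2.symm).trans (e4.symm.trans e1)
  let φ : (Fin (2 ^ l.length) → Q) →ₗ[A] (Fin (2 ^ l.length) → Q × H) :=
    φ₁ ∘ₗ φ₂ ∘ₗ φ₃.toLinearMap
  have hφ : Function.Surjective φ := h₁.comp (h₂.comp φ₃.surjective)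
  let π : (Fin (2 ^ l.length) → Q × H) →ₗ[A] (Fin (2 ^ l.length) → Q) :=
    LinearMap.compLeft (LinearMap.fst A Q H) (Fin (2 ^ l.length))
  have hπ : Function.Surjective π := fun y => ⟨fun j => (y j, 0), rfl⟩
  have hinj : Function.Injective (π ∘ₗ φ) :=
    OrzechProperty.injective_of_surjective_endomorphism (π ∘ₗ φ) (hπ.comp hφ)
  have hπinj : Function.Injective π := by
    intro a b hab
    obtain ⟨a', rfl⟩ := hφ a
    obtain ⟨b', rfl⟩ := hφ b
    rw [hinj hab]
  refine ⟨fun x y => ?_⟩
  have h1 : (fun _ => (0, x) : Fin (2 ^ l.length) → Q × H) = (fun _ => (0, y)) := hπinj rfl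
  have h2 := congrFun h1 ⟨0, by positivity⟩
  exact congrArg Prod.snd h2

end Groth.Agent.Flat2H.KoszulLen
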