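import Groth.Agent.Flat2H.KoszulBC
import Mathlib.RingTheory.LocalProperties.Submodule
import Mathlib.RingTheory.Localization.BaseChange
import Mathlib.RingTheory.Flat.Localization

/-!
# Koszul-regularity is local; unit ideals
-/

set_option autoImplicit false

universe w v u

open CategoryTheory Category Limits CochainComplex CochainComplex.HomComplex CochainComplex.mappingCone
open Groth.Agent.Flat2H.KoszulBasic Groth.Agent.Flat2H.KoszulReg Groth.Agent.Flat2H.KoszulBC
open scoped Pointwise ZeroObject TensorProduct

namespace Groth.Agent.Flat2H.KoszulLoc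

section General

variable {A : Type w} [CommRing A] {C : Type u} [Category.{v} C] [Abelian C] [Linear A C]

/-- If `l` generates the unit ideal, the Koszul complex is acyclic. -/
lemma isZero_homology_of_ofList_eq_top {l : List A} (h : Ideal.ofList l = ⊤) (K : CochainComplex C ℤ) (i : ℤ) :
    IsZero ((kos l K).homology i) := by
  have h1 := (nullH_kos_of_mem l K 1 (h ▸ Submodule.mem_top)).homologyMap_eq_zero i
  rw [one_smul] at h1
  exact (IsZero.iff_id_eq_zero _).2 h1

end General

variable {A B : Type u} [CommRing A] [CommRing B]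

lemma isKoszulRegularSeq_of_ofList_eq_top {l : List A} (h : Ideal.ofList l = ⊤) :
    LCI.IsKoszulRegularSeq A l :=
  (isKoszulRegularSeq_iff l).2 fun i _ => isZero_homology_of_ofList_eq_top h _ i

/-- Flat base change for the cohomology of Koszul complexes. -/
lemma nonempty_homology_baseChange_equiv [Algebra A B] [Module.Flat A B] (l : List A) (i : ℤ) :
    Nonempty (((kos (l.map (algebraMap A B)) (sgl (ModuleCat.of B B))).homology i : Type u) ≃
      B ⊗[A] ((kos l (sgl (ModuleCat.of A A))).homology i : Type u)) := by
  have hf : (algebraMap A B).Flat := by rwa [RingHom.flat_algebraMap_iff]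
  have := ModuleCat.preservesFiniteLimits_extendScalars_of_flat hf
  obtain ⟨e1⟩ := nonempty_kos_homology_iso (ModuleCat.extendScalars.{u, u, u} (algebraMap A B))
    (forall₂_extendScalars (algebraMap A B) l) (ModuleCat.of A A) i
  obtain ⟨e2⟩ := nonempty_extendScalars_self_iso (algebraMap A B)
  have e3 := (HomologicalComplex.homologyFunctor _ _ i).mapIso (kosIso (l.map (algebraMap A B))
    ((CochainComplex.singleFunctor (ModuleCat.{u} B) 0).mapIso e2))
  have e4 := e3.symm ≪≫ e1
  let M : ModuleCat.{u} A := (kos l (sgl (ModuleCat.of A A))).homology i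
  let φ : B ≃ₗ[A] ((ModuleCat.restrictScalars (algebraMap A B)).obj (ModuleCat.of B B)) :=
    { AddEquiv.refl B with
      map_smul' := fun a b => Algebra.smul_def a b }
  exact ⟨e4.toLinearEquiv.toEquiv.trans (TensorProduct.congr φ (LinearEquiv.refl A M)).symm.toEquiv⟩

/-- Koszul-regularity may be checked at the maximal ideals containing the sequence. -/
lemma isKoszulRegularSeq_of_forall_maximal (l : List A)
    (h : ∀ (p : Ideal A) [p.IsMaximal], Ideal.ofList l ≤ p →
      LCI.IsKoszulRegularSeq (Localization.AtPrime p) (l.map (algebraMap A (Localization.AtPrime p)))) :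
    LCI.IsKoszulRegularSeq A l := by
  have h' : ∀ (p : Ideal A) [p.IsMaximal],
      LCI.IsKoszulRegularSeq (Localization.AtPrime p) (l.map (algebraMap A (Localization.AtPrime p))) := by
    intro p hp
    by_cases hl : Ideal.ofList l ≤ p
    · exact h p hl
    · apply isKoszulRegularSeq_of_ofList_eq_top
      rw [← Ideal.map_ofList]
      obtain ⟨x, hx, hxp⟩ := Set.not_subset.1 hl
      exact Ideal.eq_top_of_isUnit_mem _ (Ideal.mem_map_of_mem _ hx)
        (IsLocalization.map_units (M := p.primeCompl) (Localization.AtPrime p) ⟨x, hxp⟩)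
  rw [isKoszulRegularSeq_iff]
  intro i hi
  rw [ModuleCat.isZero_iff_subsingleton]
  apply Module.subsingleton_of_localization_maximal (R := A)
    (fun p _ => Localization.AtPrime p ⊗[A] ((kos l (sgl (ModuleCat.of A A))).homology i : Type u))
    (fun p _ => TensorProduct.mk A (Localization.AtPrime p) _ 1)
  intro p hp
  have := (isKoszulRegularSeq_iff _).1 (h' p) i hi
  rw [ModuleCat.isZero_iff_subsingleton] at this
  exact (nonempty_homology_baseChange_equiv l i).some.symm.subsingleton

lemma isKoszulRegularSeq_atPrime {l : List A} (h : LCI.IsKoszulRegularSeq A l) (p : Ideal A) [p.IsPrime] :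
    LCI.IsKoszulRegularSeq (Localization.AtPrime p) (l.map (algebraMap A (Localization.AtPrime p))) :=
  IsKoszulRegularSeq_map_of_flat h _ (by rw [RingHom.flat_algebraMap_iff]; infer_instance)

lemma isKoszulRegularSeq_map_ringEquiv_iff (e : A ≃+* B) (l : List A) :
    LCI.IsKoszulRegularSeq B (l.map e) ↔ LCI.IsKoszulRegularSeq A l := by
  constructor
  · intro h
    have := IsKoszulRegularSeq_map_of_flat h (e.symm : B →+* A) (RingHom.Flat.of_bijective e.symm.bijective)
    rw [List.map_map] at this
    have h2 : (⇑(e.symm : B →+* A) ∘ ⇑e) = id := funext e.symm_apply_apply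
    rwa [h2, List.map_id] at this
  · intro h
    exact IsKoszulRegularSeq_map_of_flat h (e : A →+* B) (RingHom.Flat.of_bijective e.bijective)

/-- A module is zero if it vanishes after inverting some element outside every maximal ideal. -/
lemma subsingleton_of_forall_exists_away (H : Type u) [AddCommGroup H] [Module A H]
    (h : ∀ (p : Ideal A) [p.IsMaximal], ∃ g : A, g ∉ p ∧ Subsingleton (Localization.Away g ⊗[A] H)) :
    Subsingleton H := by
  rw [subsingleton_iff_forall_eq 0]
  intro x
  by_contra hx
  obtain ⟨p, hp, hle⟩ := (Ideal.torsionOf A H x).exists_le_maximal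
    (by rwa [Ne, Ideal.torsionOf_eq_top_iff])
  obtain ⟨g, hg, hs⟩ := h p
  have h1 : IsLocalizedModule (Submonoid.powers g) (TensorProduct.mk A (Localization.Away g) H 1) :=
    inferInstance
  have h2 : TensorProduct.mk A (Localization.Away g) H 1 x = TensorProduct.mk A (Localization.Away g) H 1 0 :=
    hs.elim _ _
  obtain ⟨⟨_, n, rfl⟩, hc⟩ := (IsLocalizedModule.eq_iff_exists (Submonoid.powers g) _).1 h2
  rw [smul_zero] at hc
  exact hg (hp.isPrime.mem_of_pow_mem n (hle ((Ideal.mem_torsionOf_iff x _).2 hc)))

/-- Koszul-regularity is local on basic opens. -/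
lemma isKoszulRegularSeq_of_forall_exists_away (l : List A)
    (h : ∀ (p : Ideal A) [p.IsMaximal], Ideal.ofList l ≤ p → ∃ g : A, g ∉ p ∧
      LCI.IsKoszulRegularSeq (Localization.Away g) (l.map (algebraMap A (Localization.Away g)))) :
    LCI.IsKoszulRegularSeq A l := by
  have h' : ∀ (p : Ideal A) [p.IsMaximal], ∃ g : A, g ∉ p ∧
      LCI.IsKoszulRegularSeq (Localization.Away g) (l.map (algebraMap A (Localization.Away g))) := by
    intro p hp
    by_cases hl : Ideal.ofList l ≤ p
    · exact h p hl
    · obtain ⟨x, hx, hxp⟩ := Set.not_subset.1 hl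
      refine ⟨x, hxp, ?_⟩
      apply isKoszulRegularSeq_of_ofList_eq_top
      rw [← Ideal.map_ofList]
      exact Ideal.eq_top_of_isUnit_mem _ (Ideal.mem_map_of_mem _ hx)
        (IsLocalization.map_units (M := Submonoid.powers x) (Localization.Away x) ⟨x, Submonoid.mem_powers x⟩)
  rw [isKoszulRegularSeq_iff]
  intro i hi
  rw [ModuleCat.isZero_iff_subsingleton]
  apply subsingleton_of_forall_exists_away (A := A)
  intro p hp
  obtain ⟨g, hg, hgl⟩ := h' p
  have := (isKoszulRegularSeq_iff _).1 hgl i hi
  rw [ModuleCat.isZero_iff_subsingleton] at this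
  exact ⟨g, hg, (nonempty_homology_baseChange_equiv l i).some.symm.subsingleton⟩

end Groth.Agent.Flat2H.KoszulLoc
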