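import Groth.Agent.Flat2H.PCLocal
import Groth.Agent.Flat2H.AlgProp

/-!
# Pseudo-coherent morphisms of schemes (in `FPInf` form)
-/

set_option autoImplicit false
set_option linter.style.haveILetI false
universe u

namespace Groth.Agent.Flat2H

open CategoryTheory CategoryTheory.Limits AlgebraicGeometry

theorem pcHom_isLocal : AlgProp.IsLocal.{u} @PCHom where
  away_target b _ h := h.localizationAway b _
  away_source a _ h := (PCHom.of_isLocalizationAway a _).trans h
  away_base {A B A' B'} _ _ _ _ _ _ _ _ _ _ _ _ a _ h := by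
    have : Module.Flat A A' := IsLocalization.flat A' (Submonoid.powers a)
    exact h.of_isPushout A' B'
  span_target s hs h := PCHom.of_span_eq_top_target s hs h

/-- pseudo-coherent morphism, `FPInf` form -/
abbrev PCMor : MorphismProperty Scheme.{u} := AlgProp.toMor @PCHom

theorem pcMor_comp {X Y Z : Scheme.{u}} {f : X ⟶ Y} {g : Y ⟶ Z} (hf : PCMor f) (hg : PCMor g) :
    PCMor (f ≫ g) :=
  pcHom_isLocal.toMor_comp (fun h h' => h.trans h') hf hg

theorem pcMor_flatBaseChange {X S X' S' : Scheme.{u}} {f : X ⟶ S} {f' : X' ⟶ S'} {g' : X' ⟶ X}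
    {g : S' ⟶ S} [Flat g] (hc : IsPullback g' f' f g) (hf : PCMor f) : PCMor f' :=
  pcHom_isLocal.toMor_flatBaseChange (fun h => h.of_isPushout _ _) hc hf

theorem pcMor_descends {X S X' S' : Scheme.{u}} {f : X ⟶ S} {f' : X' ⟶ S'} {g' : X' ⟶ X}
    {g : S' ⟶ S} [Flat g] [Surjective g] [QuasiCompact g] (hc : IsPullback g' f' f g)
    (hf' : PCMor f') : PCMor f :=
  pcHom_isLocal.toMor_descends (fun h => h.of_isPushout _ _)
    (fun h => h.of_isPushout_of_faithfullyFlat _ _) hc hf'

end Groth.Agent.Flat2H
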