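import Groth.Agent.Flat2H.TorDim
import Groth.Agent.Flat2H.LocalFlat
import Mathlib.RingTheory.LocalProperties.Exactness
import Mathlib.RingTheory.Localization.BaseChange
import Mathlib.RingTheory.RingHom.FaithfullyFlat
import Mathlib.RingTheory.RingHom.Flat

/-!
# Ring maps of finite tor dimension: a local property of ring maps
-/

set_option autoImplicit false
universe u

open TensorProduct

namespace Groth.Agent.Flat2H.TorDimHom

open Groth.Agent.Flat2H.TorDim

section Local

variable {B : Type u} [CommRing B]

instance isLocalizedModule_mk (S : Submonoid B) (B' : Type u) [CommRing B'] [Algebra B B'] [IsLocalization S B']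
    (X : Type u) [AddCommGroup X] [Module B X] : IsLocalizedModule S (TensorProduct.mk B B' X 1) :=
  (isLocalizedModule_iff_isBaseChange S B' _).2 (TensorProduct.isBaseChange B X B')

theorem map_mk_eq_lTensor (S : Submonoid B) (B' : Type u) [CommRing B'] [Algebra B B'] [IsLocalization S B']
    {X Y : Type u} [AddCommGroup X] [Module B X] [AddCommGroup Y] [Module B Y] (F : X →ₗ[B] Y) :
    IsLocalizedModule.map S (TensorProduct.mk B B' X 1) (TensorProduct.mk B B' Y 1) F =
      LinearMap.lTensor B' F := by
  refine IsLocalizedModule.linearMap_ext S (TensorProduct.mk B B' X 1) (TensorProduct.mk B B' Y 1) ?_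
  rw [IsLocalizedModule.map_comp]
  ext x
  rfl

theorem exact_of_lTensor_away_span (s : Set B) (hs : Ideal.span s = ⊤)
    (B' : s → Type u) [∀ r, CommRing (B' r)] [∀ r, Algebra B (B' r)] [∀ r : s, IsLocalization.Away r.1 (B' r)]
    {X Y Z : Type u} [AddCommGroup X] [Module B X]
    [AddCommGroup Y] [Module B Y] [AddCommGroup Z] [Module B Z] (F : X →ₗ[B] Y) (G : Y →ₗ[B] Z)
    (H : ∀ r : s, Function.Exact (LinearMap.lTensor (B' r) F)
      (LinearMap.lTensor (B' r) G)) : Function.Exact F G := by
  refine exact_of_isLocalized_span s hs (fun r => (B' r) ⊗[B] X)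
    (fun r => TensorProduct.mk B (B' r) X 1) (fun r => (B' r) ⊗[B] Y)
    (fun r => TensorProduct.mk B (B' r) Y 1) (fun r => (B' r) ⊗[B] Z)
    (fun r => TensorProduct.mk B (B' r) Z 1) F G ?_
  intro r
  rw [map_mk_eq_lTensor, map_mk_eq_lTensor]
  exact H r

variable {A : Type u} [CommRing A] [Algebra A B] {M : Type u} [AddCommGroup M] [Module A M] [Module B M]
  [IsScalarTower A B M]

/-- Zariski locality (on the source ring `B`) of the bound of the tor dimension over `A` of a `B`-module. -/
theorem HasTorDimLE.of_localizationSpan (s : Set B) (hs : Ideal.span s = ⊤)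
    (B' : s → Type u) [∀ r, CommRing (B' r)] [∀ r, Algebra B (B' r)] [∀ r : s, IsLocalization.Away r.1 (B' r)]
    [∀ r, Module A (B' r)] [∀ r, IsScalarTower A B (B' r)] {n : ℕ}
    (h : ∀ r : s, DRing.HasTorDimLE A n ((B' r) ⊗[B] M)) : DRing.HasTorDimLE A n M := by
  intro N _ _ p hp
  obtain ⟨p, rfl⟩ : ∃ q, p = q + 1 := ⟨p - 1, by omega⟩
  let P := CategoryTheory.projectiveResolution (ModuleCat.of A N)
  rw [subsingleton_tor_succ_iff P]
  refine exact_of_lTensor_away_span s hs B'
    (TensorProduct.AlgebraTensorModule.lTensor B M (P.complex.d (p + 2) (p + 1)).hom)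
    (TensorProduct.AlgebraTensorModule.lTensor B M (P.complex.d (p + 1) p).hom) fun r => ?_
  rw [← exact_lTensor_tensor_iff]
  have := h r N (p + 1) hp
  rwa [subsingleton_tor_succ_iff P] at this

end Local

section Hom

/-- A ring map of finite tor dimension. -/
def FTD {R S : Type u} [CommRing R] [CommRing S] (f : R →+* S) : Prop :=
  letI := f.toAlgebra
  DRing.HasFiniteTorDim R S

theorem ftd_algebraMap_iff {R S : Type u} [CommRing R] [CommRing S] [Algebra R S] :
    FTD (algebraMap R S) ↔ DRing.HasFiniteTorDim R S := by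
  rw [FTD, toAlgebra_algebraMap]

theorem FTD.of_flat {R S : Type u} [CommRing R] [CommRing S] {f : R →+* S} (hf : f.Flat) : FTD f := by
  let _ := f.toAlgebra
  have : Module.Flat R S := hf
  exact ⟨0, HasTorDimLE.of_flat 0⟩

theorem FTD.comp {R S T : Type u} [CommRing R] [CommRing S] [CommRing T] {f : R →+* S} {g : S →+* T}
    (hf : FTD f) (hg : FTD g) : FTD (g.comp f) := by
  let _ := f.toAlgebra
  let _ := g.toAlgebra
  let _ := (g.comp f).toAlgebra
  have : IsScalarTower R S T := .of_algebraMap_eq fun _ => rfl
  obtain ⟨n, hn⟩ := hf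
  obtain ⟨m, hm⟩ := hg
  exact ⟨n + m, HasTorDimLE.trans R S hn hm⟩

theorem ftd_stableUnderComposition : RingHom.StableUnderComposition (@FTD.{u}) := by
  introv R hf hg
  exact hf.comp hg

theorem ftd_respectsIso : RingHom.RespectsIso (@FTD.{u}) :=
  ftd_stableUnderComposition.respectsIso fun e => FTD.of_flat (RingHom.Flat.of_bijective e.bijective)

theorem ftd_flatBaseChange : LocalFlat.StableUnderFlatBaseChange (@FTD.{u}) := by
  intro R S T _ _ _ _ _ _ h
  rw [ftd_algebraMap_iff] at h ⊢
  obtain ⟨n, hn⟩ := h
  exact ⟨n, HasTorDimLE.baseChange S hn⟩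

theorem ftd_descends : LocalFlat.DescendsFaithfullyFlat (@FTD.{u}) := by
  intro R S T _ _ _ _ _ _ h
  rw [ftd_algebraMap_iff] at h ⊢
  obtain ⟨n, hn⟩ := h
  exact ⟨n, HasTorDimLE.of_baseChange S hn⟩

theorem ftd_compFlatFP : LocalFlat.CompFlatFP (@FTD.{u}) := by
  intro R S T _ _ _ f g hg _ hf
  exact hf.comp (.of_flat hg)

/-- Descent of finite tor dimension along a faithfully flat map on the source side. -/
theorem FTD.of_comp_faithfullyFlat {R S T : Type u} [CommRing R] [CommRing S] [CommRing T] {f : R →+* S}
    {g : S →+* T} (hg : g.FaithfullyFlat) (h : FTD (g.comp f)) : FTD f := by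
  let _ := f.toAlgebra
  let _ := g.toAlgebra
  let _ := (g.comp f).toAlgebra
  have : IsScalarTower R S T := .of_algebraMap_eq fun _ => rfl
  have : Module.FaithfullyFlat S T := hg
  obtain ⟨n, hn⟩ := h
  exact ⟨n, HasTorDimLE.of_tensor_faithfullyFlat (A := R) (B := S) (C := T) (M := S)
    (HasTorDimLE.of_linearEquiv ((TensorProduct.rid S T).symm.restrictScalars R) hn)⟩

theorem ftd_ofCompFlatFP : LocalFlat.OfCompFlatFP (@FTD.{u}) := by
  intro R S T _ _ _ f g hg _ hf
  exact hf.of_comp_faithfullyFlat hg

theorem ftd_ofLocalizationSpanTarget : RingHom.OfLocalizationSpanTarget (@FTD.{u}) := by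
  rw [RingHom.ofLocalizationSpanTarget_iff_finite]
  intro R S _ _ f s hs h
  let _ := f.toAlgebra
  have h' : ∀ r : s, ∃ n, DRing.HasTorDimLE R n (Localization.Away r.1) := by
    intro r
    have h1 : FTD (algebraMap R (Localization.Away r.1)) := by
      rw [IsScalarTower.algebraMap_eq R S (Localization.Away r.1)]
      exact h r
    rw [ftd_algebraMap_iff] at h1
    exact h1
  choose N hN using h'
  refine ⟨Finset.univ.sup N, HasTorDimLE.of_localizationSpan (A := R) (B := S) (M := S) (s : Set S) hs
    (fun r => Localization.Away r.1) fun r => ?_⟩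
  refine HasTorDimLE.of_linearEquiv ((TensorProduct.rid S (Localization.Away r.1)).symm.restrictScalars R)
    (HasTorDimLE.mono (hN r) (Finset.le_sup (Finset.mem_univ _)))

theorem ftd_holdsForLocalizationAway : RingHom.HoldsForLocalizationAway (@FTD.{u}) := by
  introv R h
  exact FTD.of_flat (RingHom.flat_algebraMap_iff.mpr (IsLocalization.flat _ (Submonoid.powers r)))

/-- A property stable under flat base change holds for flat pushouts. -/
theorem isPushout_of_flatBaseChange
    {Q : ∀ {R S : Type u} [CommRing R] [CommRing S], (R →+* S) → Prop} (hi : RingHom.RespectsIso Q)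
    (hQ : LocalFlat.StableUnderFlatBaseChange Q)
    (R S R' S' : Type u) [CommRing R] [CommRing S] [CommRing R'] [CommRing S']
    [Algebra R S] [Algebra R R'] [Algebra R S'] [Algebra S S'] [Algebra R' S']
    [IsScalarTower R S S'] [IsScalarTower R R' S'] [h : Algebra.IsPushout R S R' S'] [Module.Flat R R']
    (H : Q (algebraMap R S)) : Q (algebraMap R' S') := by
  let e := h.symm.equiv
  have he : (e : R' ⊗[R] S →+* S').comp (algebraMap R' (R' ⊗[R] S)) = algebraMap R' S' := by
    ext r
    exact e.commutes r
  rw [← he]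
  exact hi.1 _ e.toRingEquiv (hQ H)

/-- A property stable under flat base change is preserved by localization. -/
theorem localizationAwayPreserves_of_flatBaseChange
    {Q : ∀ {R S : Type u} [CommRing R] [CommRing S], (R →+* S) → Prop} (hi : RingHom.RespectsIso Q)
    (hQ : LocalFlat.StableUnderFlatBaseChange Q) : RingHom.LocalizationAwayPreserves Q := by
  refine RingHom.LocalizationPreserves.away (P := Q) ?_
  intro R S _ _ f M Rᵣ Sᵣ _ _ _ _ _ _ hf
  algebraize [f, IsLocalization.map (S := Rᵣ) Sᵣ f M.le_comap_map,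
    (IsLocalization.map (S := Rᵣ) Sᵣ f M.le_comap_map).comp (algebraMap R Rᵣ)]
  have : IsScalarTower R S Sᵣ := IsScalarTower.of_algebraMap_eq'
    (IsLocalization.map_comp M.le_comap_map)
  have : IsLocalization (Algebra.algebraMapSubmonoid S M) Sᵣ :=
    inferInstanceAs <| IsLocalization (M.map f) Sᵣ
  have : Algebra.IsPushout R S Rᵣ Sᵣ := Algebra.isPushout_of_isLocalization M Rᵣ S Sᵣ
  have : Module.Flat R Rᵣ := IsLocalization.flat _ M
  exact isPushout_of_flatBaseChange hi hQ R S Rᵣ Sᵣ hf

/-- Being of finite tor dimension is a local property of ring maps. -/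
theorem ftd_propertyIsLocal : RingHom.PropertyIsLocal (@FTD.{u}) where
  localizationAwayPreserves := localizationAwayPreserves_of_flatBaseChange ftd_respectsIso ftd_flatBaseChange
  ofLocalizationSpanTarget := ftd_ofLocalizationSpanTarget
  ofLocalizationSpan := ftd_ofLocalizationSpanTarget.ofLocalizationSpan
    (ftd_stableUnderComposition.stableUnderCompositionWithLocalizationAway
      ftd_holdsForLocalizationAway).left
  StableUnderCompositionWithLocalizationAwayTarget :=
    (ftd_stableUnderComposition.stableUnderCompositionWithLocalizationAway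
      ftd_holdsForLocalizationAway).right

end Hom

end Groth.Agent.Flat2H.TorDimHom
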