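import Groth.Agent.Flat2H.KoszulRes
import Groth.Agent.Flat2H.KoszulLoc
import Groth.Agent.Flat2H.PCMor
import Groth.Agent.Flat2H.TorDimHom
import Groth.Prelude.Def_MoreMor

/-!
# Koszul-regular ideals are perfect; lci ring maps are pseudo-coherent, perfect, finitely presented
-/

set_option autoImplicit false
set_option linter.style.haveILetI false

universe u

open Groth.Agent.Flat2H Groth.Agent.Flat2H.KoszulReg Groth.Agent.Flat2H.KoszulLoc
open Groth.Agent.Flat2H.KoszulRes Groth.Agent.Flat2H.TorDim Groth.Agent.Flat2H.TorDimHom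
open scoped TensorProduct

namespace Groth.Agent.Flat2H.KoszulPerf

variable {P : Type u} [CommRing P]

/-- A Koszul-regular ideal is generated by Koszul-regular sequences on an open cover of `Spec P`. -/
lemma exists_cover {I : Ideal P} (h : LCI.IsKoszulRegularIdeal I) :
    ∃ s : Finset P, Ideal.span (s : Set P) = ⊤ ∧ ∀ g ∈ s, ∃ l : List (Localization.Away g),
      LCI.IsKoszulRegularSeq (Localization.Away g) l ∧
        I.map (algebraMap P (Localization.Away g)) = Ideal.ofList l := by
  let t : Set P := {g | ∃ l : List (Localization.Away g),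
      LCI.IsKoszulRegularSeq (Localization.Away g) l ∧
        I.map (algebraMap P (Localization.Away g)) = Ideal.ofList l}
  have ht : Ideal.span t = ⊤ := by
    by_contra hne
    obtain ⟨p, hp, hle⟩ := Ideal.exists_le_maximal _ hne
    by_cases hI : I ≤ p
    · obtain ⟨g, hg, l, hl, hl'⟩ := h ⟨p, hp.isPrime⟩ hI
      exact hg (hle (Ideal.subset_span ⟨l, hl, hl'⟩))
    · obtain ⟨g, hgI, hgp⟩ := Set.not_subset.1 hI
      refine hgp (hle (Ideal.subset_span ⟨[1], ?_, ?_⟩))
      · exact isKoszulRegularSeq_of_ofList_eq_top (by simp)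
      · rw [Ideal.ofList_singleton, Ideal.span_singleton_one]
        exact Ideal.eq_top_of_isUnit_mem _ (Ideal.mem_map_of_mem _ hgI)
          (IsLocalization.Away.algebraMap_isUnit g)
  obtain ⟨s, hs, hs'⟩ := (Ideal.span_eq_top_iff_finite t).1 ht
  exact ⟨s, hs', fun g hg => hs hg⟩

/-- The quotient by a Koszul-regular ideal is of type `FP_∞`. -/
theorem fpInf_quotient {I : Ideal P} (h : LCI.IsKoszulRegularIdeal I) : FPInf P (P ⧸ I) := by
  obtain ⟨s, hs, hs'⟩ := exists_cover h
  refine FPInf.of_localizationSpan (s : Set P) hs fun g => ?_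
  obtain ⟨l, hl, hl'⟩ := hs' g.1 g.2
  have h1 := KoszulRes.fpInf_quotient hl
  rw [← hl'] at h1
  exact h1.of_equiv (Ideal.qoutMapEquivTensorQout _)

/-- The quotient by a Koszul-regular ideal has finite tor dimension. -/
theorem hasFiniteTorDim_quotient {I : Ideal P} (h : LCI.IsKoszulRegularIdeal I) :
    DRing.HasFiniteTorDim P (P ⧸ I) := by
  obtain ⟨s, hs, hs'⟩ := exists_cover h
  have key : ∀ g : s, ∃ n, DRing.HasTorDimLE P n (Localization.Away g.1 ⊗[P] (P ⧸ I)) := by
    intro g
    obtain ⟨l, hl, hl'⟩ := hs' g.1 g.2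
    have h1 := KoszulRes.hasTorDimLE_quotient hl
    rw [← hl'] at h1
    have h2 := HasTorDimLE.of_linearEquiv (Ideal.qoutMapEquivTensorQout (Localization.Away g.1)) h1
    have h3 : DRing.HasTorDimLE P 0 (Localization.Away g.1) := HasTorDimLE.of_flat 0
    exact ⟨_, HasTorDimLE.trans P (Localization.Away g.1) h3 h2⟩
  choose N hN using key
  exact ⟨Finset.univ.sup N, HasTorDimLE.of_localizationSpan (A := P) (B := P) (M := P ⧸ I) (s : Set P) hs
    (fun r => Localization.Away r.1) fun r => HasTorDimLE.mono (hN r) (Finset.le_sup (Finset.mem_univ _))⟩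

section Surj

variable {R S : Type u} [CommRing R] [CommRing S]

/-- A surjection with Koszul-regular kernel: `S` is `FP_∞` over `R`. -/
theorem pcMap_of_surjective {φ : R →+* S} (hφ : Function.Surjective φ)
    (h : LCI.IsKoszulRegularIdeal (RingHom.ker φ)) : PCMap φ := by
  have h1 : PCMap (Ideal.Quotient.mk (RingHom.ker φ)) := pcMap_algebraMap_iff.2 (fpInf_quotient h)
  have h2 : PCMap (RingHom.quotientKerEquivOfSurjective hφ : R ⧸ RingHom.ker φ →+* S) :=
    PCMap.of_bijective (RingEquiv.bijective _)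
  have h3 := h1.comp h2
  have h4 : (RingHom.quotientKerEquivOfSurjective hφ : R ⧸ RingHom.ker φ →+* S).comp
      (Ideal.Quotient.mk (RingHom.ker φ)) = φ := by
    ext x; rfl
  rwa [h4] at h3

/-- A surjection with Koszul-regular kernel has finite tor dimension. -/
theorem ftd_of_surjective {φ : R →+* S} (hφ : Function.Surjective φ)
    (h : LCI.IsKoszulRegularIdeal (RingHom.ker φ)) : FTD φ := by
  have h1 : FTD (Ideal.Quotient.mk (RingHom.ker φ)) := ftd_algebraMap_iff.2 (hasFiniteTorDim_quotient h)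
  have h2 : FTD (RingHom.quotientKerEquivOfSurjective hφ : R ⧸ RingHom.ker φ →+* S) :=
    FTD.of_flat (RingHom.Flat.of_bijective (RingEquiv.bijective _))
  have h3 := h1.comp h2
  have h4 : (RingHom.quotientKerEquivOfSurjective hφ : R ⧸ RingHom.ker φ →+* S).comp
      (Ideal.Quotient.mk (RingHom.ker φ)) = φ := by
    ext x; rfl
  rwa [h4] at h3

end Surj

section Hom

variable {A B : Type u} [CommRing A] [CommRing B] [Algebra A B]

theorem pcHom_iff : MoreMor.IsPseudoCoherentHom A B ↔ PCHom A B := by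
  unfold MoreMor.IsPseudoCoherentHom PCHom PCMap
  refine exists_congr fun n => exists_congr fun φ => and_congr Iff.rfl ?_
  letI := φ.toRingHom.toAlgebra
  exact PCBridge.isPseudoCoherentModule'_iff B

/-- lci ring maps are pseudo-coherent. -/
theorem pcHom_of_isLCI (h : LCI.IsLCI A B) : PCHom A B := by
  obtain ⟨-, n, φ, hφ, hk⟩ := h
  exact ⟨n, φ, hφ, pcMap_of_surjective hφ hk⟩

/-- lci ring maps have finite tor dimension. -/
theorem hasFiniteTorDim_of_isLCI (h : LCI.IsLCI A B) : DRing.HasFiniteTorDim A B := by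
  obtain ⟨-, n, φ, hφ, hk⟩ := h
  have h1 : FTD φ.toRingHom := ftd_of_surjective hφ hk
  have h2 : FTD (algebraMap A (MvPolynomial (Fin n) A)) :=
    FTD.of_flat ((RingHom.flat_algebraMap_iff).2 inferInstance)
  have h3 := h2.comp h1
  have h4 : φ.toRingHom.comp (algebraMap A (MvPolynomial (Fin n) A)) = algebraMap A B :=
    φ.comp_algebraMap
  rwa [h4, ftd_algebraMap_iff] at h3

/-- lci ring maps are perfect. -/
theorem isPerfectHom_of_isLCI (h : LCI.IsLCI A B) : MoreMor.IsPerfectHom A B :=
  ⟨pcHom_iff.2 (pcHom_of_isLCI h), hasFiniteTorDim_of_isLCI h⟩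

/-- pseudo-coherent ring maps are of finite presentation. -/
theorem finitePresentation_of_pcHom (h : PCHom A B) : Algebra.FinitePresentation A B := by
  obtain ⟨n, φ, hφ, h⟩ := h
  refine ⟨n, φ, hφ, ?_⟩
  letI := φ.toRingHom.toAlgebra
  have h1 : FPn (MvPolynomial (Fin n) A) 1 B := h 1
  have h2 : FPn (MvPolynomial (Fin n) A) 0 (LinearMap.ker (Algebra.linearMap (MvPolynomial (Fin n) A) B)) := by
    refine FPn.ker (Algebra.linearMap (MvPolynomial (Fin n) A) B) hφ
      (FPInf.of_projective (MvPolynomial (Fin n) A) 0) h1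
  have h3 : Module.Finite (MvPolynomial (Fin n) A) (LinearMap.ker (Algebra.linearMap (MvPolynomial (Fin n) A) B)) := h2
  exact (Module.Finite.iff_fg).1 h3

end Hom

end Groth.Agent.Flat2H.KoszulPerf
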