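import Groth.Agent.Flat2H.KoszulBasic
import Mathlib.Algebra.Category.ModuleCat.Abelian
import Mathlib.RingTheory.Regular.RegularSequence
import Groth.Prelude.Def_LCI2

/-!
# Koszul-regular sequences: degrees, `H^0`, regular sequences, permutations, append
-/

set_option autoImplicit false

universe w v u

open CategoryTheory Category Limits CochainComplex CochainComplex.HomComplex CochainComplex.mappingCone
open Groth.Agent.Flat2H.KoszulBasic
open scoped Pointwise

namespace Groth.Agent.Flat2H.KoszulReg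

section General

variable {A : Type w} [CommRing A] {C : Type u} [Category.{v} C] [Preadditive C] [Linear A C]
  [HasBinaryBiproducts C]

lemma isZero_kos_X (l : List A) (K : CochainComplex C ℤ) (a b : ℤ)
    (hK : ∀ i : ℤ, i < a ∨ b < i → IsZero (K.X i)) (i : ℤ) (hi : i < a - l.length ∨ b < i) :
    IsZero ((kos l K).X i) := by
  induction l generalizing i with
  | nil => exact hK i (by simpa using hi)
  | cons f l ih =>
    rw [List.length_cons] at hi
    push_cast at hi
    rw [kos_cons, mappingCone.isZero_X_iff]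
    exact ⟨ih (i + 1) (by omega), ih i (by omega)⟩

end General

section ModuleCat

variable {A : Type u} [CommRing A]

/-- A module placed in degree `0`. -/
noncomputable abbrev sgl (M : ModuleCat.{u} A) : CochainComplex (ModuleCat.{u} A) ℤ :=
  (CochainComplex.singleFunctor (ModuleCat.{u} A) 0).obj M

lemma koszul_eq_kos (l : List A) : Koszul.koszul A l = kos l (sgl (ModuleCat.of A A)) := by
  induction l with
  | nil => rfl
  | cons f l ih => rw [kos_cons, ← ih]; rfl

lemma isZero_sgl_X (M : ModuleCat.{u} A) (i : ℤ) (hi : i < 0 ∨ 0 < i) : IsZero ((sgl M).X i) := by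
  have : i ≠ 0 := by omega
  exact HomologicalComplex.isZero_single_obj_X _ _ _ _ this

lemma isZero_kos_sgl_X (l : List A) (M : ModuleCat.{u} A) (i : ℤ) (hi : i < - l.length ∨ 0 < i) :
    IsZero ((kos l (sgl M)).X i) :=
  isZero_kos_X l (sgl M) 0 0 (isZero_sgl_X M) i (by simpa using hi)

lemma isZero_kos_sgl_homology (l : List A) (M : ModuleCat.{u} A) (i : ℤ) (hi : i < - l.length ∨ 0 < i) :
    IsZero ((kos l (sgl M)).homology i) :=
  ShortComplex.isZero_homology_of_isZero_X₂ _ (isZero_kos_sgl_X l M i hi)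

/-- The sequence `l` is Koszul-regular on `M`. -/
def KReg (l : List A) (M : ModuleCat.{u} A) : Prop :=
  ∀ i : ℤ, i ≠ 0 → IsZero ((kos l (sgl M)).homology i)

lemma isKoszulRegularSeq_iff (l : List A) : LCI.IsKoszulRegularSeq A l ↔ KReg l (ModuleCat.of A A) := by
  rw [LCI.IsKoszulRegularSeq, KReg]
  exact forall_congr' fun i => imp_congr Iff.rfl ((HomologicalComplex.homologyFunctor _ _ i).mapIso
    (eqToIso (koszul_eq_kos l))).isZero_iff

lemma kReg_nil (M : ModuleCat.{u} A) : KReg [] M := fun i hi =>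
  ShortComplex.isZero_homology_of_isZero_X₂ _ (isZero_sgl_X M i (by omega))

lemma KReg.perm {l l' : List A} {M : ModuleCat.{u} A} (h : KReg l M) (hp : l.Perm l') : KReg l' M := by
  intro i hi
  obtain ⟨e⟩ := nonempty_kosIso_of_perm hp (sgl M)
  exact (h i hi).of_iso ((HomologicalComplex.homologyFunctor _ _ i).mapIso e).symm

lemma kReg_perm_iff {l l' : List A} {M : ModuleCat.{u} A} (hp : l.Perm l') : KReg l M ↔ KReg l' M :=
  ⟨fun h => h.perm hp, fun h => h.perm hp.symm⟩

lemma KReg.of_iso {l : List A} {M N : ModuleCat.{u} A} (h : KReg l M) (e : M ≅ N) : KReg l N := by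
  intro i hi
  exact (h i hi).of_iso ((HomologicalComplex.homologyFunctor _ _ i).mapIso
    (kosIso l ((CochainComplex.singleFunctor (ModuleCat.{u} A) 0).mapIso e))).symm

lemma kReg_iff_of_linearEquiv {l : List A} {M N : Type u} [AddCommGroup M] [Module A M] [AddCommGroup N]
    [Module A N] (e : M ≃ₗ[A] N) : KReg l (ModuleCat.of A M) ↔ KReg l (ModuleCat.of A N) :=
  ⟨fun h => h.of_iso e.toModuleIso, fun h => h.of_iso e.toModuleIso.symm⟩

lemma mono_smul_id_iff (f : A) (M : ModuleCat.{u} A) : Mono (f • 𝟙 M) ↔ IsSMulRegular M f := by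
  rw [ModuleCat.mono_iff_injective]
  rfl

lemma epi_smul_id_iff (f : A) (M : ModuleCat.{u} A) :
    Epi (f • 𝟙 M) ↔ Function.Surjective (fun x : M => f • x) := by
  rw [ModuleCat.epi_iff_surjective]
  rfl

/-- If `H^1(K) = 0` then `H^0` of the cone of `f` is `H^0(K)/f`. -/
lemma nonempty_homology_cone1_equiv (f : A) (K : CochainComplex (ModuleCat.{u} A) ℤ) (i j : ℤ) (hij : i + 1 = j)
    (hK : IsZero (K.homology j)) :
    Nonempty (((cone1 f K).homology i : Type u) ≃ₗ[A] QuotSMulTop f (K.homology i)) := by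
  have h2 := cone_exact₂ (f • 𝟙 K) i
  have hepi : Epi (HomologicalComplex.homologyMap (inr (f • 𝟙 K)) i) := by
    apply (cone_exact₃ (f • 𝟙 K) i j hij).epi_f
    exact hK.eq_of_tgt _ _
  rw [ModuleCat.epi_iff_surjective] at hepi
  rw [ShortComplex.moduleCat_exact_iff_range_eq_ker] at h2
  have hk : LinearMap.ker (HomologicalComplex.homologyMap (inr (f • 𝟙 K)) i).hom =
      f • (⊤ : Submodule A (K.homology i)) := by
    rw [← h2]
    ext x
    simp only [LinearMap.mem_range, Submodule.mem_smul_pointwise_iff_exists, Submodule.mem_top, true_and]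
    refine exists_congr fun y => ?_
    have hy : (HomologicalComplex.homologyMap (f • 𝟙 K) i).hom y = f • y := by
      rw [homologyMap_smul_id]; rfl
    exact Eq.congr_left hy
  exact ⟨((Submodule.quotEquivOfEq _ _ hk.symm).trans
    (LinearMap.quotKerEquivOfSurjective _ hepi)).symm⟩

/-- `H^0` of the Koszul complex. -/
lemma nonempty_homology_zero_equiv (l : List A) (M : ModuleCat.{u} A) :
    Nonempty (((kos l (sgl M)).homology 0 : Type u) ≃ₗ[A] (M ⧸ (Ideal.ofList l • ⊤ : Submodule A M))) := by
  induction l with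
  | nil =>
    have e1 : ((sgl M).homology 0 : Type u) ≃ₗ[A] M :=
      (HomologicalComplex.singleObjHomologySelfIso _ 0 M).toLinearEquiv
    exact ⟨e1.trans (Submodule.quotEquivOfEqBot _ (by simp)).symm⟩
  | cons f l ih =>
    obtain ⟨e⟩ := ih
    obtain ⟨e'⟩ := nonempty_homology_cone1_equiv f (kos l (sgl M)) 0 1 (by norm_num)
      (isZero_kos_sgl_homology l M 1 (by omega))
    exact ⟨e'.trans ((QuotSMulTop.congr f e).trans
      (Submodule.quotOfListConsSMulTopEquivQuotSMulTopOuter M f l).symm)⟩

lemma kReg_cons {l : List A} {M : ModuleCat.{u} A} (h : KReg l M) (f : A)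
    (hf : IsSMulRegular (M ⧸ (Ideal.ofList l • ⊤ : Submodule A M)) f) : KReg (f :: l) M := by
  intro i hi
  refine (isZero_homology_cone1_iff f _ i (i + 1) rfl).2 ⟨?_, ?_⟩
  · exact ⟨fun _ _ _ => (h i hi).eq_of_src _ _⟩
  · by_cases h1 : i + 1 = 0
    · rw [h1, mono_smul_id_iff]
      obtain ⟨e⟩ := nonempty_homology_zero_equiv l M
      exact e.isSMulRegular_congr f |>.2 hf
    · exact ⟨fun _ _ _ => (h _ h1).eq_of_tgt _ _⟩

/-- The Koszul complex of `m` on a Koszul-regular quotient. -/
lemma nonempty_Q_kos_iso_of_kReg {l : List A} {M : ModuleCat.{u} A} (h : KReg l M) :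
    letI := HasDerivedCategory.standard (ModuleCat.{u} A)
    Nonempty (DerivedCategory.Q.obj (kos l (sgl M)) ≅
      DerivedCategory.Q.obj (sgl (ModuleCat.of A (M ⧸ (Ideal.ofList l • ⊤ : Submodule A M))))) := by
  let := HasDerivedCategory.standard (ModuleCat.{u} A)
  obtain ⟨e⟩ := nonempty_Q_iso_single h
  obtain ⟨e'⟩ := nonempty_homology_zero_equiv l M
  exact ⟨e ≪≫ DerivedCategory.Q.mapIso ((CochainComplex.singleFunctor _ 0).mapIso
    (LinearEquiv.toModuleIso e'))⟩

/-- If `m` is Koszul-regular on `M`, the Koszul homology of `l ++ m` on `M` is that of `l` on `M/(m)M`. -/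
lemma nonempty_homology_append_iso {l m : List A} {M : ModuleCat.{u} A} (h : KReg m M) (i : ℤ) :
    Nonempty ((kos (l ++ m) (sgl M)).homology i ≅
      (kos l (sgl (ModuleCat.of A (M ⧸ (Ideal.ofList m • ⊤ : Submodule A M))))).homology i) := by
  let := HasDerivedCategory.standard (ModuleCat.{u} A)
  rw [kos_append]
  exact nonempty_homology_iso_of_Q_iso (nonempty_Q_kos_iso l (nonempty_Q_kos_iso_of_kReg h)) i

lemma kReg_append_iff {l m : List A} {M : ModuleCat.{u} A} (h : KReg m M) :
    KReg (l ++ m) M ↔ KReg l (ModuleCat.of A (M ⧸ (Ideal.ofList m • ⊤ : Submodule A M))) :=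
  forall_congr' fun i => imp_congr Iff.rfl (nonempty_homology_append_iso h i).some.isZero_iff

lemma kReg_singleton {M : ModuleCat.{u} A} {f : A} (hf : IsSMulRegular M f) : KReg [f] M := by
  apply kReg_cons (kReg_nil M)
  exact ((Submodule.quotEquivOfEqBot (Ideal.ofList ([] : List A) • ⊤ : Submodule A M)
    (by simp)).isSMulRegular_congr f).2 hf

/-- A weakly regular sequence is Koszul-regular. -/
lemma kReg_of_isWeaklyRegular {l : List A} {M : Type u} [AddCommGroup M] [Module A M]
    (h : RingTheory.Sequence.IsWeaklyRegular M l) : KReg l (ModuleCat.of A M) := by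
  induction l generalizing M with
  | nil => exact kReg_nil _
  | cons f l ih =>
    rw [RingTheory.Sequence.isWeaklyRegular_cons_iff] at h
    have h1 : KReg [f] (ModuleCat.of A M) := kReg_singleton h.1
    have h2 := ih h.2
    refine KReg.perm (l := l ++ [f]) ?_ (List.perm_append_singleton f l)
    rw [kReg_append_iff h1]
    refine (kReg_iff_of_linearEquiv (Submodule.quotEquivOfEq _ _ ?_)).1 h2
    simp [Submodule.ideal_span_singleton_smul]

end ModuleCat

end Groth.Agent.Flat2H.KoszulReg
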