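import Groth.Agent.Flat2H.KoszulGen

/-!
# Koszul-regular sequences: permutation, change of generators, degree 0 homology, I/I^2.
-/

set_option autoImplicit false

universe u

open CategoryTheory CategoryTheory.Limits

namespace Groth.Agent.Flat2H.KoszulSeq

open CochainComplex HomComplex KoszulGen LCI

variable {A : Type u} [CommRing A]

/-- `A` in degree `0`. -/
noncomputable abbrev base (A : Type u) [CommRing A] : CochainComplex (ModuleCat.{u} A) ℤ :=
  (CochainComplex.singleFunctor (ModuleCat.{u} A) 0).obj (ModuleCat.of A A)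

lemma mappingCone_congr (f : A) {K L : CochainComplex (ModuleCat.{u} A) ℤ} (h : K = L) :
    mappingCone (f • 𝟙 K) = mappingCone (f • 𝟙 L) := by
  subst h; rfl

lemma homology_congr {K L : CochainComplex (ModuleCat.{u} A) ℤ} (h : K = L) (i : ℤ) :
    K.homology i = L.homology i := by
  subst h; rfl

lemma koszul_eq_kos (l : List A) : Koszul.koszul A l = kos l (base A) := by
  induction l with
  | nil => rfl
  | cons f l ih => exact mappingCone_congr f ih

lemma isZero_base_homology (i : ℤ) (hi : i ≠ 0) : IsZero ((base A).homology i) :=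
  HomologicalComplex.isZero_single_obj_homology _ _ _ _ hi

lemma isZero_X_kos (l : List A) (i : ℤ) (hi : 0 < i) : IsZero ((kos l (base A)).X i) := by
  induction l generalizing i with
  | nil => exact HomologicalComplex.isZero_single_obj_X _ _ _ _ hi.ne'
  | cons f l ih =>
    rw [kos_cons, mappingCone.isZero_X_iff]
    exact ⟨ih (i + 1) (by lia), ih i hi⟩

lemma isZero_homology_of_pos (l : List A) (i : ℤ) (hi : 0 < i) :
    IsZero ((kos l (base A)).homology i) := by
  have h := isZero_X_kos l i hi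
  rw [← HomologicalComplex.exactAt_iff_isZero_homology]
  exact ShortComplex.exact_of_isZero_X₂ _ h

lemma isKoszulRegularSeq_iff (l : List A) :
    IsKoszulRegularSeq A l ↔ ∀ i : ℤ, i < 0 → IsZero ((kos l (base A)).homology i) := by
  refine ⟨fun h i hi => homology_congr (koszul_eq_kos l) i ▸ h i hi.ne, fun h i hi => ?_⟩
  rw [homology_congr (koszul_eq_kos l) i]
  rcases lt_or_gt_of_ne hi with hi | hi
  · exact h i hi
  · exact isZero_homology_of_pos l i hi

lemma isKoszulRegularSeq_of_perm {l l' : List A} (h : l.Perm l') (hl : IsKoszulRegularSeq A l) :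
    IsKoszulRegularSeq A l' := by
  rw [isKoszulRegularSeq_iff] at hl ⊢
  intro i hi
  obtain ⟨e⟩ := kos_perm h (base A)
  exact (hl i hi).of_iso ((HomologicalComplex.homologyFunctor _ _ i).mapIso e.symm)

lemma isKoszulRegularSeq_perm_iff {l l' : List A} (h : l.Perm l') :
    IsKoszulRegularSeq A l ↔ IsKoszulRegularSeq A l' :=
  ⟨isKoszulRegularSeq_of_perm h, isKoszulRegularSeq_of_perm h.symm⟩

/-- Change of generators / depth sensitivity. -/
theorem isKoszulRegularSeq_of_mem {l l' : List A} (hl : IsKoszulRegularSeq A l)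
    (hmem : ∀ f ∈ l, f ∈ Ideal.ofList l') (hlen : l'.length ≤ l.length) :
    IsKoszulRegularSeq A l' := by
  rw [isKoszulRegularSeq_iff] at hl ⊢
  exact isZero_homology_kos_of_mem l l' (base A) hmem hlen 0 hl

theorem isKoszulRegularSeq_of_ofList_eq {l l' : List A} (hl : IsKoszulRegularSeq A l)
    (h : Ideal.ofList l = Ideal.ofList l') (hlen : l'.length ≤ l.length) :
    IsKoszulRegularSeq A l' :=
  isKoszulRegularSeq_of_mem hl (fun _ hf => h ▸ Ideal.subset_span hf) hlen

/-- If the list generates the unit ideal, its Koszul complex is acyclic. -/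
theorem isZero_homology_of_ofList_eq_top {l : List A} (h : Ideal.ofList l = ⊤) (i : ℤ) :
    IsZero ((kos l (base A)).homology i) := by
  have := smul_homology_kos (a := (1 : A)) (l := l) (h ▸ Submodule.mem_top) (base A) i
  rw [one_smul] at this
  exact (IsZero.iff_id_eq_zero _).2 this

theorem isKoszulRegularSeq_of_ofList_eq_top {l : List A} (h : Ideal.ofList l = ⊤) :
    IsKoszulRegularSeq A l := by
  rw [isKoszulRegularSeq_iff]
  exact fun i _ => isZero_homology_of_ofList_eq_top h i

/-- `H^0` of the Koszul complex is `A/(l)`. -/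
lemma exists_linearMap_homology_zero (l : List A) :
    ∃ φ : A →ₗ[A] ((kos l (base A)).homology 0 : ModuleCat.{u} A), Function.Surjective φ ∧
      ∀ a, φ a = 0 ↔ a ∈ Ideal.ofList l := by
  induction l with
  | nil =>
    let e : (base A).homology 0 ≅ ModuleCat.of A A :=
      HomologicalComplex.singleObjHomologySelfIso (ComplexShape.up ℤ) 0 (ModuleCat.of A A)
    refine ⟨e.symm.toLinearEquiv.toLinearMap, e.symm.toLinearEquiv.surjective, fun a => ?_⟩
    rw [Ideal.ofList_nil, Submodule.mem_bot]
    exact e.symm.toLinearEquiv.map_eq_zero_iff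
  | cons f l ih =>
    obtain ⟨φ, hφ, hk⟩ := ih
    obtain ⟨ι, δ, ⟨h₁, e₁⟩, ⟨h₂, e₂⟩, -⟩ := exists_les_smul f (kos l (base A)) 0 1 rfl
    have hι : Epi ι := e₂.epi_f ((isZero_homology_of_pos l 1 one_pos).eq_of_tgt _ _)
    rw [ModuleCat.epi_iff_surjective] at hι
    refine ⟨ι.hom ∘ₗ φ, hι.comp hφ, fun x => ?_⟩
    rw [Ideal.ofList_cons, Ideal.mem_span_singleton_sup]
    constructor
    · intro (hx : ι.hom (φ x) = 0)
      obtain ⟨y, hy⟩ := (ShortComplex.moduleCat_exact_iff _).1 e₁ (φ x) hx
      obtain ⟨y, rfl⟩ := hφ y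
      have : f • φ y = φ x := hy
      rw [← map_smul, ← sub_eq_zero, ← map_sub, hk] at this
      refine ⟨y, -(f • y - x), neg_mem this, ?_⟩
      rw [smul_eq_mul]; ring
    · rintro ⟨a, b, hb, rfl⟩
      rw [← hk] at hb
      change ι.hom (φ (a * f + b)) = 0
      rw [map_add, hb, add_zero, mul_comm, ← smul_eq_mul, map_smul]
      exact congr($h₁ (φ a))

/-- The head of a Koszul-regular sequence is a nonzerodivisor modulo the rest. -/
theorem mem_of_mul_mem_of_cons {f : A} {l : List A} (h : IsKoszulRegularSeq A (f :: l)) {a : A}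
    (ha : f * a ∈ Ideal.ofList l) : a ∈ Ideal.ofList l := by
  rw [isKoszulRegularSeq_iff] at h
  obtain ⟨φ, hφ, hk⟩ := exists_linearMap_homology_zero l
  obtain ⟨ι, δ, -, -, ⟨h₃, e₃⟩⟩ := exists_les_smul f (kos l (base A)) (-1) 0 rfl
  have hm : Mono (f • 𝟙 ((kos l (base A)).homology 0)) :=
    e₃.mono_g ((h (-1) (by lia)).eq_of_src _ _)
  rw [ModuleCat.mono_iff_injective] at hm
  rw [← hk] at ha ⊢
  refine hm (a₁ := φ a) (a₂ := 0) ?_
  rw [map_zero]
  change f • φ a = 0
  rw [← map_smul, smul_eq_mul, ha]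

/-- In a Koszul-regular sequence each element is a nonzerodivisor modulo the others. -/
theorem mem_of_mul_mem_of_perm {f : A} {l l' : List A} (h : IsKoszulRegularSeq A l)
    (hp : l.Perm (f :: l')) {a : A} (ha : f * a ∈ Ideal.ofList l') : a ∈ Ideal.ofList l' :=
  mem_of_mul_mem_of_cons (isKoszulRegularSeq_of_perm hp h) ha

lemma ofList_eq_span_range (l : List A) : Ideal.ofList l = Ideal.span (Set.range l.get) := by
  rw [Set.range_list_get]

/-- Relations between the elements of a Koszul-regular sequence have coefficients in the ideal. -/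
theorem coeff_mem_of_sum_eq_zero {l : List A} (h : IsKoszulRegularSeq A l) (c : Fin l.length → A)
    (hc : ∑ i, c i * l.get i = 0) (i : Fin l.length) : c i ∈ Ideal.ofList l := by
  classical
  have hp : l.Perm (l.get i :: l.eraseIdx i) := (List.getElem_cons_eraseIdx_perm i.2).symm
  have hle : Ideal.ofList (l.eraseIdx i) ≤ Ideal.ofList l :=
    Ideal.span_mono fun x hx => List.mem_of_mem_eraseIdx hx
  refine hle (mem_of_mul_mem_of_perm h hp ?_)
  rw [← Finset.add_sum_erase _ _ (Finset.mem_univ i)] at hc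
  rw [mul_comm, eq_neg_of_add_eq_zero_left hc]
  refine neg_mem (sum_mem fun j hj => Ideal.mul_mem_left _ _ (Ideal.subset_span ?_))
  rw [Set.mem_ofPred_eq, List.mem_eraseIdx_iff_getElem]
  exact ⟨j, j.2, fun e => (Finset.ne_of_mem_erase hj) (Fin.ext e), rfl⟩

lemma exists_of_mem_sq {l : List A} {x : A} (hx : x ∈ (Ideal.ofList l) ^ 2) :
    ∃ b : Fin l.length → A, (∀ i, b i ∈ Ideal.ofList l) ∧ ∑ i, b i * l.get i = x := by
  rw [pow_two, ← smul_eq_mul] at hx
  nth_rewrite 2 [ofList_eq_span_range] at hx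
  rw [Ideal.span, Submodule.mem_ideal_smul_span_iff_exists_sum] at hx
  obtain ⟨a, ha, rfl⟩ := hx
  refine ⟨a, ha, ?_⟩
  rw [Finsupp.sum_fintype _ _ (by simp)]
  simp

/-- The elements of a Koszul-regular sequence form a basis of `I/I²` over `A/I`. -/
theorem coeff_mem_of_sum_mem_sq {l : List A} (h : IsKoszulRegularSeq A l) (c : Fin l.length → A)
    (hc : ∑ i, c i * l.get i ∈ (Ideal.ofList l) ^ 2) (i : Fin l.length) : c i ∈ Ideal.ofList l := by
  obtain ⟨b, hb, hbc⟩ := exists_of_mem_sq hc
  have := coeff_mem_of_sum_eq_zero h (fun i => c i - b i) (by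
    simp only [sub_mul, Finset.sum_sub_distrib, hbc, sub_self]) i
  simpa using add_mem this (hb i)

end Groth.Agent.Flat2H.KoszulSeq
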