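import Groth.Agent.Flat2H.KoszulSeq
import Groth.Agent.Flat2H.KoszulLoc
import Mathlib.RingTheory.RingHom.FaithfullyFlat

/-!
# Koszul-regular sequences: flat base change, descent, append, in algebra form
-/

set_option autoImplicit false
universe u

namespace Groth.Agent.Flat2H.KoszulWrap

open LCI

section

variable {A B : Type u} [CommRing A] [CommRing B]

theorem isKoszulRegularSeq_map [Algebra A B] [Module.Flat A B]
    {l : List A} (h : IsKoszulRegularSeq A l) : IsKoszulRegularSeq B (l.map (algebraMap A B)) :=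
  KoszulBC.IsKoszulRegularSeq_map_of_flat h _ (by rw [RingHom.flat_algebraMap_iff]; infer_instance)

theorem isKoszulRegularSeq_of_map [Algebra A B] [Module.FaithfullyFlat A B]
    {l : List A} (h : IsKoszulRegularSeq B (l.map (algebraMap A B))) : IsKoszulRegularSeq A l :=
  KoszulBC.IsKoszulRegularSeq_of_faithfullyFlat (algebraMap A B)
    ((RingHom.faithfullyFlat_algebraMap_iff).2 inferInstance) h

theorem isKoszulRegularSeq_of_localization {l : List A}
    (h : ∀ (p : Ideal A) [p.IsPrime], Ideal.ofList l ≤ p → IsKoszulRegularSeq (Localization.AtPrime p)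
      (l.map (algebraMap A (Localization.AtPrime p)))) : IsKoszulRegularSeq A l :=
  KoszulLoc.isKoszulRegularSeq_of_forall_maximal l fun p hp hl => h p hl

theorem isKoszulRegularSeq_append_iff {l : List A} (m : List A)
    (h : IsKoszulRegularSeq A l) : IsKoszulRegularSeq A (m ++ l) ↔
      IsKoszulRegularSeq (A ⧸ Ideal.ofList l) (m.map (Ideal.Quotient.mk (Ideal.ofList l))) :=
  KoszulBC.isKoszulRegularSeq_append_iff h

/-- Append lemma for a surjection whose kernel is generated by a Koszul-regular sequence. -/
theorem isKoszulRegularSeq_append_iff_of_surjective {l : List A} (m : List A)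
    (h : IsKoszulRegularSeq A l) (π : A →+* B) (hπ : Function.Surjective π)
    (hker : RingHom.ker π = Ideal.ofList l) : IsKoszulRegularSeq A (m ++ l) ↔
      IsKoszulRegularSeq B (m.map π) := by
  rw [isKoszulRegularSeq_append_iff m h]
  let e : (A ⧸ Ideal.ofList l) ≃+* B :=
    (Ideal.quotEquivOfEq hker.symm).trans (RingHom.quotientKerEquivOfSurjective hπ)
  rw [← KoszulLoc.isKoszulRegularSeq_map_ringEquiv_iff e, List.map_map]
  have : ⇑e ∘ ⇑(Ideal.Quotient.mk (Ideal.ofList l)) = ⇑π := by
    ext x
    rfl
  rw [this]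

theorem isKoszulRegularSeq_singleton {f : A} (h : f ∈ nonZeroDivisors A) :
    IsKoszulRegularSeq A [f] := by
  apply KoszulBC.isKoszulRegularSeq_of_isWeaklyRegular
  rw [RingTheory.Sequence.isWeaklyRegular_cons_iff]
  refine ⟨?_, RingTheory.Sequence.IsWeaklyRegular.nil _ _⟩
  rw [isSMulRegular_iff_right_eq_zero_of_smul]
  intro x hx
  exact (mem_nonZeroDivisors_iff.1 h).1 x hx

end

end Groth.Agent.Flat2H.KoszulWrap
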