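import Groth.Agent.Flat2H.LCIMaps2

/-!
# The lci property at a point
-/

set_option autoImplicit false
set_option linter.style.haveILetI false

universe u

namespace Groth.Agent.Flat2H.LCIPoint

open LCI KoszulSeq KoszulWrap KoszulIdeal LCIMaps LCIMaps2

/-- A Koszul-regular ideal is, around every prime, generated by a Koszul-regular sequence, on a
basic open set. -/
lemma exists_genK_localization {P : Type u} [CommRing P] {I : Ideal P} (g : P) (q : Ideal P)
    [q.IsPrime] (hg : g ∉ q)
    (h : IsKoszulRegularIdeal (I.map (algebraMap P (Localization.Away g)))) :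
    ∃ g' : P, g' ∉ q ∧ GenK (I.map (algebraMap P (Localization.Away g'))) := by
  have hd : Disjoint (Submonoid.powers g : Set P) (q : Set P) := by
    rw [Set.disjoint_left]
    rintro _ ⟨n, rfl⟩ hn
    exact hg (Ideal.IsPrime.mem_of_pow_mem ‹_› n hn)
  have hq' : (q.map (algebraMap P (Localization.Away g))).IsPrime :=
    IsLocalization.isPrime_of_isPrime_disjoint (Submonoid.powers g) _ q ‹_› hd
  obtain ⟨a, ha, hT⟩ := IsKoszulRegularIdeal.exists_genK h (q.map (algebraMap P (Localization.Away g)))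
  obtain ⟨g', hg', hloc⟩ := exists_isLocalization_away_of_away g (Localization.Away g) q hg a ha
    (Localization.Away a)
  refine ⟨g', hg', ?_⟩
  have h1 : GenK (I.map (algebraMap P (Localization.Away a))) := by
    have := hT (Localization.Away a) (IsLocalization.Away.algebraMap_isUnit a)
    rwa [Ideal.map_map, ← IsScalarTower.algebraMap_eq] at this
  exact h1.map_of_isUnit g' (Localization.Away a) _ (IsLocalization.Away.algebraMap_isUnit g')

/-- The lci property at a point in terms of a presentation. -/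
theorem exists_isLCI_away_iff {A B : Type u} [CommRing A] [CommRing B] [Algebra A B] {n : ℕ}
    (φ : MvPolynomial (Fin n) A →ₐ[A] B) (hφ : Function.Surjective φ) (q : Ideal B) [q.IsPrime] :
    (∃ b : B, b ∉ q ∧ IsLCI A (Localization.Away b)) ↔
      ∃ g : MvPolynomial (Fin n) A, g ∉ q.comap φ.toRingHom ∧
        GenK ((RingHom.ker φ.toRingHom).map (algebraMap _ (Localization.Away g))) := by
  constructor
  · rintro ⟨b, hb, h⟩
    obtain ⟨g, rfl⟩ := hφ b
    obtain ⟨π', hπ', hker, hc⟩ := exists_awayMap φ.toRingHom hφ g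
    have h1 := (isLCI_away_iff AlgEquiv.refl φ g π' hπ' hc).1 h
    unfold KerK at h1
    rw [hker] at h1
    exact exists_genK_localization g (q.comap φ.toRingHom) hb h1
  · rintro ⟨g, hg, h⟩
    obtain ⟨π', hπ', hker, hc⟩ := exists_awayMap φ.toRingHom hφ g
    refine ⟨φ g, hg, (isLCI_away_iff AlgEquiv.refl φ g π' hπ' hc).2 ?_⟩
    unfold KerK
    rw [hker]
    exact h.isKoszulRegularIdeal

/-- For an algebra of finite type, if the lci property holds at every point then it holds. -/
theorem isLCI_of_forall_prime {A B : Type u} [CommRing A] [CommRing B] [Algebra A B]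
    (h : ∀ q : Ideal B, q.IsPrime → ∃ b : B, b ∉ q ∧ IsLCI A (Localization.Away b)) : IsLCI A B := by
  choose! b hb hb' using h
  refine isLCI_of_span {x | ∃ q : Ideal B, q.IsPrime ∧ b q = x} ?_ ?_
  · by_contra hne
    obtain ⟨m, hm, hle⟩ := Ideal.exists_le_maximal _ hne
    exact hb m hm.isPrime (hle (Ideal.subset_span ⟨m, hm.isPrime, rfl⟩))
  · rintro _ ⟨q, hq, rfl⟩
    exact hb' q hq

open CategoryTheory CategoryTheory.Limits AlgebraicGeometry

/-- Points at which a local property of morphisms holds. -/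
theorem _root_.Groth.Agent.Flat2H.AlgProp.IsLocal.exists_affine_iff {P : AlgProp.{u}} (h : P.IsLocal)
    {X Y : Scheme.{u}} (f : X ⟶ Y) {U : X.Opens} {V : Y.Opens} (hU : IsAffineOpen U)
    (hV : IsAffineOpen V) (hUV : U ≤ f ⁻¹ᵁ V) (x : X) (hx : x ∈ U) :
    (∃ (U' : X.Opens) (V' : Y.Opens) (_ : IsAffineOpen U') (_ : IsAffineOpen V')
      (hUV' : U' ≤ f ⁻¹ᵁ V'), x ∈ U' ∧
        letI := (f.appLE V' U' hUV').hom.toAlgebra
        P Γ(Y, V') Γ(X, U')) ↔
      ∃ b : Γ(X, U), x ∈ X.basicOpen b ∧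
        letI := (f.appLE V U hUV).hom.toAlgebra
        P Γ(Y, V) (Localization.Away b) := by
  let := (f.appLE V U hUV).hom.toAlgebra
  constructor
  · rintro ⟨U', V', hU', hV', hUV', hx', hP⟩
    obtain ⟨r, s, hxs, e, hP'⟩ := exists_basicOpen_le_appLE_of_appLE_of_isAffine (P := P.toRingHom)
      h.holdsForComp_target h.awayPreserves (f := f) x ⟨V, hV⟩ ⟨V', hV'⟩ ⟨U, hU⟩ ⟨U', hU'⟩ hx hx'
      hUV' hP (hUV hx)
    refine ⟨s, hxs, ?_⟩
    let a1 := (f.appLE (Y.basicOpen r) (X.basicOpen s) e).hom.toAlgebra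
    have hP' : P Γ(Y, Y.basicOpen r) Γ(X, X.basicOpen s) := hP'
    have := hV.isLocalization_basicOpen r
    have := hU.isLocalization_basicOpen s
    have hle : X.basicOpen s ≤ f ⁻¹ᵁ V := (X.basicOpen_le s).trans hUV
    let a2 : Algebra Γ(Y, V) Γ(X, X.basicOpen s) := (f.appLE V (X.basicOpen s) hle).hom.toAlgebra
    have h1 : IsScalarTower Γ(Y, V) Γ(Y, Y.basicOpen r) Γ(X, X.basicOpen s) :=
      IsScalarTower.of_algebraMap_eq' (by
        change (f.appLE V (X.basicOpen s) hle).hom = (Y.presheaf.map (homOfLE (Y.basicOpen_le r)).op ≫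
          f.appLE (Y.basicOpen r) (X.basicOpen s) e).hom
        rw [Scheme.Hom.map_appLE])
    have h2 : P Γ(Y, V) Γ(X, X.basicOpen s) := h.away_source r hP'
    have h3 : IsScalarTower Γ(Y, V) Γ(X, U) Γ(X, X.basicOpen s) :=
      IsScalarTower.of_algebraMap_eq' (by
        change (f.appLE V (X.basicOpen s) hle).hom = (f.appLE V U hUV ≫
          X.presheaf.map (homOfLE (X.basicOpen_le s)).op).hom
        rw [Scheme.Hom.appLE_map])
    let E : Γ(X, X.basicOpen s) ≃ₐ[Γ(X, U)] Localization.Away s :=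
      IsLocalization.algEquiv (Submonoid.powers s) _ _
    refine h.of_equiv (RingEquiv.refl _) E.toRingEquiv ?_ h2
    ext y
    have h4 : algebraMap Γ(Y, V) Γ(X, X.basicOpen s) y =
      algebraMap Γ(X, U) Γ(X, X.basicOpen s) (algebraMap Γ(Y, V) Γ(X, U) y) :=
      IsScalarTower.algebraMap_apply _ _ _ _
    have h5 : algebraMap Γ(Y, V) (Localization.Away s) y =
      algebraMap Γ(X, U) (Localization.Away s) (algebraMap Γ(Y, V) Γ(X, U) y) :=
      IsScalarTower.algebraMap_apply _ _ _ _
    change algebraMap Γ(Y, V) (Localization.Away s) y = E (algebraMap Γ(Y, V) Γ(X, X.basicOpen s) y)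
    rw [h4, h5, E.commutes]
  · rintro ⟨s, hxs, hP⟩
    have hle : X.basicOpen s ≤ f ⁻¹ᵁ V := (X.basicOpen_le s).trans hUV
    have := hU.isLocalization_basicOpen s
    let a2 : Algebra Γ(Y, V) Γ(X, X.basicOpen s) := (f.appLE V (X.basicOpen s) hle).hom.toAlgebra
    refine ⟨X.basicOpen s, V, hU.basicOpen s, hV, hle, hxs, ?_⟩
    have h3 : IsScalarTower Γ(Y, V) Γ(X, U) Γ(X, X.basicOpen s) :=
      IsScalarTower.of_algebraMap_eq' (by
        change (f.appLE V (X.basicOpen s) hle).hom = (f.appLE V U hUV ≫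
          X.presheaf.map (homOfLE (X.basicOpen_le s)).op).hom
        rw [Scheme.Hom.appLE_map])
    let E : Localization.Away s ≃ₐ[Γ(X, U)] Γ(X, X.basicOpen s) :=
      IsLocalization.algEquiv (Submonoid.powers s) _ _
    refine h.of_equiv (RingEquiv.refl _) E.toRingEquiv ?_ hP
    ext y
    have h4 : algebraMap Γ(Y, V) Γ(X, X.basicOpen s) y =
      algebraMap Γ(X, U) Γ(X, X.basicOpen s) (algebraMap Γ(Y, V) Γ(X, U) y) :=
      IsScalarTower.algebraMap_apply _ _ _ _
    have h5 : algebraMap Γ(Y, V) (Localization.Away s) y =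
      algebraMap Γ(X, U) (Localization.Away s) (algebraMap Γ(Y, V) Γ(X, U) y) :=
      IsScalarTower.algebraMap_apply _ _ _ _
    change algebraMap Γ(Y, V) Γ(X, X.basicOpen s) y = E (algebraMap Γ(Y, V) (Localization.Away s) y)
    rw [h4, h5, E.commutes]

end Groth.Agent.Flat2H.LCIPoint
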