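import Groth.Agent.Flat2H.KoszulFibre
import Groth.Agent.Flat2H.LCIPoint
import Mathlib.RingTheory.TensorProduct.MvPolynomial
import Mathlib.RingTheory.FinitePresentation

/-!
# The lci locus of a map of flat algebras commutes with base change
-/

set_option autoImplicit false
universe u

open TensorProduct

namespace Groth.Agent.Flat2H.LCILocus

open Groth.Agent.Flat2H.KoszulIdeal Groth.Agent.Flat2H.LCIPoint LCI

section Ker

variable {A A' P P' C C' : Type u} [CommRing A] [CommRing A'] [CommRing P] [CommRing P'] [CommRing C] [CommRing C']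
  [Algebra A A'] [Algebra A P] [Algebra A P'] [Algebra A' P'] [Algebra P P'] [IsScalarTower A A' P']
  [IsScalarTower A P P'] [Algebra A C] [Algebra A C'] [Algebra A' C'] [Algebra C C'] [IsScalarTower A A' C']
  [IsScalarTower A C C'] [hP : Algebra.IsPushout A A' P P'] [hC : Algebra.IsPushout A A' C C']

omit [Algebra A P'] [IsScalarTower A A' P'] [IsScalarTower A P P'] hP in
theorem surjective_of_isPushout (φ : P →ₐ[A] C) (hφ : Function.Surjective φ) (φ' : P' →ₐ[A'] C')
    (hφ' : ∀ x, φ' (algebraMap P P' x) = algebraMap C C' (φ x)) : Function.Surjective φ' := by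
  intro y
  refine hC.1.inductionOn y (motive := fun y => ∃ x, φ' x = y) ⟨0, map_zero _⟩ ?_ ?_ ?_
  · intro c
    obtain ⟨x, rfl⟩ := hφ c
    exact ⟨algebraMap P P' x, hφ' x⟩
  · rintro a _ ⟨x, rfl⟩
    exact ⟨a • x, map_smul _ _ _⟩
  · rintro _ _ ⟨x, rfl⟩ ⟨y, rfl⟩
    exact ⟨x + y, map_add _ _ _⟩

theorem ker_of_isPushout (φ : P →ₐ[A] C) (hφ : Function.Surjective φ) (φ' : P' →ₐ[A'] C')
    (hφ' : ∀ x, φ' (algebraMap P P' x) = algebraMap C C' (φ x)) :
    RingHom.ker φ'.toRingHom = (RingHom.ker φ.toRingHom).map (algebraMap P P') := by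
  apply le_antisymm
  · let J := (RingHom.ker φ.toRingHom).map (algebraMap P P')
    let f : A' →ₐ[A] P' ⧸ J := IsScalarTower.toAlgHom A A' (P' ⧸ J)
    let g₀ : P →ₐ[A] P' ⧸ J := (Ideal.Quotient.mkₐ A J).comp (IsScalarTower.toAlgHom A P P')
    have hg₀ : ∀ x ∈ RingHom.ker φ, g₀ x = 0 := fun x hx =>
      Ideal.Quotient.eq_zero_iff_mem.2 (Ideal.mem_map_of_mem _ hx)
    let g : C →ₐ[A] P' ⧸ J := (Ideal.Quotient.liftₐ (RingHom.ker φ) g₀ hg₀).comp
      (Ideal.quotientKerAlgEquivOfSurjective hφ).symm.toAlgHom
    have hg : ∀ x, g (φ x) = g₀ x := by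
      intro x
      have h1 : (Ideal.quotientKerAlgEquivOfSurjective hφ).symm (φ x) = Ideal.Quotient.mk _ x := by
        rw [AlgEquiv.symm_apply_eq]
        rfl
      change (Ideal.Quotient.liftₐ (RingHom.ker φ) g₀ hg₀) ((Ideal.quotientKerAlgEquivOfSurjective hφ).symm (φ x)) = _
      rw [h1]
      rfl
    let d : C' →ₐ[A] P' ⧸ J := Algebra.pushoutDesc C' f g (fun _ _ => mul_comm _ _)
    have hd : d.comp (φ'.restrictScalars A) = Ideal.Quotient.mkₐ A J := by
      refine Algebra.IsPushout.algHom_ext (R := A) (S := A') (R' := P) (S' := P') ?_ ?_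
      · ext x
        change d (φ' (algebraMap P P' x)) = _
        rw [hφ', Algebra.pushoutDesc_right, hg]
      · ext x
        change d (φ' (algebraMap A' P' x)) = _
        rw [φ'.commutes, Algebra.pushoutDesc_left]
        rfl
    intro x hx
    have h1 : d (φ' x) = Ideal.Quotient.mk J x := congr($hd x)
    have h2 : φ' x = 0 := hx
    rw [h2, map_zero] at h1
    exact Ideal.Quotient.eq_zero_iff_mem.1 h1.symm
  · rw [Ideal.map_le_iff_le_comap]
    intro x hx
    have h1 : φ x = 0 := hx
    change φ' (algebraMap P P' x) = 0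
    rw [hφ', h1, map_zero]

end Ker

section Main

variable {A A' B B' C C' : Type u} [CommRing A] [CommRing A'] [CommRing B] [CommRing B'] [CommRing C] [CommRing C']
  [Algebra A A'] [Algebra A B] [Algebra A B'] [Algebra A' B'] [Algebra B B'] [IsScalarTower A A' B']
  [IsScalarTower A B B'] [Algebra A C] [Algebra A C'] [Algebra A' C'] [Algebra C C'] [IsScalarTower A A' C']
  [IsScalarTower A C C'] [hB : Algebra.IsPushout A A' B B'] [hC : Algebra.IsPushout A A' C C']
  [Algebra B C] [Algebra B' C'] [IsScalarTower A B C] [IsScalarTower A' B' C']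
  [Module.Flat A B] [Module.Flat A C] [Algebra.FinitePresentation A B] [Algebra.FinitePresentation A C]

include A A' in
attribute [local instance] MvPolynomial.algebraMvPolynomial in
/-- The lci locus of a map of flat finitely presented `A`-algebras commutes with base change. -/
theorem exists_isLCI_iff (hw : (algebraMap C C').comp (algebraMap B C) = (algebraMap B' C').comp (algebraMap B B'))
    (r : Ideal C') [r.IsPrime] :
    (∃ c' : C', c' ∉ r ∧ IsLCI B' (Localization.Away c')) ↔
      ∃ c : C, c ∉ r.comap (algebraMap C C') ∧ IsLCI B (Localization.Away c) := by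
  have hft : Algebra.FiniteType B C := Algebra.FiniteType.of_restrictScalars_finiteType A B C
  obtain ⟨n, φ, hφ⟩ := Algebra.FiniteType.iff_quotient_mvPolynomial''.1 hft
  let φ' : MvPolynomial (Fin n) B' →ₐ[B'] C' :=
    MvPolynomial.aeval fun i => algebraMap C C' (φ (MvPolynomial.X i))
  have hcomp : ∀ x, φ' (algebraMap (MvPolynomial (Fin n) B) (MvPolynomial (Fin n) B') x) = algebraMap C C' (φ x) := by
    intro x
    have h1 : (φ'.toRingHom).comp (algebraMap (MvPolynomial (Fin n) B) (MvPolynomial (Fin n) B')) =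
        (algebraMap C C').comp φ.toRingHom := by
      apply MvPolynomial.ringHom_ext
      · intro b
        have h2 : φ (MvPolynomial.C b) = algebraMap B C b := φ.commutes b
        have h3 : φ' (MvPolynomial.C (algebraMap B B' b)) = algebraMap B' C' (algebraMap B B' b) := φ'.commutes _
        change φ' (algebraMap (MvPolynomial (Fin n) B) (MvPolynomial (Fin n) B') (MvPolynomial.C b)) =
          algebraMap C C' (φ (MvPolynomial.C b))
        rw [h2, MvPolynomial.algebraMap_def, MvPolynomial.map_C, h3]
        exact (RingHom.congr_fun hw b).symm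
      · intro i
        change φ' (algebraMap (MvPolynomial (Fin n) B) (MvPolynomial (Fin n) B') (MvPolynomial.X i)) =
          algebraMap C C' (φ (MvPolynomial.X i))
        rw [MvPolynomial.algebraMap_def, MvPolynomial.map_X]
        exact MvPolynomial.aeval_X _ _
    exact RingHom.congr_fun h1 x
  have hPP' : Algebra.IsPushout B (MvPolynomial (Fin n) B) B' (MvPolynomial (Fin n) B') := inferInstance
  have ht1 : IsScalarTower A (MvPolynomial (Fin n) B) (MvPolynomial (Fin n) B') :=
    IsScalarTower.of_algebraMap_eq (R := A) (S := MvPolynomial (Fin n) B) (A := MvPolynomial (Fin n) B') fun a => by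
      rw [IsScalarTower.algebraMap_apply A B (MvPolynomial (Fin n) B), ← IsScalarTower.algebraMap_apply B _ (MvPolynomial (Fin n) B'),
        IsScalarTower.algebraMap_apply B B' (MvPolynomial (Fin n) B'), ← IsScalarTower.algebraMap_apply A B B',
        ← IsScalarTower.algebraMap_apply A B' (MvPolynomial (Fin n) B')]
  have hpo : Algebra.IsPushout A (MvPolynomial (Fin n) B) A' (MvPolynomial (Fin n) B') := by
    have h1 : Algebra.IsPushout A B A' B' := hB.symm
    exact (Algebra.IsPushout.comp_iff (R := A) (S := B) (R' := A') (S' := B') (T := MvPolynomial (Fin n) B)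
      (T' := MvPolynomial (Fin n) B')).2 hPP'
  have hpo' : Algebra.IsPushout A A' (MvPolynomial (Fin n) B) (MvPolynomial (Fin n) B') := hpo.symm
  have hflP : Module.Flat A (MvPolynomial (Fin n) B) := Module.Flat.trans A B _
  have hfpP : Algebra.FinitePresentation A (MvPolynomial (Fin n) B) := Algebra.FinitePresentation.trans A B _
  let φA : MvPolynomial (Fin n) B →ₐ[A] C := φ.restrictScalars A
  let φA' : MvPolynomial (Fin n) B' →ₐ[A'] C' := φ'.restrictScalars A'
  have hcomp' : ∀ x, φA' (algebraMap (MvPolynomial (Fin n) B) (MvPolynomial (Fin n) B') x) =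
    algebraMap C C' (φA x) := hcomp
  have hφ' : Function.Surjective φ' := surjective_of_isPushout (P := MvPolynomial (Fin n) B)
    (P' := MvPolynomial (Fin n) B') (C := C) (C' := C') φA hφ φA' hcomp'
  have hker : RingHom.ker φ'.toRingHom = (RingHom.ker φ.toRingHom).map
      (algebraMap (MvPolynomial (Fin n) B) (MvPolynomial (Fin n) B')) :=
    ker_of_isPushout (P := MvPolynomial (Fin n) B) (P' := MvPolynomial (Fin n) B') (C := C) (C' := C') φA hφ φA' hcomp'
  have hfg : (RingHom.ker φ.toRingHom).FG := Algebra.FinitePresentation.ker_fG_of_surjective φA hφ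
  have hflI : Module.Flat A (MvPolynomial (Fin n) B ⧸ RingHom.ker φ.toRingHom) :=
    Module.Flat.of_linearEquiv (Ideal.quotientKerAlgEquivOfSurjective (f := φA) hφ).toLinearEquiv
  rw [exists_isLCI_away_iff φ hφ, exists_isLCI_away_iff φ' hφ', hker]
  have hprime : (r.comap φ'.toRingHom).comap (algebraMap (MvPolynomial (Fin n) B) (MvPolynomial (Fin n) B')) =
      (r.comap (algebraMap C C')).comap φ.toRingHom := by
    ext x
    change φ' (algebraMap _ _ x) ∈ r ↔ algebraMap C C' (φ x) ∈ r
    rw [hcomp]
  constructor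
  · rintro ⟨g', hg', h⟩
    rw [← hprime]
    exact KoszulFibre.exists_genK_of_baseChange (A := A) (A' := A') (P := MvPolynomial (Fin n) B)
      (P' := MvPolynomial (Fin n) B') (RingHom.ker φ.toRingHom) hfg (r.comap φ'.toRingHom) g' hg' h
  · rintro ⟨g, hg, h⟩
    refine ⟨algebraMap _ _ g, ?_, KoszulFibre.genK_baseChange (A := A) (A' := A') (P := MvPolynomial (Fin n) B)
      (P' := MvPolynomial (Fin n) B') (RingHom.ker φ.toRingHom) g h⟩
    rw [← hprime] at hg
    exact hg

end Main

end Groth.Agent.Flat2H.LCILocus
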