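import Groth.Agent.Flat2H.KoszulIdeal
import Mathlib.RingTheory.Polynomial.Quotient
import Mathlib.Algebra.Polynomial.Derivation
import Mathlib.Algebra.MvPolynomial.Equiv
import Mathlib.RingTheory.Localization.Away.AdjoinRoot
import Mathlib.RingTheory.Polynomial.Basic

/-!
# Local complete intersection ring maps (frozen `LCI.IsLCI`): independence of the presentation
-/

set_option autoImplicit false

universe u v

namespace Groth.Agent.Flat2H.LCIMaps

open LCI KoszulSeq KoszulWrap KoszulIdeal

/-- The kernel is a Koszul-regular ideal. -/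
def KerK {R B : Type u} [CommRing R] [CommRing B] (π : R →+* B) : Prop :=
  IsKoszulRegularIdeal (RingHom.ker π)

variable {R R' B B' : Type u} [CommRing R] [CommRing R'] [CommRing B] [CommRing B']

lemma KerK.comp_equiv {π : R →+* B} (h : KerK π) (e : R' ≃+* R) : KerK (π.comp (e : R' →+* R)) := by
  let := (e.symm : R →+* R').toAlgebra
  have : Module.Flat R R' := by
    rw [← RingHom.flat_algebraMap_iff]
    exact RingHom.Flat.of_bijective e.symm.bijective
  have h1 := IsKoszulRegularIdeal.map (B := R') h
  have h2 : (RingHom.ker π).map (algebraMap R R') = RingHom.ker (π.comp (e : R' →+* R)) := by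
    rw [← RingHom.comap_ker]
    exact Ideal.map_symm e
  rwa [h2] at h1

lemma kerK_comp_equiv_iff (π : R →+* B) (e : R' ≃+* R) : KerK (π.comp (e : R' →+* R)) ↔ KerK π := by
  refine ⟨fun h => ?_, fun h => h.comp_equiv e⟩
  have := h.comp_equiv e.symm
  rwa [RingHom.comp_assoc, RingEquiv.comp_symm, RingHom.comp_id] at this

lemma kerK_equiv_comp_iff (π : R →+* B) (e : B ≃+* B') : KerK ((e : B →+* B').comp π) ↔ KerK π := by
  have : RingHom.ker ((e : B →+* B').comp π) = RingHom.ker π := by
    ext x
    simp [RingHom.mem_ker]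
  unfold KerK
  rw [this]

open Polynomial in
/-- Adding one variable to a presentation. -/
lemma kerK_eval₂_iff (π : R →+* B) (hπ : Function.Surjective π) (b : B) :
    KerK (eval₂RingHom π b) ↔ KerK π := by
  obtain ⟨g, rfl⟩ := hπ b
  have h1 : eval₂RingHom π (π g) = π.comp (evalRingHom g) := by
    ext <;> simp
  have hs : Function.Surjective (evalRingHom g) := fun x => ⟨C x, by simp⟩
  have hk : RingHom.ker (evalRingHom g) = Ideal.span {X - C g} := by
    exact ker_evalRingHom g
  have hnz : (X - C g : R[X]) ∈ nonZeroDivisors R[X] := (monic_X_sub_C g).mem_nonZeroDivisors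
  have hcomap : RingHom.ker (eval₂RingHom π (π g)) = (RingHom.ker π).comap (evalRingHom g) := by
    rw [h1, RingHom.comap_ker]
  constructor
  · intro h
    unfold KerK at h
    rw [hcomap] at h
    refine isKoszulRegularIdeal_of_comap (evalRingHom g) hs (X - C g) hnz hk h
      ((derivative' : Derivation R R[X] R[X]).restrictScalars ℤ) (fun q hq _ h1 => ?_)
    have h2 : ((derivative' : Derivation R R[X] R[X]).restrictScalars ℤ) (X - C g) = 1 := by
      change derivative (X - C g) = 1
      simp
    exact hq.ne_top ((Ideal.eq_top_iff_one q).2 (h2 ▸ h1))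
  · intro h
    unfold KerK
    rw [hcomap]
    refine IsKoszulRegularIdeal.comap (evalRingHom g) hs ?_ h
    rw [hk]
    exact GenK.isKoszulRegularIdeal ⟨[X - C g], isKoszulRegularSeq_singleton hnz, by simp⟩

/-- Adding finitely many variables to a presentation. -/
lemma kerK_mvPolynomial_fin_iff (π : R →+* B) (hπ : Function.Surjective π) (m : ℕ)
    (b : Fin m → B) : KerK (MvPolynomial.eval₂Hom π b) ↔ KerK π := by
  induction m with
  | zero =>
    rw [← kerK_comp_equiv_iff π (MvPolynomial.isEmptyRingEquiv R (Fin 0))]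
    have : MvPolynomial.eval₂Hom π b =
        π.comp (MvPolynomial.isEmptyRingEquiv R (Fin 0) : MvPolynomial (Fin 0) R →+* R) := by
      apply MvPolynomial.ringHom_ext
      · intro r
        rw [MvPolynomial.eval₂Hom_C, RingHom.comp_apply]
        exact congrArg π ((MvPolynomial.isEmptyRingEquiv R (Fin 0)).apply_symm_apply r).symm
      · intro i
        exact i.elim0
    rw [this]
  | succ m ih =>
    have hs : Function.Surjective (MvPolynomial.eval₂Hom π (fun i => b (Fin.succ i))) :=
      fun x => by
        obtain ⟨y, rfl⟩ := hπ x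
        exact ⟨MvPolynomial.C y, by simp⟩
    rw [← ih (fun i => b (Fin.succ i)), ← kerK_eval₂_iff _ hs (b 0),
      ← kerK_comp_equiv_iff _ (MvPolynomial.finSuccEquiv R m).toRingEquiv]
    have : MvPolynomial.eval₂Hom π b = (Polynomial.eval₂RingHom
        (MvPolynomial.eval₂Hom π (fun i => b (Fin.succ i))) (b 0)).comp
          ((MvPolynomial.finSuccEquiv R m).toRingEquiv : MvPolynomial (Fin (m + 1)) R →+* _) := by
      apply MvPolynomial.ringHom_ext
      · intro r
        simp [MvPolynomial.finSuccEquiv_apply]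
      · intro i
        refine Fin.cases ?_ (fun j => ?_) i
        · simp [MvPolynomial.finSuccEquiv_X_zero]
        · simp [MvPolynomial.finSuccEquiv_X_succ]
    rw [this]

/-- Adding finitely many variables to a presentation. -/
lemma kerK_mvPolynomial_iff (π : R →+* B) (hπ : Function.Surjective π) {ι : Type} [Finite ι]
    (b : ι → B) : KerK (MvPolynomial.eval₂Hom π b) ↔ KerK π := by
  obtain ⟨m, ⟨e⟩⟩ := Finite.exists_equiv_fin ι
  rw [← kerK_mvPolynomial_fin_iff π hπ m (b ∘ e.symm),
    ← kerK_comp_equiv_iff _ (MvPolynomial.renameEquiv R e).toRingEquiv]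
  have : MvPolynomial.eval₂Hom π b = (MvPolynomial.eval₂Hom π (b ∘ e.symm)).comp
      ((MvPolynomial.renameEquiv R e).toRingEquiv : MvPolynomial ι R →+* _) := by
    apply MvPolynomial.ringHom_ext
    · intro r
      simp
    · intro i
      simp
  rw [this]

section Algebra

variable {A : Type u} [CommRing A] [Algebra A B]

/-- Independence of the presentation [07CZ]. -/
theorem kerK_of_kerK {ι κ : Type} [Finite ι] [Finite κ] (φ : MvPolynomial ι A →ₐ[A] B)
    (hφ : Function.Surjective φ) (ψ : MvPolynomial κ A →ₐ[A] B) (hψ : Function.Surjective ψ)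
    (h : KerK φ.toRingHom) : KerK ψ.toRingHom := by
  -- the joint presentation
  let χ : MvPolynomial (ι ⊕ κ) A →ₐ[A] B :=
    MvPolynomial.aeval (Sum.elim (fun i => φ (MvPolynomial.X i)) (fun j => ψ (MvPolynomial.X j)))
  have h1 : KerK χ.toRingHom ↔ KerK ψ.toRingHom := by
    rw [← kerK_mvPolynomial_iff ψ.toRingHom hψ (fun i => φ (MvPolynomial.X i)),
      ← kerK_comp_equiv_iff _ (MvPolynomial.sumAlgEquiv A ι κ).toRingEquiv]
    have : χ.toRingHom = (MvPolynomial.eval₂Hom ψ.toRingHom (fun i => φ (MvPolynomial.X i))).comp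
      ((MvPolynomial.sumAlgEquiv A ι κ).toRingEquiv : MvPolynomial (ι ⊕ κ) A →+* _) := by
      apply MvPolynomial.ringHom_ext
      · intro r
        simp [MvPolynomial.sumAlgEquiv_C_inl]
      · rintro (i | i)
        · simp [χ, MvPolynomial.sumAlgEquiv_X_inl]
        · simp [χ, MvPolynomial.sumAlgEquiv_X_inr]
    rw [this]
  have h2 : KerK χ.toRingHom ↔ KerK φ.toRingHom := by
    rw [← kerK_mvPolynomial_iff φ.toRingHom hφ (fun i => ψ (MvPolynomial.X i)),
      ← kerK_comp_equiv_iff _ (((MvPolynomial.renameEquiv A (Equiv.sumComm ι κ)).trans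
        (MvPolynomial.sumAlgEquiv A κ ι)).toRingEquiv)]
    have : χ.toRingHom = (MvPolynomial.eval₂Hom φ.toRingHom (fun i => ψ (MvPolynomial.X i))).comp
      ((((MvPolynomial.renameEquiv A (Equiv.sumComm ι κ)).trans
        (MvPolynomial.sumAlgEquiv A κ ι)).toRingEquiv) : MvPolynomial (ι ⊕ κ) A →+* _) := by
      apply MvPolynomial.ringHom_ext
      · intro r
        simp
      · rintro (i | i)
        · simp [χ, MvPolynomial.sumAlgEquiv_X_inr]
        · simp [χ, MvPolynomial.sumAlgEquiv_X_inl]
    rw [this]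
  exact h1.1 (h2.2 h)

/-- Independence of the presentation for `IsLCI`. -/
theorem IsLCI.kerK (h : IsLCI A B) {ι : Type} [Finite ι] (φ : MvPolynomial ι A →ₐ[A] B)
    (hφ : Function.Surjective φ) : KerK φ.toRingHom := by
  obtain ⟨-, n, f, hf, hk⟩ := h
  exact kerK_of_kerK f hf φ hφ hk

theorem isLCI_of_kerK {ι : Type} [Finite ι] (φ : MvPolynomial ι A →ₐ[A] B)
    (hφ : Function.Surjective φ) (h : KerK φ.toRingHom) : IsLCI A B := by
  obtain ⟨m, ⟨e⟩⟩ := Finite.exists_equiv_fin ι
  have hs : Function.Surjective (φ.comp (MvPolynomial.renameEquiv A e).symm.toAlgHom) :=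
    hφ.comp (MvPolynomial.renameEquiv A e).symm.surjective
  refine ⟨Algebra.FiniteType.of_surjective (φ.comp (MvPolynomial.renameEquiv A e).symm.toAlgHom) hs,
    m, φ.comp (MvPolynomial.renameEquiv A e).symm.toAlgHom, hs, ?_⟩
  exact KerK.comp_equiv h (MvPolynomial.renameEquiv A e).symm.toRingEquiv

/-- Version for an abstract polynomial algebra `P`. -/
theorem IsLCI.kerK_of_equiv (h : IsLCI A B) {ι : Type} [Finite ι] {P : Type u} [CommRing P]
    [Algebra A P] (e : P ≃ₐ[A] MvPolynomial ι A) (φ : P →ₐ[A] B) (hφ : Function.Surjective φ) :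
    KerK φ.toRingHom := by
  have h1 := IsLCI.kerK h (φ.comp e.symm.toAlgHom) (hφ.comp e.symm.surjective)
  have h2 := KerK.comp_equiv h1 e.toRingEquiv
  have h3 : ((φ.comp e.symm.toAlgHom).toRingHom).comp (e.toRingEquiv : P →+* _) = φ.toRingHom := by
    ext x
    simp
  rwa [h3] at h2

theorem isLCI_of_kerK_of_equiv {ι : Type} [Finite ι] {P : Type u} [CommRing P]
    [Algebra A P] (e : P ≃ₐ[A] MvPolynomial ι A) (φ : P →ₐ[A] B) (hφ : Function.Surjective φ)
    (h : KerK φ.toRingHom) : IsLCI A B :=
  isLCI_of_kerK (φ.comp e.symm.toAlgHom) (hφ.comp e.symm.surjective)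
    (KerK.comp_equiv h e.symm.toRingEquiv)

end Algebra

section Away

open Polynomial

variable {P P' : Type u} [CommRing P] [CommRing P'] [Algebra P P']

lemma C_mul_X_sub_one_mem_nonZeroDivisors (h : P) : (C h * X - 1 : P[X]) ∈ nonZeroDivisors P[X] := by
  rw [Polynomial.mem_nonZeroDivisors_iff]
  intro a ha
  have := congrArg (fun p => coeff p 0) ha
  simpa using this

/-- The surjection `P[X] → P_h`, `X ↦ 1/h`. -/
lemma exists_surj_away (h : P) [IsLocalization.Away h P'] :
    Function.Surjective (eval₂RingHom (algebraMap P P') (IsLocalization.Away.invSelf h)) ∧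
    RingHom.ker (eval₂RingHom (algebraMap P P') (IsLocalization.Away.invSelf h)) =
      Ideal.span {C h * X - 1} := by
  have := IsLocalization.adjoin_inv h
  let e : AdjoinRoot (C h * X - 1) ≃ₐ[P] P' :=
    IsLocalization.algEquiv (Submonoid.powers h) (AdjoinRoot (C h * X - 1)) P'
  have key : eval₂RingHom (algebraMap P P') (IsLocalization.Away.invSelf h) =
      (e : AdjoinRoot (C h * X - 1) →+* P').comp (AdjoinRoot.mk (C h * X - 1)) := by
    apply Polynomial.ringHom_ext
    · intro a
      simp
    · have h1 : algebraMap P P' h * e (AdjoinRoot.root (C h * X - 1)) = 1 := by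
        rw [← e.commutes, ← map_mul, ← map_one e]
        congr 1
        have h5 := AdjoinRoot.eval₂_root (C h * X - 1)
        rw [eval₂_sub, eval₂_mul, eval₂_C, eval₂_X, eval₂_one, sub_eq_zero] at h5
        exact h5
      have h2 : algebraMap P P' h * IsLocalization.Away.invSelf h = 1 :=
        IsLocalization.Away.mul_invSelf h
      have h3 : IsUnit (algebraMap P P' h) := IsLocalization.Away.algebraMap_isUnit h
      simpa using h3.mul_left_cancel (h2.trans h1.symm)
  constructor
  · rw [key]
    exact e.surjective.comp AdjoinRoot.mk_surjective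
  · rw [key]
    ext x
    rw [RingHom.mem_ker, RingHom.comp_apply]
    have : (e : AdjoinRoot (C h * X - 1) →+* P') (AdjoinRoot.mk (C h * X - 1) x) = 0 ↔
        AdjoinRoot.mk (C h * X - 1) x = 0 := e.toRingEquiv.map_eq_zero_iff
    rw [this, AdjoinRoot.mk_eq_zero, Ideal.mem_span_singleton]

/-- Presentations of a localization. -/
lemma kerK_away_iff (h : P) [IsLocalization.Away h P'] (φ : P' →+* B) :
    KerK (eval₂RingHom (φ.comp (algebraMap P P')) (φ (IsLocalization.Away.invSelf h))) ↔ KerK φ := by
  obtain ⟨hs, hk⟩ := exists_surj_away (P' := P') h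
  have h1 : eval₂RingHom (φ.comp (algebraMap P P')) (φ (IsLocalization.Away.invSelf h)) =
      φ.comp (eval₂RingHom (algebraMap P P') (IsLocalization.Away.invSelf h)) := by
    ext <;> simp
  have hcomap : RingHom.ker (eval₂RingHom (φ.comp (algebraMap P P'))
      (φ (IsLocalization.Away.invSelf h))) = (RingHom.ker φ).comap
        (eval₂RingHom (algebraMap P P') (IsLocalization.Away.invSelf h)) := by
    rw [h1, RingHom.comap_ker]
  have hle : Ideal.span {C h * X - 1} ≤ (RingHom.ker φ).comap
        (eval₂RingHom (algebraMap P P') (IsLocalization.Away.invSelf h)) := by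
    rw [← hk]
    intro x hx
    rw [Ideal.mem_comap, RingHom.mem_ker.1 hx]
    exact zero_mem _
  unfold KerK
  rw [hcomap]
  constructor
  · intro H
    refine isKoszulRegularIdeal_of_comap _ hs (C h * X - 1)
      (C_mul_X_sub_one_mem_nonZeroDivisors h) hk H
      ((derivative' : Derivation P P[X] P[X]).restrictScalars ℤ) (fun q hq hle' h1 => ?_)
    have h2 : derivative (C h * X - 1) = C h := by simp
    replace h1 : derivative (C h * X - 1) ∈ q := h1
    rw [h2] at h1
    refine hq.ne_top ((Ideal.eq_top_iff_one q).2 ?_)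
    have h3 := hle' (hle (Ideal.mem_span_singleton_self _))
    have h4 := sub_mem (Ideal.mul_mem_right X q h1) h3
    simpa using h4
  · intro H
    refine IsKoszulRegularIdeal.comap _ hs ?_ H
    rw [hk]
    exact GenK.isKoszulRegularIdeal ⟨[C h * X - 1], isKoszulRegularSeq_singleton
      (C_mul_X_sub_one_mem_nonZeroDivisors h), by simp⟩

end Away

end Groth.Agent.Flat2H.LCIMaps
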