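import Groth.Agent.Flat2H.FamOpen
import Mathlib.AlgebraicGeometry.AffineTransitionLimit

/-!
# Sections over a compact open of a stage of a cofiltered limit with affine transition maps
-/

set_option autoImplicit false
universe u

open CategoryTheory Limits AlgebraicGeometry TopologicalSpace Opposite

namespace Groth.Agent.Flat2H.LimitSections

open Groth.Agent.Fdesc.LocGen

variable {I : Type u} [Category.{u} I] (D : I ⥤ Scheme.{u}) (c : Cone D) (hc : IsLimit c)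

theorem le_preimage {i j : I} (f : j ⟶ i) (U : (D.obj i).Opens) :
    c.π.app i ⁻¹ᵁ U ≤ c.π.app j ⁻¹ᵁ (D.map f ⁻¹ᵁ U) := by
  rw [← Scheme.Hom.comp_preimage, c.w]

theorem preimage_preimage {i j : I} (f : j ⟶ i) (U : (D.obj i).Opens) :
    c.π.app j ⁻¹ᵁ (D.map f ⁻¹ᵁ U) = c.π.app i ⁻¹ᵁ U := by
  rw [← Scheme.Hom.comp_preimage, c.w]

variable {D c}

include hc in
/-- Every section over (the preimage of) a compact open of a stage is defined at a later stage. -/
theorem exists_app_eq [IsCofiltered I] [∀ {i j} (f : i ⟶ j), IsAffineHom (D.map f)]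
    [∀ i, QuasiSeparatedSpace (D.obj i)] {i : I} (U : (D.obj i).Opens) (hU : IsCompact (U : Set (D.obj i)))
    (s : Γ(c.pt, c.π.app i ⁻¹ᵁ U)) :
    ∃ (j : I) (f : j ⟶ i) (t : Γ(D.obj j, D.map f ⁻¹ᵁ U)),
      (c.π.app j).appLE (D.map f ⁻¹ᵁ U) (c.π.app i ⁻¹ᵁ U) (le_preimage D c f U) t = s := by
  have (j : Over i) : CompactSpace ((opensDiagram D i U).obj j) :=
    isCompact_iff_compactSpace.mp (QuasiCompact.isCompact_preimage _ U.2 hU)
  have (j : Over i) : QuasiSeparatedSpace ((opensDiagram D i U).obj j) :=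
    (isQuasiSeparated_iff_quasiSeparatedSpace _ (D.map _ ⁻¹ᵁ _).2).mp (.of_quasiSeparatedSpace _)
  obtain ⟨j, t, ht⟩ := exists_appTop_π_eq_of_isLimit _ _ (isLimitOpensCone D c hc i U)
    ((c.π.app i ⁻¹ᵁ U).topIso.inv s)
  refine ⟨j.left, j.hom, (D.map j.hom ⁻¹ᵁ U).topIso.hom t, ?_⟩
  have h1 := congrArg (c.π.app i ⁻¹ᵁ U).topIso.hom ht
  have h2 : (c.π.app i ⁻¹ᵁ U).topIso.hom ((c.π.app i ⁻¹ᵁ U).topIso.inv s) = s := by
    rw [← ConcreteCategory.comp_apply, Iso.inv_hom_id]; rfl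
  rw [h2] at h1
  rw [h1]
  change _ = (c.π.app i ⁻¹ᵁ U).topIso.hom (((c.π.app j.left).resLE (D.map j.hom ⁻¹ᵁ U) (c.π.app i ⁻¹ᵁ U)
    (le_preimage D c j.hom U)).appTop t)
  rw [← ConcreteCategory.comp_apply, ← ConcreteCategory.comp_apply]
  congr 2
  rw [Scheme.Hom.appTop, Scheme.Hom.resLE_app_top, Category.assoc, Category.assoc, Iso.inv_hom_id,
    Category.comp_id]

/-! ### `appLE` bookkeeping -/

section appLE

variable {X Y Z : Scheme.{u}}

theorem appLE_appLE (f : X ⟶ Y) (g : Y ⟶ Z) {U : Z.Opens} {V : Y.Opens} {W : X.Opens} (e₁ : V ≤ g ⁻¹ᵁ U)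
    (e₂ : W ≤ f ⁻¹ᵁ V) (t : Γ(Z, U)) :
    f.appLE V W e₂ (g.appLE U V e₁ t) = (f ≫ g).appLE U W (e₂.trans (f.preimage_mono e₁)) t := by
  rw [← ConcreteCategory.comp_apply, Scheme.Hom.appLE_comp_appLE]

theorem appLE_congr_hom {f f' : X ⟶ Y} (h : f = f') {U : Y.Opens} {V : X.Opens} (e : V ≤ f ⁻¹ᵁ U)
    (t : Γ(Y, U)) : f.appLE U V e t = f'.appLE U V (h ▸ e) t := by
  subst h; rfl

theorem ores_appLE (f : X ⟶ Y) {U : Y.Opens} {V V' : X.Opens} (e : V ≤ f ⁻¹ᵁ U) (h : V' ≤ V) (t : Γ(Y, U)) :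
    ores h (f.appLE U V e t) = f.appLE U V' (h.trans e) t := by
  change X.presheaf.map (homOfLE h).op (f.appLE U V e t) = _
  rw [← ConcreteCategory.comp_apply, Scheme.Hom.appLE_map]

theorem appLE_ores (f : X ⟶ Y) {U U' : Y.Opens} {V : X.Opens} (e : V ≤ f ⁻¹ᵁ U) (h : U ≤ U') (t : Γ(Y, U')) :
    f.appLE U V e (ores h t) = f.appLE U' V (e.trans (f.preimage_mono h)) t := by
  change f.appLE U V e (Y.presheaf.map (homOfLE h).op t) = _
  rw [← ConcreteCategory.comp_apply, Scheme.Hom.map_appLE]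

theorem appLE_eq_ores_app (f : X ⟶ Y) {U : Y.Opens} {V : X.Opens} (e : V ≤ f ⁻¹ᵁ U) (t : Γ(Y, U)) :
    f.appLE U V e t = ores e (f.app U t) := rfl

theorem appLE_id (X : Scheme.{u}) {U V : X.Opens} (h : V ≤ U) (t : Γ(X, U)) :
    (𝟙 X : X ⟶ X).appLE U V h t = ores h t := by
  rw [appLE_eq_ores_app, Scheme.Hom.id_app]; rfl

end appLE

variable [IsCofiltered I] [∀ {i j} (f : i ⟶ j), IsAffineHom (D.map f)]

include hc in
/-- Two sections over compact opens of a stage that agree in the limit agree at a later stage (`appLE` version). -/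
theorem exists_appLE_eq {i : I} {U : (D.obj i).Opens} (hU : IsCompact (U : Set (D.obj i))) (s t : Γ(D.obj i, U))
    (V : c.pt.Opens) (hV : c.π.app i ⁻¹ᵁ U ≤ V) (hV' : V ≤ c.π.app i ⁻¹ᵁ U)
    (h : (c.π.app i).appLE U V hV' s = (c.π.app i).appLE U V hV' t) :
    ∃ (j : I) (f : j ⟶ i), (D.map f).app U s = (D.map f).app U t := by
  obtain rfl := le_antisymm hV hV'
  rw [Scheme.Hom.appLE_eq_app] at h
  exact exists_app_map_eq_map_of_isLimit _ _ hc hU s t h

include hc in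
/-- A compact open of a stage whose preimage in the limit is affine becomes affine at a later stage. -/
theorem exists_isAffineOpen_preimage [∀ i, QuasiSeparatedSpace (D.obj i)] {i : I} (U : (D.obj i).Opens)
    (hU : IsCompact (U : Set (D.obj i))) (hU' : IsAffineOpen (c.π.app i ⁻¹ᵁ U)) :
    ∃ (j : I) (f : j ⟶ i), IsAffineOpen (D.map f ⁻¹ᵁ U) := by
  have (j : Over i) : CompactSpace ((opensDiagram D i U).obj j) :=
    isCompact_iff_compactSpace.mp (QuasiCompact.isCompact_preimage _ U.2 hU)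
  have (j : Over i) : QuasiSeparatedSpace ((opensDiagram D i U).obj j) :=
    (isQuasiSeparated_iff_quasiSeparatedSpace _ (D.map _ ⁻¹ᵁ _).2).mp (.of_quasiSeparatedSpace _)
  have : IsAffine (opensCone D c i U).pt := hU'
  obtain ⟨j, hj⟩ := Scheme.exists_isAffine_of_isLimit _ _ (isLimitOpensCone D c hc i U)
  exact ⟨j.left, j.hom, hj⟩

end Groth.Agent.Flat2H.LimitSections
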