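import Groth.Agent.Flat2H.PCHom
import Mathlib.RingTheory.LocalProperties.Basic
import Mathlib.RingTheory.RingHomProperties

/-!
# Pseudo-coherent ring maps: local nature, as properties of ring homomorphisms
-/

set_option autoImplicit false
set_option linter.style.haveILetI false
universe u

namespace Groth.Agent.Flat2H

open TensorProduct MvPolynomial

section

variable {A B : Type u} [CommRing A] [CommRing B] [Algebra A B]

/-- The key local statement: if `P = A[x_i] → B` is surjective, `f ∈ P`, and `A → B_f` is
pseudo-coherent then `B_f` is `FPInf` over `P_f`. -/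
theorem PCHom.fpInf_away_aux {n : ℕ} [Algebra (MvPolynomial (Fin n) A) B]
    (hφ : Function.Surjective (algebraMap (MvPolynomial (Fin n) A) B))
    (f : MvPolynomial (Fin n) A) (Pf Bb : Type u) [CommRing Pf] [CommRing Bb]
    [Algebra (MvPolynomial (Fin n) A) Pf] [Algebra (MvPolynomial (Fin n) A) Bb] [Algebra B Bb]
    [IsScalarTower (MvPolynomial (Fin n) A) B Bb] [Algebra Pf Bb]
    [IsScalarTower (MvPolynomial (Fin n) A) Pf Bb] [Algebra A Pf]
    [IsScalarTower A (MvPolynomial (Fin n) A) Pf] [Algebra A Bb]
    [IsScalarTower A (MvPolynomial (Fin n) A) Bb] [IsScalarTower A Pf Bb]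
    [IsLocalization.Away f Pf]
    [IsLocalization.Away (algebraMap (MvPolynomial (Fin n) A) B f) Bb]
    (h : PCHom A Bb) : FPInf Pf Bb := by
  let P := MvPolynomial (Fin n) A
  have hu : IsUnit (algebraMap P Bb f) := by
    rw [IsScalarTower.algebraMap_apply P B Bb]
    exact IsLocalization.Away.algebraMap_isUnit (S := Bb) (algebraMap P B f)
  let χ₀ : Polynomial (MvPolynomial (Fin n) A) →ₐ[A] Bb :=
    (IsScalarTower.toAlgHom A Pf Bb).comp
      ((Polynomial.aeval (IsLocalization.Away.invSelf f : Pf) :
        Polynomial (MvPolynomial (Fin n) A) →ₐ[MvPolynomial (Fin n) A] Pf).restrictScalars A)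
  have hχ₀C : ∀ p, χ₀ (Polynomial.C p) = algebraMap (MvPolynomial (Fin n) A) Bb p := by
    intro p
    simp only [χ₀, AlgHom.coe_comp, AlgHom.coe_restrictScalars', Function.comp_apply,
      Polynomial.aeval_C, IsScalarTower.coe_toAlgHom']
    rw [← IsScalarTower.algebraMap_apply]
  have hχ₀X : χ₀ Polynomial.X * algebraMap (MvPolynomial (Fin n) A) Bb f = 1 := by
    simp only [χ₀, AlgHom.coe_comp, AlgHom.coe_restrictScalars', Function.comp_apply,
      Polynomial.aeval_X, IsScalarTower.coe_toAlgHom']
    rw [IsScalarTower.algebraMap_apply P Pf Bb f, ← map_mul, mul_comm,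
        IsLocalization.Away.mul_invSelf, map_one]
  have hχ₀ : Function.Surjective χ₀ := by
    intro y
    obtain ⟨k, x, hx⟩ := IsLocalization.Away.surj (algebraMap P B f) y
    obtain ⟨p, rfl⟩ := hφ x
    refine ⟨Polynomial.C p * Polynomial.X ^ k, ?_⟩
    have hu2 : IsUnit (algebraMap P Bb f ^ k) := hu.pow k
    apply hu2.mul_left_cancel
    rw [← IsScalarTower.algebraMap_apply P B Bb, ← IsScalarTower.algebraMap_apply P B Bb] at hx
    rw [mul_comm _ y, hx, map_mul, map_pow, hχ₀C, mul_left_comm, ← mul_pow,
      mul_comm (algebraMap P Bb f), hχ₀X]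
    simp [P]
  let χ : MvPolynomial (Option (Fin n)) A →ₐ[A] Bb := χ₀.comp (optionEquivLeft A (Fin n)).toAlgHom
  have hχ : Function.Surjective χ := hχ₀.comp (optionEquivLeft A (Fin n)).surjective
  have h1 : PCMap χ.toRingHom := h.pcMap χ hχ
  have h2 : PCMap (algebraMap Pf Bb) := by
    refine (PCMap.polynomial_away f Pf).of_comp ?_
    exact (PCMap.of_comp_bij (optionEquivLeft A (Fin n)).bijective
      (χ := χ.toRingHom) rfl).1 h1
  exact pcMap_algebraMap_iff.1 h2

theorem awayMap_tower {P B : Type u} [CommRing P] [CommRing B] [Algebra P B] (f : P) :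
    letI := (Localization.awayMap (algebraMap P B) f).toAlgebra
    IsScalarTower P (Localization.Away f) (Localization.Away (algebraMap P B f)) := by
  letI := (Localization.awayMap (algebraMap P B) f).toAlgebra
  refine IsScalarTower.of_algebraMap_eq' ?_
  rw [IsScalarTower.algebraMap_eq P B (Localization.Away (algebraMap P B f))]
  have : (Submonoid.powers f) ≤ (Submonoid.powers (algebraMap P B f)).comap (algebraMap P B) := by
    rintro _ ⟨n, rfl⟩
    exact ⟨n, by simp⟩
  exact (IsLocalization.map_comp (S := Localization.Away f)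
    (Q := Localization.Away (algebraMap P B f)) this).symm

theorem fpInf_tensor_away {P B : Type u} [CommRing P] [CommRing B] [Algebra P B] (f : P)
    (H : letI := (Localization.awayMap (algebraMap P B) f).toAlgebra
      FPInf (Localization.Away f) (Localization.Away (algebraMap P B f))) :
    FPInf (Localization.Away f) (Localization.Away f ⊗[P] B) := by
  letI := (Localization.awayMap (algebraMap P B) f).toAlgebra
  haveI := awayMap_tower (B := B) f
  haveI : IsLocalization (Algebra.algebraMapSubmonoid B (Submonoid.powers f))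
      (Localization.Away (algebraMap P B f)) := by
    rw [Algebra.algebraMapSubmonoid_powers]
    infer_instance
  have hloc : IsLocalizedModule (Submonoid.powers f)
      (IsScalarTower.toAlgHom P B (Localization.Away (algebraMap P B f))).toLinearMap :=
    isLocalizedModule_iff_isLocalization.2 inferInstance
  have hbc : IsBaseChange (Localization.Away f)
      (IsScalarTower.toAlgHom P B (Localization.Away (algebraMap P B f))).toLinearMap :=
    IsLocalizedModule.isBaseChange (Submonoid.powers f) (Localization.Away f) _
  exact H.of_equiv hbc.equiv.symm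

theorem PCHom.fpInf_away {n : ℕ} [Algebra (MvPolynomial (Fin n) A) B]
    [IsScalarTower A (MvPolynomial (Fin n) A) B]
    (hφ : Function.Surjective (algebraMap (MvPolynomial (Fin n) A) B))
    (f : MvPolynomial (Fin n) A)
    (h : PCHom A (Localization.Away (algebraMap (MvPolynomial (Fin n) A) B f))) :
    FPInf (Localization.Away f) (Localization.Away f ⊗[MvPolynomial (Fin n) A] B) := by
  apply fpInf_tensor_away
  letI := (Localization.awayMap (algebraMap (MvPolynomial (Fin n) A) B) f).toAlgebra
  haveI := awayMap_tower (B := B) f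
  haveI : IsScalarTower A (MvPolynomial (Fin n) A)
      (Localization.Away (algebraMap (MvPolynomial (Fin n) A) B f)) :=
    IsScalarTower.of_algebraMap_eq' (by
      rw [IsScalarTower.algebraMap_eq A B (Localization.Away (algebraMap (MvPolynomial (Fin n) A) B f)),
        IsScalarTower.algebraMap_eq A (MvPolynomial (Fin n) A) B, ← RingHom.comp_assoc,
        ← IsScalarTower.algebraMap_eq])
  haveI : IsScalarTower A (Localization.Away f)
      (Localization.Away (algebraMap (MvPolynomial (Fin n) A) B f)) :=
    IsScalarTower.of_algebraMap_eq' (by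
      rw [IsScalarTower.algebraMap_eq A (MvPolynomial (Fin n) A)
        (Localization.Away (algebraMap (MvPolynomial (Fin n) A) B f)),
        IsScalarTower.algebraMap_eq A (MvPolynomial (Fin n) A) (Localization.Away f),
        ← RingHom.comp_assoc, ← IsScalarTower.algebraMap_eq (MvPolynomial (Fin n) A)
          (Localization.Away f)])
  exact PCHom.fpInf_away_aux hφ f _ _ h

theorem PCHom.of_span_eq_top_target (s : Set B) (hs : Ideal.span s = ⊤)
    (h : ∀ b ∈ s, PCHom A (Localization.Away b)) : PCHom A B := by
  have hft : Algebra.FiniteType A B :=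
    Algebra.FiniteType.of_span_eq_top_target s hs (fun b hb => (h b hb).finiteType)
  obtain ⟨n, φ, hφ⟩ := Algebra.FiniteType.iff_quotient_mvPolynomial''.1 hft
  refine ⟨n, φ, hφ, ?_⟩
  letI : Algebra (MvPolynomial (Fin n) A) B := φ.toRingHom.toAlgebra
  haveI : IsScalarTower A (MvPolynomial (Fin n) A) B :=
    IsScalarTower.of_algebraMap_eq' φ.comp_algebraMap.symm
  change FPInf (MvPolynomial (Fin n) A) B
  let T : Set (MvPolynomial (Fin n) A) :=
    {f | FPInf (Localization.Away f) (Localization.Away f ⊗[MvPolynomial (Fin n) A] B)}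
  have hker : ∀ f, φ f = 0 → f ∈ T := by
    intro f hf
    have : Subsingleton (Localization.Away f ⊗[MvPolynomial (Fin n) A] B) := by
      refine ⟨fun x y => ?_⟩
      suffices H : ∀ x : Localization.Away f ⊗[MvPolynomial (Fin n) A] B, x = 0 by rw [H x, H y]
      intro x
      induction x with
      | zero => rfl
      | add x y hx hy => rw [hx, hy, add_zero]
      | tmul x b =>
        have h1 : x = f • (IsLocalization.Away.invSelf f * x) := by
          rw [Algebra.smul_def, ← mul_assoc, IsLocalization.Away.mul_invSelf, one_mul]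
        have h2 : f • b = 0 := by
          rw [Algebra.smul_def]
          change φ f * b = 0
          rw [hf, zero_mul]
        rw [h1, TensorProduct.smul_tmul, h2, TensorProduct.tmul_zero]
    intro n
    exact FPn.of_subsingleton _ _
  have hT : Ideal.span T = ⊤ := by
    have h1 : Ideal.map φ.toRingHom (Ideal.span T) = ⊤ := by
      rw [eq_top_iff, ← hs, Ideal.span_le]
      intro b hb
      obtain ⟨f, rfl⟩ := hφ b
      exact Ideal.mem_map_of_mem _ (Ideal.subset_span (PCHom.fpInf_away hφ f (h _ hb)))
    have h2 : (1 : B) ∈ Ideal.map φ.toRingHom (Ideal.span T) := h1 ▸ Submodule.mem_top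
    obtain ⟨t, ht, ht1⟩ := (Ideal.mem_map_iff_of_surjective φ.toRingHom hφ).1 h2
    rw [Ideal.eq_top_iff_one]
    have h3 : 1 - t ∈ Ideal.span T := Ideal.subset_span (hker _ (by
      have : φ t = 1 := ht1
      rw [map_sub, map_one, this, sub_self]))
    have := Ideal.add_mem _ h3 ht
    simpa using this
  exact FPInf.of_localizationSpan T hT (fun g => g.2)

end

end Groth.Agent.Flat2H
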