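import Groth.Agent.Flat2H.FPInf2
import Mathlib.Algebra.MvPolynomial.Equiv
import Mathlib.RingTheory.Polynomial.Ideal
import Mathlib.RingTheory.Finiteness.FiniteTypeLocal
import Mathlib.RingTheory.RingHomProperties
import Mathlib.RingTheory.RingHom.Flat
import Mathlib.RingTheory.RingHom.FaithfullyFlat

/-!
# Ring maps `R → S` with `S` of type FP_∞ as an `R`-module, and presentations by polynomial rings

* `PCMap φ`: `S` is `FPInf` over `R` through `φ : R →+* S`.
* `PCHom A B`: for some surjection `A[x_1, …, x_n] → B`, `B` is `FPInf` over the polynomial ring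
  (pseudo-coherent ring maps, Stacks 067H); independence of the presentation.
-/

set_option autoImplicit false
set_option linter.style.haveILetI false
universe u

namespace Groth.Agent.Flat2H

open TensorProduct MvPolynomial

/-- `S` is `FPInf` as an `R`-module through `φ`. -/
def PCMap {R S : Type u} [CommRing R] [CommRing S] (φ : R →+* S) : Prop :=
  letI := φ.toAlgebra
  FPInf R S

section

variable {R S T : Type u} [CommRing R] [CommRing S] [CommRing T]

theorem pcMap_algebraMap_iff [Algebra R S] : PCMap (algebraMap R S) ↔ FPInf R S := by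
  unfold PCMap
  have : (algebraMap R S).toAlgebra = (inferInstance : Algebra R S) := by
    apply Algebra.algebra_ext
    intro r; rfl
  rw [this]

theorem PCMap.finite {φ : R →+* S} (h : PCMap φ) : φ.Finite := by
  letI := φ.toAlgebra
  exact FPInf.finite h

theorem PCMap.comp {φ : R →+* S} {ψ : S →+* T} (hφ : PCMap φ) (hψ : PCMap ψ) : PCMap (ψ.comp φ) := by
  letI := φ.toAlgebra
  letI := ψ.toAlgebra
  letI := (ψ.comp φ).toAlgebra
  haveI : IsScalarTower R S T := IsScalarTower.of_algebraMap_eq' rfl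
  exact FPInf.trans_alg (R := R) (S := S) (T := T) hφ hψ

theorem PCMap.of_comp {φ : R →+* S} {ψ : S →+* T} (hφ : PCMap φ) (h : PCMap (ψ.comp φ)) : PCMap ψ := by
  letI := φ.toAlgebra
  letI := ψ.toAlgebra
  letI := (ψ.comp φ).toAlgebra
  haveI : IsScalarTower R S T := IsScalarTower.of_algebraMap_eq' rfl
  exact (FPInf.tower_iff (R := R) (S := S) (M := T) hφ).2 h

theorem PCMap.comp_iff {φ : R →+* S} {ψ : S →+* T} (hφ : PCMap φ) : PCMap (ψ.comp φ) ↔ PCMap ψ :=
  ⟨fun h => hφ.of_comp h, fun h => hφ.comp h⟩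

theorem PCMap.of_bijective {φ : R →+* S} (h : Function.Bijective φ) : PCMap φ := by
  letI := φ.toAlgebra
  exact FPInf.of_bijective h

theorem PCMap.id : PCMap (RingHom.id R) := PCMap.of_bijective Function.bijective_id

theorem PCMap.comp_bij_iff {φ : R →+* S} (hφ : Function.Bijective φ) {ψ : S →+* T} :
    PCMap (ψ.comp φ) ↔ PCMap ψ := PCMap.comp_iff (PCMap.of_bijective hφ)

theorem PCMap.of_comp_bij {φ : R →+* S} (hφ : Function.Bijective φ) {ψ : S →+* T}
    {χ : R →+* T} (h : χ = ψ.comp φ) : PCMap χ ↔ PCMap ψ := by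
  rw [h, PCMap.comp_bij_iff hφ]

theorem PCMap.of_surjective_of_ker {φ : R →+* S} (h : Function.Surjective φ) (a : R)
    (ha : a ∈ nonZeroDivisors R) (hk : RingHom.ker φ = Ideal.span {a}) : PCMap φ := by
  letI := φ.toAlgebra
  exact FPInf.of_ker_span_singleton h a ha hk

theorem PCMap.polynomial_eval (a : R) : PCMap (Polynomial.evalRingHom a) :=
  PCMap.of_surjective_of_ker (fun r => ⟨Polynomial.C r, by simp⟩) (Polynomial.X - Polynomial.C a)
    (Polynomial.monic_X_sub_C a).mem_nonZeroDivisors (Polynomial.ker_evalRingHom a)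

theorem PCMap.mvPolynomial_eval {σ : Type} [Finite σ] (R : Type u) [CommRing R] (a : σ → R) :
    PCMap (MvPolynomial.eval a) := by
  induction σ using Finite.induction_empty_option with
  | @of_equiv α β e ih =>
    have h2 : (MvPolynomial.eval a) = (MvPolynomial.eval (a ∘ e)).comp
        (rename e.symm : MvPolynomial β R →ₐ[R] MvPolynomial α R).toRingHom := by
      apply MvPolynomial.ringHom_ext
      · intro r; simp
      · intro i; simp
    exact (PCMap.of_comp_bij (renameEquiv R e.symm).bijective h2).2 (ih _)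
  | h_empty =>
    refine PCMap.of_bijective ⟨?_, fun r => ⟨C r, by simp⟩⟩
    intro p q h
    obtain ⟨r, rfl⟩ := C_surjective PEmpty p
    obtain ⟨s, rfl⟩ := C_surjective PEmpty q
    simp only [eval_C] at h
    rw [h]
  | @h_option α _ ih =>
    have h2 : (MvPolynomial.eval a) = ((MvPolynomial.eval (fun i => a (some i))).comp
        (Polynomial.evalRingHom (C (a none)))).comp
          (RingHomClass.toRingHom (optionEquivLeft R α)) := by
      apply MvPolynomial.ringHom_ext
      · intro r; simp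
      · intro i; cases i <;> simp
    exact (PCMap.of_comp_bij (optionEquivLeft R α).bijective h2).2
      ((PCMap.polynomial_eval _).comp (ih _))

end

section

variable {A B : Type u} [CommRing A] [CommRing B] [Algebra A B]

/-- adding variables does not change `PCMap` -/
theorem pcMap_sum_iff {σ τ : Type} [Finite τ] (φ : MvPolynomial σ A →ₐ[A] B)
    (hφ : Function.Surjective φ) (χ : MvPolynomial (τ ⊕ σ) A →ₐ[A] B)
    (h : ∀ i, χ (X (Sum.inr i)) = φ (X i)) :
    PCMap χ.toRingHom ↔ PCMap φ.toRingHom := by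
  choose f hf using fun j : τ => hφ (χ (X (Sum.inl j)))
  have hχ : χ.toRingHom = (φ.toRingHom.comp (MvPolynomial.eval f)).comp
      (RingHomClass.toRingHom (sumAlgEquiv A τ σ)) := by
    apply MvPolynomial.ringHom_ext
    · intro r; simp
    · rintro (i | i)
      · simp [hf]
      · simp [h]
  rw [PCMap.of_comp_bij (sumAlgEquiv A τ σ).bijective hχ, PCMap.comp_iff (PCMap.mvPolynomial_eval _ f)]

/-- Independence of the presentation. -/
theorem pcMap_indep {σ τ : Type} [Finite σ] [Finite τ] (φ : MvPolynomial σ A →ₐ[A] B)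
    (hφ : Function.Surjective φ) (ψ : MvPolynomial τ A →ₐ[A] B) (hψ : Function.Surjective ψ) :
    PCMap φ.toRingHom ↔ PCMap ψ.toRingHom := by
  let χ : MvPolynomial (τ ⊕ σ) A →ₐ[A] B := aeval (Sum.elim (fun j => ψ (X j)) (fun i => φ (X i)))
  let χ' : MvPolynomial (σ ⊕ τ) A →ₐ[A] B := aeval (Sum.elim (fun j => φ (X j)) (fun i => ψ (X i)))
  have h1 : PCMap χ.toRingHom ↔ PCMap φ.toRingHom := pcMap_sum_iff φ hφ χ (by simp [χ])
  have h2 : PCMap χ'.toRingHom ↔ PCMap ψ.toRingHom := pcMap_sum_iff ψ hψ χ' (by simp [χ'])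
  have h3 : χ.toRingHom = χ'.toRingHom.comp
      (RingHomClass.toRingHom (renameEquiv A (Equiv.sumComm τ σ))) := by
    apply MvPolynomial.ringHom_ext
    · intro r; simp [χ, χ']
    · rintro (i | i) <;> simp [χ, χ']
  rw [← h1, ← h2, PCMap.of_comp_bij (renameEquiv A (Equiv.sumComm τ σ)).bijective h3]

variable (A B) in
/-- `A → B` is pseudo-coherent: for some surjection `A[x_1, …, x_n] → B`, the module `B` is
`FPInf` over the polynomial ring. -/
def PCHom : Prop :=
  ∃ (n : ℕ) (φ : MvPolynomial (Fin n) A →ₐ[A] B), Function.Surjective φ ∧ PCMap φ.toRingHom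

theorem PCHom.of_presentation {σ : Type} [Finite σ] (φ : MvPolynomial σ A →ₐ[A] B)
    (hφ : Function.Surjective φ) (h : PCMap φ.toRingHom) : PCHom A B := by
  obtain ⟨n, ⟨e⟩⟩ := Finite.exists_equiv_fin σ
  refine ⟨n, φ.comp (renameEquiv A e.symm).toAlgHom, hφ.comp (renameEquiv A e.symm).surjective, ?_⟩
  exact (PCMap.comp_bij_iff (renameEquiv A e.symm).bijective).2 h

theorem PCHom.pcMap (h : PCHom A B) {σ : Type} [Finite σ] (φ : MvPolynomial σ A →ₐ[A] B)
    (hφ : Function.Surjective φ) : PCMap φ.toRingHom := by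
  obtain ⟨n, ψ, hψ, h⟩ := h
  exact (pcMap_indep φ hφ ψ hψ).2 h

theorem PCHom.finiteType (h : PCHom A B) : Algebra.FiniteType A B := by
  obtain ⟨n, φ, hφ, -⟩ := h
  exact Algebra.FiniteType.of_surjective φ hφ

theorem PCHom.iff_pcMap {σ : Type} [Finite σ] (φ : MvPolynomial σ A →ₐ[A] B)
    (hφ : Function.Surjective φ) : PCHom A B ↔ PCMap φ.toRingHom :=
  ⟨fun h => h.pcMap φ hφ, fun h => PCHom.of_presentation φ hφ h⟩

end

end Groth.Agent.Flat2H
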