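import Groth.Agent.Flat2H.FPn
import Groth.Prelude.Def_DRing2
import Mathlib.CategoryTheory.Abelian.Projective.Extend
import Mathlib.CategoryTheory.Abelian.Projective.Resolution
import Mathlib.Algebra.Homology.DerivedCategory.FullyFaithful
import Mathlib.Algebra.Homology.ShortComplex.ModuleCat
import Mathlib.Algebra.Category.ModuleCat.Projective

/-!
# Bridge: `DRing.IsPseudoCoherentModule' R M ↔ PC R M`
-/

set_option autoImplicit false
universe u

attribute [local instance] HasDerivedCategory.standard

open CategoryTheory CategoryTheory.Limits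

namespace Groth.Agent.Flat2H.PCModule

open Groth.Agent.Flat2H.FPn

variable {R : Type u} [CommRing R]

/-! ### From resolutions to modules -/

/-- exactness of a cochain complex of modules in terms of linear maps -/
theorem exact_of_exactAt (E : CochainComplex (ModuleCat.{u} R) ℤ) (i j k : ℤ) (hij : i + 1 = j)
    (hjk : j + 1 = k) (h : E.ExactAt j) : Function.Exact (E.d i j).hom (E.d j k).hom := by
  rw [HomologicalComplex.exactAt_iff' E i j k (by simp [← hij]) (by simp [hjk])] at h
  exact (ShortComplex.ShortExact.moduleCat_exact_iff_function_exact _).1 h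

theorem exactAt_of_iso (E : CochainComplex (ModuleCat.{u} R) ℤ) (M : Type u) [AddCommGroup M]
    [Module R M] (e : DRing.toD E ≅ Dual.inD R M) (i : ℤ) (hi : i ≠ 0) : E.ExactAt i := by
  rw [HomologicalComplex.exactAt_iff_isZero_homology]
  have e1 : E.homology i ≅ (DerivedCategory.homologyFunctor (ModuleCat.{u} R) i).obj (DRing.toD E) :=
    ((DerivedCategory.homologyFunctorFactors (ModuleCat.{u} R) i).app E).symm
  have e2 := (DerivedCategory.homologyFunctor (ModuleCat.{u} R) i).mapIso e
  have e3 : (DerivedCategory.homologyFunctor (ModuleCat.{u} R) i).obj (Dual.inD R M) ≅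
      ((CochainComplex.singleFunctor (ModuleCat.{u} R) 0).obj (ModuleCat.of R M)).homology i :=
    (DerivedCategory.homologyFunctorFactors (ModuleCat.{u} R) i).app
      ((CochainComplex.singleFunctor (ModuleCat.{u} R) 0).obj (ModuleCat.of R M))
  refine IsZero.of_iso ?_ (e1 ≪≫ e2 ≪≫ e3)
  exact HomologicalComplex.isZero_single_obj_homology (ComplexShape.up ℤ) 0 (ModuleCat.of R M) i hi

noncomputable def homologyZeroIso (E : CochainComplex (ModuleCat.{u} R) ℤ) (M : Type u)
    [AddCommGroup M] [Module R M] (e : DRing.toD E ≅ Dual.inD R M) :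
    E.homology 0 ≅ ModuleCat.of R M :=
  ((DerivedCategory.homologyFunctorFactors (ModuleCat.{u} R) 0).app E).symm ≪≫
    (DerivedCategory.homologyFunctor (ModuleCat.{u} R) 0).mapIso e ≪≫
      (DerivedCategory.singleFunctorCompHomologyFunctorIso (ModuleCat.{u} R) 0).app (ModuleCat.of R M)

theorem pc_ker_of_le (E : CochainComplex (ModuleCat.{u} R) ℤ) (b : ℤ)
    (hb : DRing.VanishesAbove E b) (hE : DRing.TermwiseFiniteProjective E)
    (hex : ∀ i, 0 < i → E.ExactAt i) (k : ℕ) : ∀ (i j : ℤ), i + 1 = j → b + 1 ≤ i + k → 0 ≤ i →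
      PC R (LinearMap.ker (E.d i j).hom) := by
  induction k with
  | zero =>
    intro i j hij hik hi
    have hz : IsZero (E.X i) := hb i (by simp at hik; omega)
    have : Subsingleton (E.X i) := ModuleCat.subsingleton_of_isZero hz
    exact fun n => FP.of_subsingleton n
  | succ k ih =>
    intro i j hij hik hi
    have hj := ih j (j + 1) rfl (by push_cast at hik; omega) (by omega)
    have hex' := exact_of_exactAt E i j (j + 1) hij rfl (hex j (by omega))
    let g : E.X i →ₗ[R] LinearMap.ker (E.d j (j + 1)).hom :=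
      LinearMap.codRestrict _ (E.d i j).hom (fun x => hex'.apply_apply_eq_zero x)
    have hg : Function.Surjective g := by
      rintro ⟨y, hy⟩
      obtain ⟨x, hx⟩ := (hex' y).1 hy
      exact ⟨x, Subtype.ext hx⟩
    have hker : LinearMap.ker g = LinearMap.ker (E.d i j).hom := by
      rw [LinearMap.ker_codRestrict]
    rw [← hker]
    have := (hE i).1
    have := (hE i).2
    exact PC.ker g hg PC.of_projective hj

theorem fp_range_of_le (E : CochainComplex (ModuleCat.{u} R) ℤ)
    (hE : DRing.TermwiseFiniteProjective E)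
    (hex : ∀ i, i < 0 → E.ExactAt i) (n : ℕ) : ∀ (i j : ℤ), i + 1 = j → j ≤ 0 →
      FP R n (LinearMap.range (E.d i j).hom) := by
  induction n with
  | zero =>
    intro i j hij hj
    have := (hE i).1
    exact Module.Finite.range (E.d i j).hom
  | succ n ih =>
    intro i j hij hj
    have := (hE i).1
    have := (hE i).2
    have hex' := exact_of_exactAt E (i - 1) i j (by omega) hij (hex i (by omega))
    have h1 := ih (i - 1) i (by omega) (by omega)
    refine FP.of_ker (M := E.X i) (E.d i j).hom.rangeRestrict
      (LinearMap.surjective_rangeRestrict _) (FP.of_projective _) ?_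
    have : LinearMap.ker (E.d i j).hom.rangeRestrict = LinearMap.range (E.d (i - 1) i).hom := by
      rw [LinearMap.ker_rangeRestrict]
      exact hex'.linearMap_ker_eq
    rw [this]
    exact h1

theorem pc_of_iso (E : CochainComplex (ModuleCat.{u} R) ℤ) (b : ℤ)
    (hb : DRing.VanishesAbove E b) (hE : DRing.TermwiseFiniteProjective E)
    (M : Type u) [AddCommGroup M] [Module R M] (e : DRing.toD E ≅ Dual.inD R M) : PC R M := by
  have hex := exactAt_of_iso E M e
  have hker : PC R (LinearMap.ker (E.d 0 1).hom) :=
    pc_ker_of_le E b hb hE (fun i hi => hex i hi.ne') (b + 1).toNat 0 1 rfl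
      (by have := Int.self_le_toNat (b + 1); omega) le_rfl
  have hran : PC R (LinearMap.range (E.d (-1) 0).hom) := fun n =>
    fp_range_of_le E hE (fun i hi => hex i hi.ne) n (-1) 0 rfl le_rfl
  -- the homology in degree zero
  have e0 : E.homology 0 ≅ (E.sc' (-1) 0 1).homology :=
    (ShortComplex.homologyMapIso (E.isoSc' (-1) 0 1 (by simp) (by simp)))
  let S := E.sc' (-1) 0 1
  have e1 := S.moduleCatHomologyIso
  have e2 := ((homologyZeroIso E M e).symm ≪≫ e0 ≪≫ e1).toLinearEquiv
  -- quotient of ker by range
  refine PC.of_equiv e2.symm ?_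
  change PC R (LinearMap.ker S.g.hom ⧸ LinearMap.range S.moduleCatToCycles)
  refine PC.of_ker (M := LinearMap.ker S.g.hom) (Submodule.mkQ _) (Submodule.mkQ_surjective _) hker ?_
  rw [Submodule.ker_mkQ]
  -- range moduleCatToCycles ≃ range d
  refine PC.of_equiv (M := LinearMap.range (E.d (-1) 0).hom) ?_ hran
  have hle : LinearMap.range S.f.hom ≤ LinearMap.ker S.g.hom := by
    rintro _ ⟨x, rfl⟩
    exact S.moduleCat_zero_apply x
  have : LinearMap.range S.moduleCatToCycles =
      (LinearMap.range S.f.hom).submoduleOf (LinearMap.ker S.g.hom) := by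
    ext ⟨x, hx⟩
    constructor
    · rintro ⟨y, hy⟩
      exact ⟨y, congrArg Subtype.val hy⟩
    · rintro ⟨y, hy⟩
      exact ⟨y, Subtype.ext hy⟩
  rw [this]
  exact (Submodule.submoduleOfEquivOfLe hle).symm

/-! ### From modules to resolutions -/

/-- bundled pseudo-coherent modules -/
structure PCMod (R : Type u) [CommRing R] where
  M : ModuleCat.{u} R
  pc : PC R M

namespace PCMod

variable (P : PCMod R)

noncomputable def k : ℕ := (P.pc 1).choose

noncomputable def p : (Fin P.k → R) →ₗ[R] P.M := (P.pc 1).choose_spec.choose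

theorem p_surjective : Function.Surjective P.p := (P.pc 1).choose_spec.choose_spec.1

noncomputable def next : PCMod R where
  M := ModuleCat.of R (LinearMap.ker P.p)
  pc := PC.ker P.p P.p_surjective PC.of_projective P.pc

noncomputable def seq : ℕ → PCMod R
  | 0 => P
  | n + 1 => (seq n).next

noncomputable def X (n : ℕ) : ModuleCat.{u} R := ModuleCat.of R (Fin (P.seq n).k → R)

noncomputable def q (n : ℕ) :
    (Fin (P.seq (n + 1)).k → R) →ₗ[R] LinearMap.ker (P.seq n).p := (P.seq (n + 1)).p

theorem q_surjective (n : ℕ) : Function.Surjective (P.q n) := (P.seq (n + 1)).p_surjective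

theorem ker_q (n : ℕ) : LinearMap.ker (P.q n) = LinearMap.ker (P.seq (n + 1)).p := rfl

noncomputable def d (n : ℕ) : P.X (n + 1) ⟶ P.X n :=
  ModuleCat.ofHom ((LinearMap.ker (P.seq n).p).subtype ∘ₗ P.q n)

theorem range_d (n : ℕ) : LinearMap.range (P.d n).hom = LinearMap.ker (P.seq n).p := by
  change LinearMap.range ((LinearMap.ker (P.seq n).p).subtype ∘ₗ P.q n) = _
  rw [LinearMap.range_comp, LinearMap.range_eq_top.2 (P.q_surjective n),
    Submodule.map_top, Submodule.range_subtype]

theorem ker_d (n : ℕ) : LinearMap.ker (P.d n).hom = LinearMap.ker (P.seq (n + 1)).p := by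
  change LinearMap.ker ((LinearMap.ker (P.seq n).p).subtype ∘ₗ P.q n) = _
  rw [LinearMap.ker_comp, Submodule.ker_subtype, Submodule.comap_bot, ker_q]

theorem exact_d (n : ℕ) : Function.Exact (P.d (n + 1)).hom (P.d n).hom := by
  rw [LinearMap.exact_iff, ker_d, range_d]

theorem d_comp_d (n : ℕ) : P.d (n + 1) ≫ P.d n = 0 := by
  ext x
  exact (P.exact_d n).apply_apply_eq_zero x

noncomputable def complex : ChainComplex (ModuleCat.{u} R) ℕ :=
  ChainComplex.of P.X P.d P.d_comp_d

theorem complex_d (n : ℕ) : P.complex.d (n + 1) n = P.d n := ChainComplex.of_d _ _ _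

theorem complex_d_1_0 : P.complex.d 1 0 = P.d 0 := P.complex_d 0

theorem complex_exactAt_succ (n : ℕ) : P.complex.ExactAt (n + 1) := by
  rw [HomologicalComplex.exactAt_iff' _ (n + 1 + 1) (n + 1) n (by simp) (by simp)]
  rw [ShortComplex.ShortExact.moduleCat_exact_iff_function_exact]
  have h1 : (P.complex.sc' (n + 1 + 1) (n + 1) n).f = P.d (n + 1) := ChainComplex.of_d _ _ _
  have h2 : (P.complex.sc' (n + 1 + 1) (n + 1) n).g = P.d n := ChainComplex.of_d _ _ _
  rw [h1, h2]
  exact P.exact_d n

noncomputable def π₀ : P.X 0 ⟶ P.M := ModuleCat.ofHom P.p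

theorem exact_d_π₀ : Function.Exact (P.d 0).hom P.π₀.hom := by
  rw [LinearMap.exact_iff, range_d]
  rfl

theorem d_comp_π₀ : P.complex.d 1 0 ≫ P.π₀ = 0 := by
  rw [complex_d_1_0]
  ext x
  exact P.exact_d_π₀.apply_apply_eq_zero x

set_option backward.defeqAttrib.useBackward true in
set_option backward.isDefEq.respectTransparency false in
noncomputable def resolution : ProjectiveResolution P.M where
  complex := P.complex
  projective n := by
    change Projective (ModuleCat.of R (Fin (P.seq n).k → R))
    exact ModuleCat.projective_of_free (Pi.basisFun R _)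
  π := (ChainComplex.toSingle₀Equiv _ _).symm ⟨P.π₀, P.d_comp_π₀⟩
  quasiIso := ⟨fun n => by
    cases n
    · rw [ChainComplex.quasiIsoAt₀_iff, ShortComplex.quasiIso_iff_of_zeros']
      · refine (ShortComplex.exact_and_epi_g_iff_of_iso
          (S₂ := ShortComplex.mk (P.d 0) P.π₀ (by
            have := P.d_comp_π₀
            rwa [complex_d_1_0] at this)) ?_).2
          ⟨?_, ?_⟩
        · exact ShortComplex.isoMk (Iso.refl _) (Iso.refl _) (Iso.refl _)
            (by simp [complex_d_1_0]) (by simp)
        · rw [ShortComplex.ShortExact.moduleCat_exact_iff_function_exact]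
          exact P.exact_d_π₀
        · rw [ModuleCat.epi_iff_surjective]
          exact P.p_surjective
      all_goals rfl
    · rw [quasiIsoAt_iff_exactAt']
      · apply complex_exactAt_succ
      · apply ChainComplex.exactAt_succ_single_obj⟩

end PCMod

theorem isPseudoCoherentModule'_of_pc (M : Type u) [AddCommGroup M] [Module R M] (h : PC R M) :
    DRing.IsPseudoCoherentModule' R M := by
  let P : PCMod R := ⟨ModuleCat.of R M, h⟩
  let F := P.resolution
  refine ⟨F.cochainComplex, 0, ?_, ?_, ⟨?_⟩⟩
  · intro i hi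
    exact CochainComplex.isZero_of_isStrictlyLE _ 0 _ hi
  · intro i
    by_cases hi : i ≤ 0
    · obtain ⟨k, rfl⟩ := Int.exists_eq_neg_ofNat hi
      have e : F.cochainComplex.X (-k) ≅ ModuleCat.of R (Fin (P.seq k).k → R) :=
        F.cochainComplexXIso (-k) k
      have e' := e.symm.toLinearEquiv
      exact ⟨Module.Finite.equiv e', Module.Free.of_equiv e'⟩
    · have hz : IsZero (F.cochainComplex.X i) :=
        CochainComplex.isZero_of_isStrictlyLE _ 0 _ (by omega)
      have : Subsingleton (F.cochainComplex.X i) := ModuleCat.subsingleton_of_isZero hz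
      exact ⟨inferInstance, inferInstance⟩
  · have : QuasiIso F.π' := inferInstance
    have : IsIso (DerivedCategory.Q.map F.π') :=
      (DerivedCategory.isIso_Q_map_iff_quasiIso (ModuleCat.{u} R) F.π').2 this
    exact @asIso _ _ _ _ (DerivedCategory.Q.map F.π') this

/-- A module is pseudo-coherent in the derived sense iff it has partial finite free resolutions of
all lengths. -/
theorem isPseudoCoherentModule'_iff_pc (M : Type u) [AddCommGroup M] [Module R M] :
    DRing.IsPseudoCoherentModule' R M ↔ PC R M := by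
  refine ⟨?_, isPseudoCoherentModule'_of_pc M⟩
  rintro ⟨E, b, hb, hE, ⟨e⟩⟩
  refine pc_of_iso E b hb (fun i => ?_) M e
  have := (hE i).1
  have := (hE i).2
  exact ⟨inferInstance, inferInstance⟩

/-- A perfect module is pseudo-coherent. -/
theorem pc_of_isPerfectModule (M : Type u) [AddCommGroup M] [Module R M]
    (h : DRing.IsPerfectModule R M) : PC R M := by
  obtain ⟨E, a, b, hab, hE, ⟨e⟩⟩ := h
  exact pc_of_iso E b (fun i hi => hab i (Or.inr hi)) hE M e

end Groth.Agent.Flat2H.PCModule
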