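import Groth.Agent.Flat2H.PCFinal
import Groth.Agent.Flat2H.TorDimHom

/-!
# Perfect ring maps and perfect morphisms of schemes
-/

set_option autoImplicit false
universe u

attribute [local instance] HasDerivedCategory.standard

open CategoryTheory CategoryTheory.Limits AlgebraicGeometry TensorProduct

namespace Groth.Agent.Flat2H.PerfMor

open Groth.Agent.Flat2H.TorDimHom

/-- The ring-hom property "perfect": pseudo-coherent and of finite tor dimension. -/
abbrev PerfRing {R S : Type u} [CommRing R] [CommRing S] (f : R →+* S) : Prop :=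
  PCRing f ∧ FTD f

theorem perfRing_iff {R S : Type u} [CommRing R] [CommRing S] (f : R →+* S) :
    PerfRing f ↔ (letI := f.toAlgebra; MoreMor.IsPerfectHom R S) := by
  unfold PerfRing MoreMor.IsPerfectHom
  rw [pcRing_iff]
  exact Iff.rfl

theorem perfRing_algebraMap_iff {R S : Type u} [CommRing R] [CommRing S] [Algebra R S] :
    PerfRing (algebraMap R S) ↔ MoreMor.IsPerfectHom R S := by
  rw [perfRing_iff, toAlgebra_algebraMap]

theorem perfRing_propertyIsLocal : RingHom.PropertyIsLocal (@PerfRing.{u}) :=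
  pcRing_propertyIsLocal.and ftd_propertyIsLocal

theorem perfRing_stableUnderComposition : RingHom.StableUnderComposition (@PerfRing.{u}) :=
  fun _ _ _ _ _ _ f g hf hg => ⟨pcRing_stableUnderComposition f g hf.1 hg.1, hf.2.comp hg.2⟩

theorem perfRing_stableUnderFlatBaseChange : LocalFlat.StableUnderFlatBaseChange (@PerfRing.{u}) :=
  fun _ _ _ _ _ _ _ _ _ h => ⟨pcRing_stableUnderFlatBaseChange h.1, ftd_flatBaseChange h.2⟩

theorem perfRing_descendsFaithfullyFlat : LocalFlat.DescendsFaithfullyFlat (@PerfRing.{u}) :=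
  fun _ _ _ _ _ _ _ _ _ h => ⟨pcRing_descendsFaithfullyFlat h.1, ftd_descends h.2⟩

/-- Perfect morphisms as a morphism property. -/
abbrev PMor : MorphismProperty Scheme.{u} := fun _ _ f => MoreMor.IsPerfectMor f

instance hasRingHomProperty : HasRingHomProperty PMor.{u} (@PerfRing.{u}) where
  isLocal_ringHomProperty := perfRing_propertyIsLocal
  eq_affineLocally' := by
    ext X Y f
    rw [affineLocally_iff_forall_isAffineOpen]
    constructor
    · intro hf V hV U hU e
      exact (perfRing_iff _).2 (hf U V hU hV e)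
    · intro hf U V hU hV e
      exact (perfRing_iff _).1 (hf hV hU e)

theorem comp {X Y Z : Scheme.{u}} (f : X ⟶ Y) (g : Y ⟶ Z) (hf : MoreMor.IsPerfectMor f)
    (hg : MoreMor.IsPerfectMor g) : MoreMor.IsPerfectMor (f ≫ g) := by
  have := HasRingHomProperty.stableUnderComposition (P := PMor.{u}) perfRing_stableUnderComposition
  exact PMor.{u}.comp_mem f g hf hg

theorem flatBaseChange {X S X' S' : Scheme.{u}} {f : X ⟶ S} {f' : X' ⟶ S'} {g' : X' ⟶ X} {g : S' ⟶ S}
    (hg : Flat g) (hc : IsPullback g' f' f g) (hf : MoreMor.IsPerfectMor f) : MoreMor.IsPerfectMor f' :=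
  LocalFlat.of_isPullback PMor.{u} perfRing_stableUnderFlatBaseChange hg hc hf

theorem descent {X S X' S' : Scheme.{u}} {f : X ⟶ S} {f' : X' ⟶ S'} {g' : X' ⟶ X} {g : S' ⟶ S}
    (hg : Flat g) (hg₁ : Surjective g) (hg₂ : QuasiCompact g) (hc : IsPullback g' f' f g)
    (hf : MoreMor.IsPerfectMor f') : MoreMor.IsPerfectMor f :=
  LocalFlat.descent PMor.{u} perfRing_stableUnderFlatBaseChange perfRing_descendsFaithfullyFlat
    hg hg₁ hg₂ hc hf

end Groth.Agent.Flat2H.PerfMor
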