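import Groth.Agent.Flat2H.PerfMor

/-!
# Perfect morphisms: fppf locality on the source, reduced to pseudo-coherence
-/

set_option autoImplicit false
universe u

attribute [local instance] HasDerivedCategory.standard

open CategoryTheory CategoryTheory.Limits AlgebraicGeometry TensorProduct

namespace Groth.Agent.Flat2H.PerfMor2

open Groth.Agent.Flat2H.TorDimHom Groth.Agent.Flat2H.PerfMor

/-- Morphisms which are affine-locally of finite tor dimension. -/
def TMor : MorphismProperty Scheme.{u} := affineLocally (@FTD.{u})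

instance : HasRingHomProperty TMor.{u} (@FTD.{u}) where
  isLocal_ringHomProperty := ftd_propertyIsLocal
  eq_affineLocally' := rfl

theorem isPerfectMor_iff {X Y : Scheme.{u}} (f : X ⟶ Y) :
    MoreMor.IsPerfectMor f ↔ MoreMor.IsPseudoCoherentMor f ∧ TMor f := by
  rw [TMor, affineLocally_iff_forall_isAffineOpen]
  constructor
  · intro h
    exact ⟨fun U V hU hV e => (h U V hU hV e).1, fun hV _ hU e => (h _ _ hU hV e).2⟩
  · intro h U V hU hV e
    exact ⟨h.1 U V hU hV e, h.2 hV hU e⟩

theorem tMor_iff {X X' S : Scheme.{u}} (f : X ⟶ S) (a : X' ⟶ X) (h₁ : Flat a) (h₂ : Surjective a)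
    (h₃ : LocallyOfFinitePresentation a) : TMor f ↔ TMor (a ≫ f) :=
  LocalFlat.iff_comp_flat_lfp TMor.{u} ftd_compFlatFP ftd_ofCompFlatFP h₁ h₃ h₂

end Groth.Agent.Flat2H.PerfMor2
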