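import Groth.Agent.Flat2H.KoszulPerf
import Groth.Agent.Flat2H.PerfMor
import Groth.Prelude.Def_Mor2

/-!
# Regular closed immersions are perfect
-/

set_option autoImplicit false
set_option linter.style.haveILetI false

universe u

open CategoryTheory CategoryTheory.Limits AlgebraicGeometry
open Groth.Agent.Flat2H Groth.Agent.Flat2H.KoszulBC Groth.Agent.Flat2H.PerfMor
open Groth.Agent.Flat2H.TorDimHom Groth.Agent.Flat2H.KoszulPerf

namespace Groth.Agent.Flat2H.RegPerf

/-- The ideal generated by a Koszul-regular sequence is a Koszul-regular ideal. -/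
lemma isKoszulRegularIdeal_ofList {A : Type u} [CommRing A] {l : List A}
    (h : LCI.IsKoszulRegularSeq A l) : LCI.IsKoszulRegularIdeal (Ideal.ofList l) := by
  intro p _
  refine ⟨1, (Ideal.ne_top_iff_one _).1 p.2.ne_top, l.map (algebraMap A (Localization.Away (1 : A))), ?_, ?_⟩
  · refine IsKoszulRegularSeq_map_of_flat h _ ?_
    rw [RingHom.flat_algebraMap_iff]
    exact IsLocalization.flat _ (Submonoid.powers (1 : A))
  · exact Ideal.map_ofList _ _

/-- A surjection which makes the target `FP_∞` as a module is a pseudo-coherent ring map. -/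
lemma pcHom_of_pcMap {A B : Type u} [CommRing A] [CommRing B] [Algebra A B]
    (hs : Function.Surjective (algebraMap A B)) (h : PCMap (algebraMap A B)) : PCHom A B := by
  let φ : MvPolynomial (Fin 0) A →ₐ[A] B := MvPolynomial.aeval (Fin.elim0)
  have hφ : φ.toRingHom.comp (MvPolynomial.C : A →+* MvPolynomial (Fin 0) A) = algebraMap A B := by
    ext r; simp [φ]
  refine ⟨0, φ, fun b => ?_, ?_⟩
  · obtain ⟨a, rfl⟩ := hs b
    exact ⟨MvPolynomial.C a, by simp [φ]⟩
  · rw [← hφ] at h
    exact (PCMap.comp_bij_iff ⟨MvPolynomial.C_injective _ _, MvPolynomial.C_surjective _⟩).1 h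

/-- A surjection with kernel a Koszul-regular ideal is a perfect ring map. -/
lemma perfRing_of_surjective {A B : Type u} [CommRing A] [CommRing B] {φ : A →+* B}
    (hφ : Function.Surjective φ) (h : LCI.IsKoszulRegularIdeal (RingHom.ker φ)) : PerfRing φ := by
  refine ⟨?_, ftd_of_surjective hφ h⟩
  letI := φ.toAlgebra
  exact pcHom_of_pcMap (A := A) (B := B) hφ (pcMap_of_surjective hφ h)

lemma stableUnderCompositionWithLocalizationAwaySource :
    RingHom.StableUnderCompositionWithLocalizationAwaySource (@PerfRing.{u}) := by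
  intro R S T _ _ _ _ r _ f hf
  refine perfRing_stableUnderComposition _ _ ?_ hf
  refine ⟨pcRing_of_pcHom (PCHom.of_isLocalizationAway r S), FTD.of_flat ?_⟩
  rw [RingHom.flat_algebraMap_iff]
  exact IsLocalization.flat _ (Submonoid.powers r)

theorem isPerfectMor_of_isRegularClosedImmersion {Z X : Scheme.{u}} (i : Z ⟶ X)
    (hi : Mor2.IsRegularClosedImmersion i) : MoreMor.IsPerfectMor i := by
  obtain ⟨hci, h⟩ := hi
  have key : PMor.{u} i := by
    rw [HasRingHomProperty.iff_exists_appLE (P := PMor.{u}) stableUnderCompositionWithLocalizationAwaySource]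
    intro z
    obtain ⟨U, hU, hzU, rs, hrs, hker⟩ := h z
    refine ⟨⟨U, hU⟩, ⟨i ⁻¹ᵁ U, hU.preimage i⟩, hzU, le_rfl, ?_⟩
    refine perfRing_of_surjective ?_ ?_
    · rw [← Scheme.Hom.app_eq_appLE]
      exact i.app_surjective U hU
    · have h1 : RingHom.ker (i.appLE U (i ⁻¹ᵁ U) le_rfl).hom = Ideal.ofList rs := by
        rw [← hker, Scheme.Hom.ker_apply, Scheme.Hom.app_eq_appLE]
      rw [h1]
      exact isKoszulRegularIdeal_ofList (isKoszulRegularSeq_of_isWeaklyRegular hrs.toIsWeaklyRegular)
  exact key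

end Groth.Agent.Flat2H.RegPerf
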