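import Mathlib.RingTheory.Smooth.Local
import Mathlib.RingTheory.LocalRing.Module
import Mathlib.LinearAlgebra.Dimension.Constructions
import Mathlib.RingTheory.Etale.Locus
import Mathlib.RingTheory.RingHom.Etale
import Mathlib.RingTheory.Smooth.Locus
import Groth.Agent.UnramB.FormallyEtaleKaehler

/-!
# Etale coordinates adapted to a smooth closed subscheme: ring level

* `exists_basis_of_span`: a spanning family of a finite dimensional vector space contains a basis.
* `local_core`: for a local `R`-algebra `L` formally smooth over `R` with `Ω[L/R]` finite free and `I` a finitely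
  generated ideal in the maximal ideal with `L/I` formally smooth over `R`, there are generators `u_j` of `I` and
  elements `w_i` such that the differentials of the `w_i` and `u_j` form a basis.
* `exists_etale_coordinates`: `R → A` smooth, `A/I` smooth over `R`, `q` a prime containing `I`: near `q` there are
  etale coordinates `R[x_1, .., x_m, y_1, .., y_n] → A_f` with `I_f = (y_1, .., y_n)`.
-/

set_option autoImplicit false

universe u v w

namespace Groth.Agent.Flat2H.SmoothPairAlg

open TensorProduct IsLocalRing KaehlerDifferential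

/-- A spanning family of a finite dimensional vector space contains a basis. -/
theorem exists_basis_of_span {K : Type u} {V : Type v} {ι : Type w} [Field K] [AddCommGroup V] [Module K V]
    [Module.Finite K V] (v : ι → V) (hv : Submodule.span K (Set.range v) = ⊤) :
    ∃ (n : ℕ) (s : Fin n → ι) (b : Module.Basis (Fin n) K V), ∀ i, b i = v (s i) := by
  obtain ⟨t, hts, hspan, hli⟩ := exists_linearIndependent K (Set.range v)
  have hfin : Finite t := hli.finite
  have hb : Submodule.span K (Set.range (Subtype.val : t → V)) = ⊤ := by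
    rw [Subtype.range_coe, hspan, hv]
  let b0 : Module.Basis t K V := Module.Basis.mk hli (by rw [hb])
  obtain ⟨n, ⟨e⟩⟩ := Finite.exists_equiv_fin t
  choose s hs using fun x : t => hts x.2
  refine ⟨n, fun i => s (e.symm i), b0.reindex e, fun i => ?_⟩
  rw [Module.Basis.reindex_apply, hs]
  simp [b0]

theorem span_tmul_eq_top {L : Type u} {K : Type v} {M : Type w} [CommRing L] [Field K] [Algebra L K]
    [AddCommGroup M] [Module L M] {ι : Type*} (v : ι → M) (hv : Submodule.span L (Set.range v) = ⊤) :
    Submodule.span K (Set.range fun i => (1 : K) ⊗ₜ[L] v i) = ⊤ := by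
  rw [eq_top_iff]
  rintro x -
  induction x using TensorProduct.induction_on with
  | zero => exact zero_mem _
  | add x y hx hy => exact add_mem hx hy
  | tmul a m =>
    have hm : m ∈ Submodule.span L (Set.range v) := hv ▸ Submodule.mem_top
    have h1 : (1 : K) ⊗ₜ[L] m ∈ Submodule.span K (Set.range fun i => (1 : K) ⊗ₜ[L] v i) := by
      induction hm using Submodule.span_induction with
      | mem x hx =>
        obtain ⟨i, rfl⟩ := hx
        exact Submodule.subset_span ⟨i, rfl⟩
      | zero => rw [tmul_zero]; exact zero_mem _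
      | add x y _ _ hx hy => rw [tmul_add]; exact add_mem hx hy
      | smul a x _ hx =>
        rw [tmul_smul]
        have := Submodule.smul_mem _ (algebraMap L K a) hx
        rwa [algebraMap_smul] at this
    have h2 : a ⊗ₜ[L] m = a • ((1 : K) ⊗ₜ[L] m) := by rw [TensorProduct.smul_tmul', smul_eq_mul, mul_one]
    rw [h2]
    exact Submodule.smul_mem _ _ h1

theorem local_core {R : Type u} {L : Type v} [CommRing R] [CommRing L] [IsLocalRing L] [Algebra R L]
    [Algebra.FormallySmooth R L] [Module.Free L Ω[L⁄R]] [Module.Finite L Ω[L⁄R]]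
    (I : Ideal L) (hI : I ≤ maximalIdeal L) (hfg : I.FG) [Algebra.FormallySmooth R (L ⧸ I)]
    {ι : Type*} (u : ι → L) (hu : Ideal.span (Set.range u) = I)
    {κ : Type*} (w : κ → L) (hw : Submodule.span L (Set.range fun k => D R L (w k)) = ⊤) :
    ∃ (m n : ℕ) (g : Fin m → κ) (h : Fin n → ι), Ideal.span (Set.range (u ∘ h)) = I ∧
      ∃ b : Module.Basis (Fin m ⊕ Fin n) L Ω[L⁄R], (∀ i, b (Sum.inl i) = D R L (w (g i))) ∧
        (∀ j, b (Sum.inr j) = D R L (u (h j))) := by
  classical
  let K := ResidueField L
  have : Nontrivial (L ⧸ I) := Ideal.Quotient.nontrivial_iff.mpr (ne_top_of_le_ne_top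
    (IsLocalRing.maximalIdeal.isMaximal L).ne_top hI)
  have : IsLocalRing (L ⧸ I) := .of_surjective' (Ideal.Quotient.mk I) Ideal.Quotient.mk_surjective
  let f : (L ⧸ I) →ₐ[L] K := Ideal.Quotient.liftₐ I (Algebra.ofId L K) (fun a ha => by
    change algebraMap L K a = 0
    exact (IsLocalRing.residue_eq_zero_iff a).2 (hI ha))
  let : Algebra (L ⧸ I) K := f.toRingHom.toAlgebra
  have : IsScalarTower L (L ⧸ I) K := IsScalarTower.of_algebraMap_eq' f.comp_algebraMap.symm
  have hker : RingHom.ker (algebraMap L (L ⧸ I)) = I := Ideal.mk_ker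
  have hmax : maximalIdeal (L ⧸ I) ≤ RingHom.ker (algebraMap (L ⧸ I) K) := by
    intro x hx
    obtain ⟨y, rfl⟩ := Ideal.Quotient.mk_surjective x
    rw [RingHom.mem_ker]
    change algebraMap L K y = 0
    refine (IsLocalRing.residue_eq_zero_iff y).2 ?_
    rw [IsLocalRing.mem_maximalIdeal, mem_nonunits_iff] at hx ⊢
    exact fun h => hx (h.map _)
  have hinj : Function.Injective (cotangentComplexBaseChange R (L ⧸ I) L K) :=
    (Algebra.FormallySmooth.iff_injective_cotangentComplexBaseChange (R := R) (S := L ⧸ I) L K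
      Ideal.Quotient.mk_surjective (by rw [hker]; exact hfg) hmax).1 inferInstance
  have huI : ∀ i, u i ∈ RingHom.ker (algebraMap L (L ⧸ I)) := fun i => by
    rw [hker, ← hu]; exact Ideal.subset_span ⟨i, rfl⟩
  -- the module `I` and its fibre
  have : Module.Finite L (RingHom.ker (algebraMap L (L ⧸ I))) := .of_fg (by rw [hker]; exact hfg)
  let u' : ι → RingHom.ker (algebraMap L (L ⧸ I)) := fun i => ⟨u i, huI i⟩
  have hu' : Submodule.span L (Set.range u') = ⊤ := by
    apply Submodule.map_injective_of_injective (Submodule.injective_subtype _)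
    rw [Submodule.map_span, Submodule.map_top, Submodule.range_subtype, ← Set.range_comp]
    exact hu.trans hker.symm
  obtain ⟨n, h, bI, hbI⟩ := exists_basis_of_span (K := K) _ (span_tmul_eq_top (K := K) u' hu')
  -- the fibre of the differentials
  let c := cotangentComplexBaseChange R (L ⧸ I) L K
  let W' := LinearMap.range c
  have hw1 := span_tmul_eq_top (K := K) _ hw
  have hw2 : Submodule.span K (Set.range fun k => W'.mkQ ((1 : K) ⊗ₜ[L] D R L (w k))) = ⊤ := by
    have := congrArg (Submodule.map W'.mkQ) hw1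
    rw [Submodule.map_span, Submodule.map_top, Submodule.range_mkQ, ← Set.range_comp] at this
    exact this
  obtain ⟨m, g, bQ, hbQ⟩ := exists_basis_of_span (K := K) _ hw2
  let v : Fin m ⊕ Fin n → Ω[L⁄R] := Sum.elim (fun i => D R L (w (g i))) (fun j => D R L (u (h j)))
  have hc : ∀ j, c (bI j) = (1 : K) ⊗ₜ[L] D R L (u (h j)) := by
    intro j
    rw [hbI]
    change cotangentComplexBaseChange R (L ⧸ I) L K ((1 : K) ⊗ₜ[L] u' (h j)) = _
    rw [cotangentComplexBaseChange_tmul, one_smul, kerToTensor_apply]
  let bW : Module.Basis (Fin n) K W' := bI.map (LinearEquiv.ofInjective c hinj)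
  have hbW : ∀ j, ((bW j : W') : K ⊗[L] Ω[L⁄R]) = (1 : K) ⊗ₜ[L] D R L (u (h j)) := by
    intro j
    rw [← hc]
    exact LinearEquiv.ofInjective_apply c (h := hinj) (bI j)
  have hli : LinearIndependent K (TensorProduct.mk L K Ω[L⁄R] 1 ∘ v) := by
    have h1 := LinearIndependent.sumElim_of_quotient (M' := W') bW.linearIndependent
      (fun i => (1 : K) ⊗ₜ[L] D R L (w (g i))) (by
        have : (Submodule.Quotient.mk (p := W') ∘ fun i => (1 : K) ⊗ₜ[L] D R L (w (g i))) = bQ := by
          funext i
          rw [hbQ]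
          rfl
        rw [this]
        exact bQ.linearIndependent)
    rw [← linearIndependent_equiv (Equiv.sumComm (Fin n) (Fin m))]
    have heq : (TensorProduct.mk L K Ω[L⁄R] 1 ∘ v) ∘ (Equiv.sumComm (Fin n) (Fin m)) =
        Sum.elim (fun x => ((bW x : W') : K ⊗[L] Ω[L⁄R])) (fun i => (1 : K) ⊗ₜ[L] D R L (w (g i))) := by
      funext x
      rcases x with x | x
      · exact (hbW x).symm
      · rfl
    rw [heq]
    exact h1
  have hsp : Submodule.span K (Set.range (TensorProduct.mk L K Ω[L⁄R] 1 ∘ v)) = ⊤ := by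
    rw [eq_top_iff]
    rintro x -
    have hx1 : W'.mkQ x ∈ Submodule.span K (Set.range bQ) := bQ.span_eq ▸ Submodule.mem_top
    have hx2 : W'.mkQ x ∈ Submodule.map W'.mkQ (Submodule.span K (Set.range (TensorProduct.mk L K Ω[L⁄R] 1 ∘ v))) := by
      rw [Submodule.map_span, ← Set.range_comp]
      refine Submodule.span_mono ?_ hx1
      rintro _ ⟨i, rfl⟩
      refine ⟨Sum.inl i, ?_⟩
      rw [hbQ]
      rfl
    obtain ⟨y, hy, hxy⟩ := Submodule.mem_map.1 hx2
    have hd : x - y ∈ W' := by
      rw [← Submodule.ker_mkQ W', LinearMap.mem_ker, map_sub, hxy, sub_self]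
    have hd2 : x - y ∈ Submodule.span K (Set.range (TensorProduct.mk L K Ω[L⁄R] 1 ∘ v)) := by
      have h3 : (⟨x - y, hd⟩ : W') ∈ Submodule.span K (Set.range bW) := bW.span_eq ▸ Submodule.mem_top
      have h4 := Submodule.mem_map_of_mem (f := W'.subtype) h3
      rw [Submodule.map_span, ← Set.range_comp] at h4
      refine Submodule.span_mono ?_ h4
      rintro _ ⟨j, rfl⟩
      refine ⟨Sum.inr j, ?_⟩
      exact (hbW j).symm
    have := add_mem hd2 hy
    rwa [sub_add_cancel] at this
  have : Module.FinitePresentation L Ω[L⁄R] := Module.finitePresentation_of_projective L _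
  obtain ⟨b, hb⟩ := Module.exists_basis_of_basis_baseChange v hli hsp
    (Module.Flat.rTensor_preserves_injective_linearMap _ (Submodule.injective_subtype _))
  refine ⟨m, n, g, h, ?_, b, fun i => ?_, fun j => ?_⟩
  · have h5 := IsLocalRing.span_eq_top_of_tmul_eq_basis (R := L) (fun j => u' (h j)) bI (fun j => (hbI j).symm)
    have h6 := congrArg (Submodule.map (Submodule.subtype _)) h5
    rw [Submodule.map_span, Submodule.map_top, Submodule.range_subtype, ← Set.range_comp] at h6
    exact h6.trans hker
  · rw [hb]; rfl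
  · rw [hb]; rfl

/-- If the f.g. ideal `I` is contained in `J` at the prime `q`, then `s I ⊆ J` for some `s ∉ q`. -/
theorem exists_mul_mem {A : Type u} [CommRing A] (I J : Ideal A) (hI : I.FG) (q : Ideal A) [q.IsPrime]
    (h : I.map (algebraMap A (Localization.AtPrime q)) ≤ J.map (algebraMap A (Localization.AtPrime q))) :
    ∃ s ∉ q, ∀ x ∈ I, s * x ∈ J := by
  classical
  obtain ⟨t, ht⟩ := hI
  have h1 : ∀ x ∈ t, ∃ s ∉ q, s * x ∈ J := by
    intro x hx
    have hxI : x ∈ I := ht ▸ Ideal.subset_span hx
    obtain ⟨s, hs, hsx⟩ := (IsLocalization.algebraMap_mem_map_algebraMap_iff q.primeCompl _ J x).1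
      (h (Ideal.mem_map_of_mem _ hxI))
    exact ⟨s, hs, hsx⟩
  choose! s hs hsx using h1
  refine ⟨∏ x ∈ t, s x, ?_, ?_⟩
  · intro hmem
    obtain ⟨x, hx, hxq⟩ := (Ideal.IsPrime.prod_mem_iff (p := q)).1 hmem
    exact hs x hx hxq
  · intro x hx
    rw [← ht] at hx
    induction hx using Submodule.span_induction with
    | mem x hx =>
      obtain ⟨c, hc⟩ := Finset.dvd_prod_of_mem s hx
      rw [hc, mul_assoc, mul_comm c, ← mul_assoc]
      exact J.mul_mem_right _ (hsx x hx)
    | zero => rw [mul_zero]; exact J.zero_mem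
    | add x y _ _ hx hy => rw [mul_add]; exact J.add_mem hx hy
    | smul a x _ hx =>
      rw [smul_eq_mul, mul_left_comm]
      exact J.mul_mem_left _ hx

/-- Etale coordinates adapted to a smooth closed subscheme, ring level. -/
theorem exists_etale_coordinates {R : Type u} {A : Type v} [CommRing R] [CommRing A] [Algebra R A] [Algebra.Smooth R A]
    (I : Ideal A) [Algebra.Smooth R (A ⧸ I)] (q : Ideal A) [q.IsPrime] (hIq : I ≤ q) :
    ∃ (f : A) (m n : ℕ) (g : Fin m → A) (h : Fin n → A), f ∉ q ∧ (∀ j, h j ∈ I) ∧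
      I.map (algebraMap A (Localization.Away f)) =
        Ideal.span (Set.range fun j => algebraMap A (Localization.Away f) (h j)) ∧
      ((algebraMap A (Localization.Away f)).comp
        (MvPolynomial.aeval (Sum.elim g h) : MvPolynomial (Fin m ⊕ Fin n) R →ₐ[R] A).toRingHom).Etale := by
  classical
  let L := Localization.AtPrime q
  have hIfg : I.FG := by
    have := Algebra.FinitePresentation.ker_fG_of_surjective (Ideal.Quotient.mkₐ R I)
      (Ideal.Quotient.mkₐ_surjective R I)
    have h2 : RingHom.ker (Ideal.Quotient.mkₐ R I).toRingHom = I := Ideal.mk_ker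
    rwa [h2] at this
  have : Algebra.FormallySmooth A L := Algebra.FormallySmooth.of_isLocalization q.primeCompl
  have : Algebra.FormallySmooth R L := Algebra.FormallySmooth.comp R A L
  have : Algebra.EssFiniteType A L := Algebra.EssFiniteType.of_isLocalization L q.primeCompl
  have : Algebra.EssFiniteType R L := Algebra.EssFiniteType.comp R A L
  have : Module.Free L Ω[L⁄R] := Module.free_of_flat_of_isLocalRing
  let IL := I.map (algebraMap A L)
  have hIL : IL ≤ maximalIdeal L := by
    rw [Ideal.map_le_iff_le_comap]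
    intro x hx
    rw [Ideal.mem_comap]
    have := (Localization.AtPrime.map_eq_maximalIdeal (I := q)) ▸ Ideal.mem_map_of_mem (algebraMap A L) (hIq hx)
    exact this
  have : IsScalarTower R (A ⧸ I) (L ⧸ IL) := IsScalarTower.of_algebraMap_eq fun x => by
    change Ideal.Quotient.mk IL (algebraMap R L x) = Ideal.Quotient.mk IL (algebraMap A L (algebraMap R A x))
    rw [← IsScalarTower.algebraMap_apply]
  have : Algebra.FormallySmooth (A ⧸ I) (L ⧸ IL) :=
    Algebra.FormallySmooth.of_isLocalization (Algebra.algebraMapSubmonoid (A ⧸ I) q.primeCompl)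
  have : Algebra.FormallySmooth R (L ⧸ IL) := Algebra.FormallySmooth.comp R (A ⧸ I) (L ⧸ IL)
  obtain ⟨m, n, g, h, hspan, b, hb1, hb2⟩ := local_core (R := R) IL hIL (hIfg.map _)
    (fun x : I => algebraMap A L x) (by
      rw [show (Set.range fun x : I => algebraMap A L x) = algebraMap A L '' (I : Set A) by
        rw [Set.image_eq_range]; rfl]
      rfl)
    (fun x : A => algebraMap A L x) (by
      have := KaehlerDifferential.span_range_map_derivation_of_isLocalization R (S := A) L q.primeCompl
      rw [← this]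
      congr 1
      ext y
      simp)
  have huI : ∀ j, (h j : A) ∈ I := fun j => (h j).2
  -- the polynomial ring
  let φ : MvPolynomial (Fin m ⊕ Fin n) R →ₐ[R] A := MvPolynomial.aeval (Sum.elim g fun j => (h j : A))
  let : Algebra (MvPolynomial (Fin m ⊕ Fin n) R) A := φ.toRingHom.toAlgebra
  have : IsScalarTower R (MvPolynomial (Fin m ⊕ Fin n) R) A := IsScalarTower.of_algebraMap_eq' φ.comp_algebraMap.symm
  have : Algebra.FinitePresentation (MvPolynomial (Fin m ⊕ Fin n) R) A :=
    Algebra.FinitePresentation.of_restrict_scalars_finitePresentation R _ A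
  have : IsScalarTower R (MvPolynomial (Fin m ⊕ Fin n) R) L := IsScalarTower.of_algebraMap_eq' (by
    rw [IsScalarTower.algebraMap_eq (MvPolynomial (Fin m ⊕ Fin n) R) A L, RingHom.comp_assoc,
      ← IsScalarTower.algebraMap_eq R (MvPolynomial (Fin m ⊕ Fin n) R) A, ← IsScalarTower.algebraMap_eq R A L])
  have hX : ∀ i, algebraMap (MvPolynomial (Fin m ⊕ Fin n) R) A (MvPolynomial.X i) =
      Sum.elim g (fun j => (h j : A)) i := fun i => MvPolynomial.aeval_X _ i
  have het : Algebra.IsEtaleAt (MvPolynomial (Fin m ⊕ Fin n) R) q := by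
    refine Groth.Agent.UnramB.FormallyEtaleKaehler.formallyEtale_mvPolynomial_of_basis b (fun i => ?_)
    rw [IsScalarTower.algebraMap_apply (MvPolynomial (Fin m ⊕ Fin n) R) A L, hX]
    rcases i with i | i
    · exact hb1 i
    · exact hb2 i
  obtain ⟨_, ⟨_, ⟨r, rfl⟩, rfl⟩, hrq, hr⟩ :=
    PrimeSpectrum.isBasis_basic_opens.exists_subset_of_mem_open
      (show ⟨q, ‹_›⟩ ∈ Algebra.etaleLocus (MvPolynomial (Fin m ⊕ Fin n) R) A from het) Algebra.isOpen_etaleLocus
  let J : Ideal A := Ideal.span (Set.range fun j => (h j : A))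
  have hJI : J ≤ I := Ideal.span_le.2 (by rintro _ ⟨j, rfl⟩; exact huI j)
  have hJL : J.map (algebraMap A L) = IL := by
    rw [← hspan, Ideal.map_span, ← Set.range_comp]
    rfl
  obtain ⟨s, hsq, hs⟩ := exists_mul_mem I J hIfg q hJL.ge
  have hsq' : r * s ∉ q := fun hmem => (‹q.IsPrime›.mem_or_mem hmem).elim hrq hsq
  refine ⟨r * s, m, n, g, fun j => (h j : A), hsq', huI, ?_, ?_⟩
  · apply le_antisymm
    · rw [Ideal.map_le_iff_le_comap]
      intro x hx
      rw [Ideal.mem_comap]
      have h1 : algebraMap A (Localization.Away (r * s)) (s * x) ∈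
          Ideal.span (Set.range fun j => algebraMap A (Localization.Away (r * s)) (h j)) := by
        have := Ideal.mem_map_of_mem (algebraMap A (Localization.Away (r * s))) (hs x hx)
        rw [Ideal.map_span, ← Set.range_comp] at this
        exact this
      have hu : IsUnit (algebraMap A (Localization.Away (r * s)) s) :=
        isUnit_of_dvd_unit (map_dvd _ (Dvd.intro_left r rfl)) (IsLocalization.Away.algebraMap_isUnit (r * s))
      rw [map_mul] at h1
      exact (Ideal.unit_mul_mem_iff_mem _ hu).1 h1
    · rw [Ideal.span_le]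
      rintro _ ⟨j, rfl⟩
      exact Ideal.mem_map_of_mem _ (huI j)
  · have h2 : ↑(PrimeSpectrum.basicOpen (r * s)) ⊆ Algebra.etaleLocus (MvPolynomial (Fin m ⊕ Fin n) R) A :=
      subset_trans (PrimeSpectrum.basicOpen_mul_le_left r s) hr
    have h3 := Algebra.basicOpen_subset_etaleLocus_iff_etale.1 h2
    have h4 := RingHom.etale_algebraMap.2 h3
    exact h4

end Groth.Agent.Flat2H.SmoothPairAlg
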