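import Groth.Agent.Flat2H.FPInf2
import Mathlib.Algebra.Category.ModuleCat.Basic

/-!
# Partial resolutions and syzygies modulo finitely generated submodules

`PRes R n N`: a partial resolution `F_n → ⋯ → F_0 → N → 0` by finite projective modules;
`Om r` its last syzygy `ker (F_n → F_{n-1})`.  Lifts `Om r → Om r'` of a map `N → N'` are unique up to
maps with range contained in a finitely generated submodule.
-/

set_option autoImplicit false
universe u

namespace Groth.Agent.Flat2H.Syz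

open TensorProduct Groth.Agent.Flat2H

variable (R : Type u) [CommRing R]

/-- A surjection from a finite projective module. -/
structure Cov (N : Type u) [AddCommGroup N] [Module R N] where
  F : Type u
  [acg : AddCommGroup F]
  [mod : Module R F]
  [fin : Module.Finite R F]
  [proj : Module.Projective R F]
  f : F →ₗ[R] N
  surj : Function.Surjective f

attribute [instance] Cov.acg Cov.mod Cov.fin Cov.proj

/-- Partial resolutions of length `n`. -/
def PRes : ℕ → ∀ (N : Type u) [AddCommGroup N] [Module R N], Type (u + 1)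
  | 0, N, _, _ => Cov R N
  | n + 1, N, _, _ => Σ s : Cov R N, PRes n (LinearMap.ker s.f)

variable {R}

/-- The last syzygy. -/
def Om : ∀ (n : ℕ) {N : Type u} [AddCommGroup N] [Module R N], PRes R n N → ModuleCat.{u} R
  | 0, _, _, _, r => ModuleCat.of R (LinearMap.ker (Cov.f r))
  | n + 1, _, _, _, r => Om n (Sigma.snd r)

section kmap

variable {F F' N N' : Type u} [AddCommGroup F] [Module R F] [AddCommGroup F'] [Module R F']
  [AddCommGroup N] [Module R N] [AddCommGroup N'] [Module R N']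

/-- map induced on kernels -/
def kmap {f : F →ₗ[R] N} {f' : F' →ₗ[R] N'} (h : F →ₗ[R] F') (g : N →ₗ[R] N')
    (hc : f' ∘ₗ h = g ∘ₗ f) : LinearMap.ker f →ₗ[R] LinearMap.ker f' :=
  LinearMap.codRestrict _ (h ∘ₗ (LinearMap.ker f).subtype) (fun x => by
    have := LinearMap.congr_fun hc x.1
    rw [LinearMap.mem_ker]
    simp only [LinearMap.comp_apply] at this
    change f' (h x.1) = 0
    rw [this, LinearMap.mem_ker.1 x.2, map_zero])

@[simp]
theorem kmap_coe {f : F →ₗ[R] N} {f' : F' →ₗ[R] N'} (h : F →ₗ[R] F') (g : N →ₗ[R] N')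
    (hc : f' ∘ₗ h = g ∘ₗ f) (x : LinearMap.ker f) : (kmap h g hc x : F') = h x.1 := rfl

end kmap

/-- `φ` is a lift of `g` to the last syzygies. -/
def IsLift : ∀ (n : ℕ) {N N' : Type u} [AddCommGroup N] [Module R N] [AddCommGroup N']
    [Module R N'] (r : PRes R n N) (r' : PRes R n N') (_ : N →ₗ[R] N')
    (_ : Om n r →ₗ[R] Om n r'), Prop
  | 0, _, _, _, _, _, _, r, r', g, φ =>
      ∃ (h : Cov.F r →ₗ[R] Cov.F r') (hc : Cov.f r' ∘ₗ h = g ∘ₗ Cov.f r), φ = kmap h g hc
  | n + 1, _, _, _, _, _, _, r, r', g, φ =>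
      ∃ (h : Cov.F (Sigma.fst r) →ₗ[R] Cov.F (Sigma.fst r'))
        (hc : Cov.f (Sigma.fst r') ∘ₗ h = g ∘ₗ Cov.f (Sigma.fst r)),
        IsLift n (Sigma.snd r) (Sigma.snd r') (kmap h g hc) φ

theorem Cov.exists_lift {N N' : Type u} [AddCommGroup N] [Module R N] [AddCommGroup N']
    [Module R N'] (r : Cov R N) (r' : Cov R N') (g : N →ₗ[R] N') :
    ∃ h : r.F →ₗ[R] r'.F, r'.f ∘ₗ h = g ∘ₗ r.f :=
  Module.projective_lifting_property r'.f (g ∘ₗ r.f) r'.surj

theorem exists_isLift (n : ℕ) : ∀ {N N' : Type u} [AddCommGroup N] [Module R N] [AddCommGroup N']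
    [Module R N'] (r : PRes R n N) (r' : PRes R n N') (g : N →ₗ[R] N'),
    ∃ φ : Om n r →ₗ[R] Om n r', IsLift n r r' g φ := by
  induction n with
  | zero =>
    intro N N' _ _ _ _ r r' g
    obtain ⟨h, hc⟩ := Cov.exists_lift r r' g
    exact ⟨kmap h g hc, h, hc, rfl⟩
  | succ n ih =>
    intro N N' _ _ _ _ r r' g
    obtain ⟨h, hc⟩ := Cov.exists_lift r.1 r'.1 g
    obtain ⟨φ, hφ⟩ := ih r.2 r'.2 (kmap h g hc)
    exact ⟨φ, h, hc, hφ⟩

theorem isLift_comp (n : ℕ) : ∀ {N N' N'' : Type u} [AddCommGroup N] [Module R N]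
    [AddCommGroup N'] [Module R N'] [AddCommGroup N''] [Module R N'']
    (r : PRes R n N) (r' : PRes R n N') (r'' : PRes R n N'') (g : N →ₗ[R] N') (g' : N' →ₗ[R] N'')
    (φ : Om n r →ₗ[R] Om n r') (φ' : Om n r' →ₗ[R] Om n r''),
    IsLift n r r' g φ → IsLift n r' r'' g' φ' → IsLift n r r'' (g' ∘ₗ g) (φ' ∘ₗ φ) := by
  induction n with
  | zero =>
    rintro N N' N'' _ _ _ _ _ _ r r' r'' g g' φ φ' ⟨h, hc, rfl⟩ ⟨h', hc', rfl⟩
    refine ⟨h' ∘ₗ h, ?_, rfl⟩
    rw [← LinearMap.comp_assoc, hc', LinearMap.comp_assoc, hc, LinearMap.comp_assoc]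
  | succ n ih =>
    rintro N N' N'' _ _ _ _ _ _ r r' r'' g g' φ φ' ⟨h, hc, H⟩ ⟨h', hc', H'⟩
    refine ⟨h' ∘ₗ h, ?_, ih r.2 r'.2 r''.2 _ _ φ φ' H H'⟩
    rw [← LinearMap.comp_assoc, hc', LinearMap.comp_assoc, hc, LinearMap.comp_assoc]

theorem isLift_sub (n : ℕ) : ∀ {N N' : Type u} [AddCommGroup N] [Module R N]
    [AddCommGroup N'] [Module R N']
    (r : PRes R n N) (r' : PRes R n N') (g g' : N →ₗ[R] N')
    (φ φ' : Om n r →ₗ[R] Om n r'),
    IsLift n r r' g φ → IsLift n r r' g' φ' → IsLift n r r' (g - g') (φ - φ') := by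
  induction n with
  | zero =>
    rintro N N' _ _ _ _ r r' g g' φ φ' ⟨h, hc, rfl⟩ ⟨h', hc', rfl⟩
    refine ⟨h - h', ?_, rfl⟩
    rw [LinearMap.comp_sub, hc, hc', LinearMap.sub_comp]
  | succ n ih =>
    rintro N N' _ _ _ _ r r' g g' φ φ' ⟨h, hc, H⟩ ⟨h', hc', H'⟩
    refine ⟨h - h', ?_, ih r.2 r'.2 _ _ φ φ' H H'⟩
    rw [LinearMap.comp_sub, hc, hc', LinearMap.sub_comp]

theorem isLift_add (n : ℕ) : ∀ {N N' : Type u} [AddCommGroup N] [Module R N]
    [AddCommGroup N'] [Module R N']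
    (r : PRes R n N) (r' : PRes R n N') (g g' : N →ₗ[R] N')
    (φ φ' : Om n r →ₗ[R] Om n r'),
    IsLift n r r' g φ → IsLift n r r' g' φ' → IsLift n r r' (g + g') (φ + φ') := by
  induction n with
  | zero =>
    rintro N N' _ _ _ _ r r' g g' φ φ' ⟨h, hc, rfl⟩ ⟨h', hc', rfl⟩
    refine ⟨h + h', ?_, rfl⟩
    rw [LinearMap.comp_add, hc, hc', LinearMap.add_comp]
  | succ n ih =>
    rintro N N' _ _ _ _ r r' g g' φ φ' ⟨h, hc, H⟩ ⟨h', hc', H'⟩
    refine ⟨h + h', ?_, ih r.2 r'.2 _ _ φ φ' H H'⟩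
    rw [LinearMap.comp_add, hc, hc', LinearMap.add_comp]

theorem isLift_zero (n : ℕ) : ∀ {N N' : Type u} [AddCommGroup N] [Module R N]
    [AddCommGroup N'] [Module R N']
    (r : PRes R n N) (r' : PRes R n N'), IsLift n r r' 0 0 := by
  induction n with
  | zero =>
    intro N N' _ _ _ _ r r'
    exact ⟨0, by rw [LinearMap.comp_zero, LinearMap.zero_comp], rfl⟩
  | succ n ih =>
    intro N N' _ _ _ _ r r'
    exact ⟨0, by rw [LinearMap.comp_zero, LinearMap.zero_comp], ih r.2 r'.2⟩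

theorem isLift_smul_id (n : ℕ) : ∀ {N : Type u} [AddCommGroup N] [Module R N]
    (r : PRes R n N) (a : R), IsLift n r r (a • LinearMap.id) (a • LinearMap.id) := by
  induction n with
  | zero =>
    intro N _ _ r a
    exact ⟨a • LinearMap.id, by ext x; simp, rfl⟩
  | succ n ih =>
    intro N _ _ r a
    refine ⟨a • LinearMap.id, by ext x; simp, ?_⟩
    have : kmap (f := r.1.f) (f' := r.1.f) (a • LinearMap.id) (a • LinearMap.id)
        (by ext x; simp) = a • LinearMap.id := by
      ext x; simp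
    rw [this]
    exact ih r.2 a

theorem isLift_id (n : ℕ) {N : Type u} [AddCommGroup N] [Module R N]
    (r : PRes R n N) : IsLift n r r LinearMap.id LinearMap.id := by
  have := isLift_smul_id n r 1
  simpa only [one_smul] using this

theorem isLift_sum (n : ℕ) {N N' : Type u} [AddCommGroup N] [Module R N]
    [AddCommGroup N'] [Module R N'] {ι : Type*} (s : Finset ι)
    (r : PRes R n N) (r' : PRes R n N') (g : ι → N →ₗ[R] N')
    (φ : ι → Om n r →ₗ[R] Om n r') (H : ∀ i, IsLift n r r' (g i) (φ i)) :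
    IsLift n r r' (∑ i ∈ s, g i) (∑ i ∈ s, φ i) := by
  classical
  induction s using Finset.induction_on with
  | empty => simpa using isLift_zero n r r'
  | insert i s hi ih =>
    rw [Finset.sum_insert hi, Finset.sum_insert hi]
    exact isLift_add n r r' _ _ _ _ (H i) ih

/-- A lift of a map factoring through a finite projective module has range inside a finitely
generated submodule. -/
theorem exists_fg_of_isLift_of_factors (n : ℕ) : ∀ {N N' E : Type u} [AddCommGroup N] [Module R N]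
    [AddCommGroup N'] [Module R N'] [AddCommGroup E] [Module R E] [Module.Finite R E]
    [Module.Projective R E]
    (r : PRes R n N) (r' : PRes R n N') (g : N →ₗ[R] N') (a : N →ₗ[R] E) (b : E →ₗ[R] N')
    (_ : b ∘ₗ a = g) (φ : Om n r →ₗ[R] Om n r') (_ : IsLift n r r' g φ),
    ∃ Y : Submodule R (Om n r'), Y.FG ∧ LinearMap.range φ ≤ Y := by
  induction n with
  | zero =>
    rintro N N' E _ _ _ _ _ _ _ _ (r : Cov R N) (r' : Cov R N') g a b hab φ ⟨h, hc, rfl⟩
    obtain ⟨b', hb'⟩ := Module.projective_lifting_property r'.f b r'.surj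
    let k : r.F →ₗ[R] LinearMap.ker r'.f := LinearMap.codRestrict _ (h - b' ∘ₗ a ∘ₗ r.f) (by
      intro x
      have h1 := LinearMap.congr_fun hc x
      have h2 := LinearMap.congr_fun hb' (a (r.f x))
      have h3 := LinearMap.congr_fun hab (r.f x)
      simp only [LinearMap.comp_apply] at h1 h2 h3
      rw [LinearMap.mem_ker, LinearMap.sub_apply, map_sub, LinearMap.comp_apply,
        LinearMap.comp_apply, h1, h2, h3, sub_self])
    refine ⟨LinearMap.range k, Module.Finite.iff_fg.1 (Module.Finite.range k), ?_⟩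
    rintro _ ⟨x, rfl⟩
    refine ⟨x.1, ?_⟩
    apply Subtype.ext
    change h x.1 - b' (a (r.f x.1)) = h x.1
    rw [LinearMap.mem_ker.1 x.2, map_zero, map_zero, sub_zero]
  | succ n ih =>
    rintro N N' E _ _ _ _ _ _ _ _ r r' g a b hab φ ⟨h, hc, H⟩
    obtain ⟨b', hb'⟩ := Module.projective_lifting_property r'.1.f b r'.1.surj
    let k : r.1.F →ₗ[R] LinearMap.ker r'.1.f := LinearMap.codRestrict _ (h - b' ∘ₗ a ∘ₗ r.1.f) (by
      intro x
      have h1 := LinearMap.congr_fun hc x
      have h2 := LinearMap.congr_fun hb' (a (r.1.f x))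
      have h3 := LinearMap.congr_fun hab (r.1.f x)
      simp only [LinearMap.comp_apply] at h1 h2 h3
      rw [LinearMap.mem_ker, LinearMap.sub_apply, map_sub, LinearMap.comp_apply,
        LinearMap.comp_apply, h1, h2, h3, sub_self])
    refine ih r.2 r'.2 _ (LinearMap.ker r.1.f).subtype k ?_ φ H
    ext x
    change h x.1 - b' (a (r.1.f x.1)) = h x.1
    rw [LinearMap.mem_ker.1 x.2, map_zero, map_zero, sub_zero]

/-- A lift of zero has range inside a finitely generated submodule. -/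
theorem exists_fg_of_isLift_zero (n : ℕ) {N N' : Type u} [AddCommGroup N] [Module R N]
    [AddCommGroup N'] [Module R N'] (r : PRes R n N) (r' : PRes R n N')
    (φ : Om n r →ₗ[R] Om n r') (h : IsLift n r r' 0 φ) :
    ∃ Y : Submodule R (Om n r'), Y.FG ∧ LinearMap.range φ ≤ Y :=
  exists_fg_of_isLift_of_factors n r r' 0 (E := PUnit.{u + 1}) 0 0 (by ext x; simp) φ h

/-- Two lifts of the same map differ by a map with range in a finitely generated submodule. -/
theorem exists_fg_of_isLift_of_isLift (n : ℕ) {N N' : Type u} [AddCommGroup N] [Module R N]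
    [AddCommGroup N'] [Module R N'] (r : PRes R n N) (r' : PRes R n N') (g : N →ₗ[R] N')
    (φ ψ : Om n r →ₗ[R] Om n r') (h : IsLift n r r' g φ) (h' : IsLift n r r' g ψ) :
    ∃ Y : Submodule R (Om n r'), Y.FG ∧ LinearMap.range (φ - ψ) ≤ Y := by
  have := isLift_sub n r r' g g φ ψ h h'
  rw [sub_self] at this
  exact exists_fg_of_isLift_zero n r r' _ this

/-! ### Horseshoe -/

theorem Cov.horseshoe {N' N N'' : Type u} [AddCommGroup N'] [Module R N'] [AddCommGroup N]
    [Module R N] [AddCommGroup N''] [Module R N''] (f : N' →ₗ[R] N) (g : N →ₗ[R] N'')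
    (hf : Function.Injective f)
    (hg : Function.Surjective g) (hfg : Function.Exact f g) (r' : Cov R N') (r'' : Cov R N'') :
    ∃ (r : Cov R N) (i : r'.F →ₗ[R] r.F) (p : r.F →ₗ[R] r''.F)
      (hi : r.f ∘ₗ i = f ∘ₗ r'.f) (hp : r''.f ∘ₗ p = g ∘ₗ r.f),
      Function.Injective (kmap i f hi) ∧ Function.Surjective (kmap p g hp) ∧
      Function.Exact (kmap i f hi) (kmap p g hp) := by
  obtain ⟨q, hq⟩ := Module.projective_lifting_property g r''.f hg
  have hr : Function.Surjective ((f ∘ₗ r'.f).coprod q) := by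
    intro m
    obtain ⟨y, hy⟩ := r''.surj (g m)
    have : g (m - q y) = 0 := by
      rw [map_sub, ← hy, ← hq, LinearMap.comp_apply, sub_self]
    obtain ⟨m', hm'⟩ := (hfg _).1 this
    obtain ⟨x, hx⟩ := r'.surj m'
    refine ⟨(x, y), ?_⟩
    rw [LinearMap.coprod_apply, LinearMap.comp_apply, hx, hm']
    abel
  let r : Cov R N := ⟨r'.F × r''.F, (f ∘ₗ r'.f).coprod q, hr⟩
  have hrapp : ∀ z, r.f z = f (r'.f z.1) + q z.2 := fun z => rfl
  have hgr : ∀ z, g (r.f z) = r''.f z.2 := by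
    intro z
    rw [hrapp, map_add, hfg.apply_apply_eq_zero, zero_add, ← LinearMap.comp_apply, hq]
  refine ⟨r, LinearMap.inl R r'.F r''.F, LinearMap.snd R r'.F r''.F, ?_, ?_, ?_, ?_, ?_⟩
  · ext x
    change f (r'.f x) + q 0 = f (r'.f x)
    rw [map_zero, add_zero]
  · ext z
    · exact (hgr (z, 0)).symm
    · exact (hgr (0, z)).symm
  · intro x y hxy
    have := congrArg (fun z : LinearMap.ker r.f => z.1.1) hxy
    exact Subtype.ext this
  · rintro ⟨y, hy⟩
    have h1 : g (q y) = 0 := by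
      rw [← LinearMap.comp_apply, hq]; exact hy
    obtain ⟨m', hm'⟩ := (hfg _).1 h1
    obtain ⟨x, hx⟩ := r'.surj m'
    refine ⟨⟨(-x, y), ?_⟩, rfl⟩
    rw [LinearMap.mem_ker, hrapp]
    simp [hx, hm']
  · rintro ⟨⟨x, y⟩, hz⟩
    constructor
    · intro h
      have hy : y = 0 := congrArg Subtype.val h
      subst hy
      have hz' : f (r'.f x) = 0 := by
        rw [LinearMap.mem_ker, hrapp] at hz
        simpa using hz
      have : r'.f x = 0 := hf (by rw [hz', map_zero])
      exact ⟨⟨x, this⟩, rfl⟩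
    · rintro ⟨w, hw⟩
      have := congrArg (fun z : LinearMap.ker r.f => z.1.2) hw
      apply Subtype.ext
      exact this.symm

theorem horseshoe (n : ℕ) : ∀ {N' N N'' : Type u} [AddCommGroup N'] [Module R N']
    [AddCommGroup N] [Module R N] [AddCommGroup N''] [Module R N'']
    (f : N' →ₗ[R] N) (g : N →ₗ[R] N'') (_ : Function.Injective f)
    (_ : Function.Surjective g) (_ : Function.Exact f g) (r' : PRes R n N') (r'' : PRes R n N''),
    ∃ (r : PRes R n N) (i : Om n r' →ₗ[R] Om n r) (p : Om n r →ₗ[R] Om n r''),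
      IsLift n r' r f i ∧ IsLift n r r'' g p ∧ Function.Injective i ∧ Function.Surjective p ∧
        Function.Exact i p := by
  induction n with
  | zero =>
    intro N' N N'' _ _ _ _ _ _ f g hf hg hfg r' r''
    obtain ⟨r, i, p, hi, hp, h1, h2, h3⟩ := Cov.horseshoe f g hf hg hfg r' r''
    exact ⟨r, kmap i f hi, kmap p g hp, ⟨i, hi, rfl⟩, ⟨p, hp, rfl⟩, h1, h2, h3⟩
  | succ n ih =>
    intro N' N N'' _ _ _ _ _ _ f g hf hg hfg r' r''
    obtain ⟨s, i, p, hi, hp, h1, h2, h3⟩ := Cov.horseshoe f g hf hg hfg r'.1 r''.1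
    obtain ⟨t, i', p', hi', hp', H1, H2, H3⟩ := ih _ _ h1 h2 h3 r'.2 r''.2
    exact ⟨⟨s, t⟩, i', p', ⟨i, hi, hi'⟩, ⟨p, hp, hp'⟩, H1, H2, H3⟩

/-! ### Relation to `FPn` -/

theorem nonempty_pRes_of_fpn (n : ℕ) : ∀ (N : Type u) [AddCommGroup N] [Module R N],
    FPn R n N → Nonempty (PRes R n N) := by
  induction n with
  | zero =>
    intro N _ _ h
    have : Module.Finite R N := h
    obtain ⟨k, f, hf⟩ := Module.Finite.exists_fin' R N
    exact ⟨(⟨Fin k → R, f, hf⟩ : Cov R N)⟩
  | succ n ih =>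
    rintro N _ _ ⟨k, f, hf, h⟩
    obtain ⟨t⟩ := ih _ h
    exact ⟨⟨(⟨Fin k → R, f, hf⟩ : Cov R N), t⟩⟩

theorem fpn_of_pRes (n : ℕ) : ∀ (N : Type u) [AddCommGroup N] [Module R N],
    PRes R n N → FPn R n N := by
  induction n with
  | zero =>
    intro N _ _ (r : Cov R N)
    exact Module.Finite.of_surjective r.f r.surj
  | succ n ih =>
    intro N _ _ r
    exact FPn.of_ker r.1.f r.1.surj (FPn.of_projective _ _) (ih _ r.2)

/-- `N` is `FP_{n+1}` iff the last syzygy of a (any) partial resolution is finitely generated. -/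
theorem fpn_succ_iff (n : ℕ) : ∀ {N : Type u} [AddCommGroup N] [Module R N]
    (r : PRes R n N), FPn R (n + 1) N ↔ Module.Finite R (Om n r) := by
  induction n with
  | zero =>
    intro N _ _ r
    constructor
    · intro h
      exact FPn.ker (n := 0) (Cov.f r) (Cov.surj r) (FPn.of_projective _ _) h
    · intro h
      exact FPn.of_ker (n := 0) (Cov.f r) (Cov.surj r) (FPn.of_projective _ _) h
  | succ n ih =>
    intro N _ _ r
    refine Iff.trans ?_ (ih r.2)
    constructor
    · intro h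
      exact FPn.ker r.1.f r.1.surj (FPn.of_projective _ _) h
    · intro h
      exact FPn.of_ker r.1.f r.1.surj (FPn.of_projective _ _) h

end Groth.Agent.Flat2H.Syz
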