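import Groth.Agent.Flat2H.Syz

/-!
# Syzygies modulo finitely generated submodules: the key lemma for fppf descent on the source
-/

set_option autoImplicit false
universe u

namespace Groth.Agent.Flat2H.Syz

open TensorProduct Groth.Agent.Flat2H

variable {R : Type u} [CommRing R]

/-- If `0 → J → N → C → 0` is exact with `C` of type `FP_{n+1}` then the last syzygy of `N` is generated
by the image of the last syzygy of `J` and finitely many elements. -/
theorem top_le_range_sup_fg (n : ℕ) {J N C : Type u} [AddCommGroup J] [Module R J]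
    [AddCommGroup N] [Module R N] [AddCommGroup C] [Module R C]
    (j : J →ₗ[R] N) (p : N →ₗ[R] C) (hj : Function.Injective j)
    (hp : Function.Surjective p) (hjp : Function.Exact j p) (hC : FPn R (n + 1) C)
    (rJ : PRes R n J) (r : PRes R n N) (φ : Om n rJ →ₗ[R] Om n r) (hφ : IsLift n rJ r j φ) :
    ∃ Y : Submodule R (Om n r), Y.FG ∧ ⊤ ≤ LinearMap.range φ ⊔ Y := by
  obtain ⟨rC⟩ := nonempty_pRes_of_fpn n C hC.of_succ
  have hOC : Module.Finite R (Om n rC) := (fpn_succ_iff n rC).1 hC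
  obtain ⟨rh, i, q, hi, hq, -, h2, h3⟩ := horseshoe n j p hj hp hjp rJ rC
  obtain ⟨α, hα⟩ := exists_isLift n rh r LinearMap.id
  obtain ⟨β, hβ⟩ := exists_isLift n r rh LinearMap.id
  -- `Om rh = range i + fg`
  obtain ⟨Y₁, hY₁, hY₁'⟩ : ∃ Y : Submodule R (Om n rh), Y.FG ∧ ⊤ ≤ LinearMap.range i ⊔ Y := by
    obtain ⟨k, s, hs⟩ := Module.Finite.exists_fin (R := R) (M := Om n rC)
    choose t ht using fun a => h2 (s a)
    refine ⟨Submodule.span R (Set.range t), Submodule.fg_span (Set.finite_range t), ?_⟩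
    intro z _
    have hz : q z ∈ Submodule.span R (Set.range s) := by rw [hs]; trivial
    have : Submodule.span R (Set.range s) = (Submodule.span R (Set.range t)).map q := by
      rw [Submodule.map_span, ← Set.range_comp]
      congr 1
      congr 1
      ext a
      exact (ht a).symm
    rw [this] at hz
    obtain ⟨w, hw, hwz⟩ := hz
    have : q (z - w) = 0 := by rw [map_sub, hwz, sub_self]
    obtain ⟨v, hv⟩ := (h3 _).1 this
    have : z = i v + w := by rw [hv]; abel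
    rw [this]
    exact Submodule.add_mem_sup ⟨v, rfl⟩ hw
  -- `α ∘ β ≡ id`
  obtain ⟨Y₂, hY₂, hY₂'⟩ := exists_fg_of_isLift_of_isLift n r r _ _ _
    (isLift_comp n r rh r _ _ _ _ hβ hα) (isLift_id n r)
  -- `α ∘ i ≡ φ`
  obtain ⟨Y₃, hY₃, hY₃'⟩ := exists_fg_of_isLift_of_isLift n rJ r _ _ _
    (isLift_comp n rJ rh r _ _ _ _ hi hα) hφ
  refine ⟨Y₁.map α ⊔ Y₂ ⊔ Y₃, ((hY₁.map α).sup hY₂).sup hY₃, ?_⟩
  intro z _
  have h1 : β z ∈ LinearMap.range i ⊔ Y₁ := hY₁' trivial
  obtain ⟨_, ⟨v, rfl⟩, w, hw, hvw⟩ := Submodule.mem_sup.1 h1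
  have h4 : α (β z) - z ∈ Y₂ := hY₂' ⟨z, rfl⟩
  have h5 : α (i v) - φ v ∈ Y₃ := hY₃' ⟨v, rfl⟩
  have h6 : α (β z) = α (i v) + α w := by rw [← hvw, map_add]
  have : z = φ v + (α w + (-(α (β z) - z)) + (α (i v) - φ v)) := by
    rw [h6]; abel
  rw [this]
  refine Submodule.add_mem_sup ⟨v, rfl⟩ ?_
  refine Submodule.add_mem_sup (Submodule.add_mem_sup ⟨w, hw, rfl⟩ (Submodule.neg_mem _ h4)) h5

/-- The image of the last syzygy of `J = u (N^k)` inside the last syzygy of `N` is contained in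
`(x_1, …, x_k) • Om N + fg` when `j (u v) = ∑ x_i v_i`. -/
theorem range_le_smul_sup_fg (n : ℕ) {J N : Type u} [AddCommGroup J] [Module R J]
    [AddCommGroup N] [Module R N] {k : ℕ}
    (j : J →ₗ[R] N) (u : (Fin k → N) →ₗ[R] J) (hu : Function.Surjective u)
    (hker : FPn R n (LinearMap.ker u)) (x : Fin k → R) (hx : ∀ v, j (u v) = ∑ i, x i • v i)
    (rJ : PRes R n J) (r : PRes R n N) (φ : Om n rJ →ₗ[R] Om n r) (hφ : IsLift n rJ r j φ) :
    ∃ Y : Submodule R (Om n r), Y.FG ∧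
      LinearMap.range φ ≤ Ideal.span (Set.range x) • (⊤ : Submodule R (Om n r)) ⊔ Y := by
  classical
  obtain ⟨rK⟩ := nonempty_pRes_of_fpn n _ hker
  obtain ⟨rh, i, q, hi, hq, -, h2, h3⟩ := horseshoe n (LinearMap.ker u).subtype u
    (Submodule.injective_subtype _) hu (LinearMap.exact_subtype_ker_map u) rK rJ
  -- coordinate inclusions and projections
  let ι : Fin k → N →ₗ[R] (Fin k → N) := fun a => LinearMap.single R (fun _ : Fin k => N) a
  let pr : Fin k → (Fin k → N) →ₗ[R] N := fun a => LinearMap.proj a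
  choose ι' hι' using fun a => exists_isLift n r rh (ι a)
  choose pr' hpr' using fun a => exists_isLift n rh r (pr a)
  have hsum : (∑ a, (ι a) ∘ₗ (pr a)) = LinearMap.id := by
    refine LinearMap.ext fun v => ?_
    rw [LinearMap.sum_apply]
    refine (Finset.sum_congr rfl fun a _ => ?_).trans (Finset.univ_sum_single v)
    rfl
  obtain ⟨Y₁, hY₁, hY₁'⟩ := exists_fg_of_isLift_of_isLift n rh rh _ _ _
    (isLift_sum n Finset.univ rh rh _ _
      (fun a => isLift_comp n rh r rh _ _ _ _ (hpr' a) (hι' a)))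
    (show IsLift n rh rh _ _ from hsum ▸ isLift_id n rh)
  -- `φ ∘ q ∘ ι' a ≡ x a`
  have key : ∀ a, ∃ Y : Submodule R (Om n r), Y.FG ∧
      LinearMap.range (φ ∘ₗ q ∘ₗ ι' a - x a • LinearMap.id) ≤ Y := by
    intro a
    have h1 : IsLift n r r (j ∘ₗ u ∘ₗ ι a) (φ ∘ₗ q ∘ₗ ι' a) :=
      isLift_comp n r rJ r _ _ _ _ (isLift_comp n r rh rJ _ _ _ _ (hι' a) hq) hφ
    have h2 : j ∘ₗ u ∘ₗ ι a = x a • LinearMap.id := by
      refine LinearMap.ext fun v => ?_
      rw [LinearMap.comp_apply, LinearMap.comp_apply, hx]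
      rw [Finset.sum_eq_single a]
      · simp [ι]
      · intro b _ hb
        simp [ι, Pi.single_eq_of_ne hb]
      · intro h
        exact absurd (Finset.mem_univ a) h
    rw [h2] at h1
    exact exists_fg_of_isLift_of_isLift n r r _ _ _ h1 (isLift_smul_id n r (x a))
  choose Y hY hY' using key
  refine ⟨Y₁.map (φ ∘ₗ q) ⊔ ⨆ a, Y a, (hY₁.map _).sup (Submodule.fg_iSup Y hY), ?_⟩
  rintro _ ⟨z, rfl⟩
  obtain ⟨w, rfl⟩ := h2 z
  have h4 : (∑ a, ι' a (pr' a w)) - w ∈ Y₁ := by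
    have := hY₁' ⟨w, rfl⟩
    simpa only [LinearMap.sub_apply, LinearMap.sum_apply, LinearMap.comp_apply,
      LinearMap.id_apply] using this
  have h5 : ∀ a, φ (q (ι' a (pr' a w))) - x a • pr' a w ∈ Y a := fun a => hY' a ⟨pr' a w, rfl⟩
  have h6 : φ (q w) = (∑ a, x a • pr' a w) +
      (-(φ (q ((∑ a, ι' a (pr' a w)) - w))) + ∑ a, (φ (q (ι' a (pr' a w))) - x a • pr' a w)) := by
    rw [Finset.sum_sub_distrib, map_sub, map_sub, map_sum, map_sum]
    abel
  rw [h6]
  refine Submodule.add_mem_sup ?_ (Submodule.add_mem_sup (Submodule.neg_mem _ ⟨_, h4, rfl⟩) ?_)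
  · refine Submodule.sum_mem _ fun a _ => ?_
    exact Submodule.smul_mem_smul (Ideal.subset_span ⟨a, rfl⟩) trivial
  · exact Submodule.sum_mem _ fun a _ => (le_iSup Y a) (h5 a)

/-- Multiplication by an element killing `N` maps the last syzygy into a finitely generated
submodule. -/
theorem smul_le_fg (n : ℕ) {N : Type u} [AddCommGroup N] [Module R N] (r : PRes R n N)
    (a : R) (ha : ∀ x : N, a • x = 0) :
    ∃ Y : Submodule R (Om n r), Y.FG ∧ ∀ z : Om n r, a • z ∈ Y := by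
  have h := isLift_smul_id n r a
  have h0 : a • (LinearMap.id : N →ₗ[R] N) = 0 := by
    ext x
    exact ha x
  rw [h0] at h
  obtain ⟨Y, hY, hY'⟩ := exists_fg_of_isLift_zero n r r _ h
  exact ⟨Y, hY, fun z => hY' ⟨z, rfl⟩⟩

theorem ideal_smul_le_fg (n : ℕ) {N : Type u} [AddCommGroup N] [Module R N] (r : PRes R n N)
    (I : Ideal R) (hI : I.FG) (ha : ∀ a ∈ I, ∀ x : N, a • x = 0) :
    ∃ Y : Submodule R (Om n r), Y.FG ∧ I • (⊤ : Submodule R (Om n r)) ≤ Y := by
  obtain ⟨s, rfl⟩ := hI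
  choose Y hY hY' using fun a : s => smul_le_fg n r a.1 (ha a.1 (Ideal.subset_span a.2))
  refine ⟨⨆ a, Y a, Submodule.fg_iSup Y hY, ?_⟩
  rw [Submodule.smul_le]
  intro a ha' z _
  induction ha' using Submodule.span_induction with
  | mem x hx => exact (le_iSup Y ⟨x, hx⟩) (hY' ⟨x, hx⟩ z)
  | zero => rw [zero_smul]; exact Submodule.zero_mem _
  | add x y _ _ hx hy => rw [add_smul]; exact Submodule.add_mem _ hx hy
  | smul b x _ hx => rw [smul_assoc]; exact Submodule.smul_mem _ _ hx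

end Groth.Agent.Flat2H.Syz
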