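import Groth.Agent.Flat2H.TorDim
import Mathlib.Algebra.Polynomial.Basic
import Mathlib.Algebra.MvPolynomial.Equiv
import Mathlib.RingTheory.TensorProduct.Basic
import Mathlib.Algebra.Category.ModuleCat.ProjectiveDimension

/-!
# Tor dimension over polynomial rings; tor dimension versus projective dimension
-/

set_option autoImplicit false
universe u

open TensorProduct Polynomial

namespace Groth.Agent.Flat2H.TorDimPoly

open Groth.Agent.Flat2H.TorDim

section PolynomialSequence

variable {R : Type u} [CommRing R] {M : Type u} [AddCommGroup M] [Module R M] [Module R[X] M]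
  [IsScalarTower R R[X] M]

variable (R M) in
/-- Multiplication by `X` on an `R[X]`-module, as an `R`-linear map. -/
noncomputable def mulX : M →ₗ[R] M := (LinearMap.lsmul R[X] M X).restrictScalars R

theorem mulX_apply (m : M) : mulX R M m = (X : R[X]) • m := rfl

variable (R M) in
/-- The map `X ⊗ 1 - 1 ⊗ X`. -/
noncomputable def diffX : R[X] ⊗[R] M →ₗ[R[X]] R[X] ⊗[R] M :=
  LinearMap.lsmul R[X] (R[X] ⊗[R] M) X - (mulX R M).baseChange R[X]

theorem diffX_tmul (p : R[X]) (m : M) :
    diffX R M (p ⊗ₜ m) = (X * p) ⊗ₜ m - p ⊗ₜ ((X : R[X]) • m) := by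
  simp [diffX, mulX_apply, smul_tmul']

variable (R M) in
/-- The evaluation map `R[X] ⊗ M → M`. -/
noncomputable def evX : R[X] ⊗[R] M →ₗ[R[X]] M :=
  LinearMap.liftBaseChange R[X] (LinearMap.id : M →ₗ[R] M)

theorem evX_tmul (p : R[X]) (m : M) : evX R M (p ⊗ₜ m) = p • m := rfl

theorem evX_surjective : Function.Surjective (evX R M) := fun m => ⟨1 ⊗ₜ m, by simp [evX_tmul]⟩

theorem evX_diffX (z : R[X] ⊗[R] M) : evX R M (diffX R M z) = 0 := by
  induction z with
  | zero => simp
  | add x y hx hy => simp [hx, hy]
  | tmul p m =>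
    rw [diffX_tmul, map_sub, evX_tmul, evX_tmul, smul_smul, mul_comm, sub_self]

theorem sub_mem_range (z : R[X] ⊗[R] M) : z - 1 ⊗ₜ (evX R M z) ∈ LinearMap.range (diffX R M) := by
  induction z with
  | zero => simp
  | add x y hx hy =>
    rw [map_add, tmul_add, add_sub_add_comm]
    exact add_mem hx hy
  | tmul p m =>
    rw [evX_tmul]
    induction p using Polynomial.induction_on' with
    | add p q hp hq =>
      rw [add_tmul, add_smul, tmul_add, add_sub_add_comm]
      exact add_mem hp hq
    | monomial n a =>
      induction n generalizing m with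
      | zero =>
        have : (monomial 0 a : R[X]) = a • 1 := by
          rw [Polynomial.smul_eq_C_mul, mul_one]; rfl
        rw [this, smul_tmul, smul_assoc, one_smul, sub_self]
        exact zero_mem _
      | succ n ih =>
        have h1 : (monomial (n + 1) a : R[X]) = X * monomial n a := by
          rw [X_mul_monomial]
        have h2 : (monomial (n + 1) a : R[X]) ⊗ₜ[R] m - 1 ⊗ₜ[R] ((monomial (n + 1) a : R[X]) • m) =
            diffX R M ((monomial n a) ⊗ₜ m) +
              ((monomial n a : R[X]) ⊗ₜ[R] ((X : R[X]) • m) - 1 ⊗ₜ[R] ((monomial n a : R[X]) • ((X : R[X]) • m))) := by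
          rw [diffX_tmul, h1, smul_smul, mul_comm (monomial n a) X]
          abel
        rw [h2]
        exact add_mem (LinearMap.mem_range_self _ _) (ih _)

theorem exact_diffX_evX : Function.Exact (diffX R M) (evX R M) := by
  intro z
  constructor
  · intro hz
    have := sub_mem_range z
    rw [hz, tmul_zero, sub_zero] at this
    exact this
  · rintro ⟨z, rfl⟩
    exact evX_diffX z

/-- coefficient maps -/
noncomputable def coeffT (n : ℕ) : R[X] ⊗[R] M →ₗ[R] M :=
  TensorProduct.lid R M ∘ₗ LinearMap.rTensor M (Polynomial.lcoeff R n)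

omit [Module R[X] M] [IsScalarTower R R[X] M] in
theorem coeffT_tmul (n : ℕ) (p : R[X]) (m : M) : coeffT n (p ⊗ₜ[R] m) = p.coeff n • m := by
  simp [coeffT]

theorem coeffT_diffX_succ (n : ℕ) (z : R[X] ⊗[R] M) :
    coeffT (n + 1) (diffX R M z) = coeffT n z - (X : R[X]) • coeffT (n + 1) z := by
  induction z with
  | zero => simp
  | add x y hx hy => simp only [map_add, hx, hy, smul_add]; abel
  | tmul p m =>
    rw [diffX_tmul, map_sub, coeffT_tmul, coeffT_tmul, coeffT_tmul, coeffT_tmul, coeff_X_mul,
      smul_comm]

omit [Module R[X] M] [IsScalarTower R R[X] M] in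
theorem exists_bound (z : R[X] ⊗[R] M) : ∃ N : ℕ, ∀ n, N ≤ n →
    coeffT n z = 0 ∧ z = ∑ i ∈ Finset.range n, (X ^ i : R[X]) ⊗ₜ[R] (coeffT i z) := by
  induction z with
  | zero => exact ⟨0, fun n _ => by simp⟩
  | add x y hx hy =>
    obtain ⟨N, hN⟩ := hx
    obtain ⟨N', hN'⟩ := hy
    refine ⟨max N N', fun n hn => ?_⟩
    have h1 := hN n (le_trans (le_max_left _ _) hn)
    have h2 := hN' n (le_trans (le_max_right _ _) hn)
    refine ⟨by rw [map_add, h1.1, h2.1, add_zero], ?_⟩
    simp only [map_add, tmul_add, Finset.sum_add_distrib]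
    rw [← h1.2, ← h2.2]
  | tmul p m =>
    refine ⟨p.natDegree + 1, fun n hn => ⟨?_, ?_⟩⟩
    · rw [coeffT_tmul, coeff_eq_zero_of_natDegree_lt (by omega), zero_smul]
    · simp only [coeffT_tmul, tmul_smul, smul_tmul']
      rw [← sum_tmul]
      congr 1
      conv_lhs => rw [p.as_sum_range' n (by omega)]
      refine Finset.sum_congr rfl fun i _ => ?_
      rw [← C_mul_X_pow_eq_monomial, smul_eq_C_mul]

theorem diffX_injective : Function.Injective (diffX R M) := by
  rw [injective_iff_map_eq_zero]
  intro z hz
  have h1 : ∀ n, coeffT n z = (X : R[X]) • coeffT (n + 1) z := by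
    intro n
    have := coeffT_diffX_succ n z
    rw [hz, map_zero] at this
    exact (sub_eq_zero.1 this.symm)
  obtain ⟨N, hN⟩ := exists_bound z
  have h2 : ∀ k n, N ≤ n + k → coeffT n z = 0 := by
    intro k
    induction k with
    | zero => intro n hn; exact (hN n (by simpa using hn)).1
    | succ k ih =>
      intro n hn
      rw [h1, ih (n + 1) (by omega), smul_zero]
  rw [(hN N le_rfl).2]
  refine Finset.sum_eq_zero fun i _ => ?_
  rw [h2 N i (by omega), tmul_zero]

/-- Tor dimension over `R[X]` of an `R[X]`-module is at most one more than the tor dimension over `R`. -/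
theorem HasTorDimLE.polynomial {n : ℕ} (h : DRing.HasTorDimLE R n M) :
    DRing.HasTorDimLE R[X] (n + 1) M :=
  HasTorDimLE.right (diffX R M) (evX R M) diffX_injective evX_surjective exact_diffX_evX
    (HasTorDimLE.baseChange R[X] h) (HasTorDimLE.mono (HasTorDimLE.baseChange R[X] h) (Nat.le_succ n))

end PolynomialSequence

section Equiv

variable {A A' : Type u} [CommRing A] [CommRing A'] [Algebra A A'] {M : Type u} [AddCommGroup M]
  [Module A M] [Module A' M] [IsScalarTower A A' M]

theorem hasTorDimLE_iff_of_bijective (h : Function.Bijective (algebraMap A A')) (n : ℕ) :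
    DRing.HasTorDimLE A n M ↔ DRing.HasTorDimLE A' n M := by
  have : IsLocalization.Away (1 : A) A' := IsLocalization.away_of_isUnit_of_bijective _ isUnit_one h
  exact hasTorDimLE_localization_iff (Submonoid.powers (1 : A)) A' n

end Equiv

section MvPolynomial

/-- Tor dimension over a polynomial ring in `k` variables. -/
theorem HasTorDimLE.mvPolynomial (k : ℕ) : ∀ {A : Type u} [CommRing A] {M : Type u} [AddCommGroup M] [Module A M]
    [Module (MvPolynomial (Fin k) A) M] [IsScalarTower A (MvPolynomial (Fin k) A) M] {n : ℕ}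
    (_ : DRing.HasTorDimLE A n M), DRing.HasTorDimLE (MvPolynomial (Fin k) A) (n + k) M := by
  induction k with
  | zero =>
    intro A _ M _ _ _ _ n h
    have hb : Function.Bijective (algebraMap A (MvPolynomial (Fin 0) A)) := by
      rw [MvPolynomial.algebraMap_eq]
      exact ⟨MvPolynomial.C_injective _ _, MvPolynomial.C_surjective _⟩
    exact (hasTorDimLE_iff_of_bijective hb n).1 h
  | succ k ih =>
    intro A _ M _ _ _ _ n h
    let e := MvPolynomial.finSuccEquiv A k
    let φ : Polynomial (MvPolynomial (Fin k) A) →+* MvPolynomial (Fin (k + 1)) A := e.symm.toAlgHom.toRingHom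
    let _ : Module (Polynomial (MvPolynomial (Fin k) A)) M := Module.compHom M φ
    let _ : Module (MvPolynomial (Fin k) A) M := Module.compHom M
      (φ.comp (algebraMap (MvPolynomial (Fin k) A) (Polynomial (MvPolynomial (Fin k) A))))
    have _ : IsScalarTower (MvPolynomial (Fin k) A) (Polynomial (MvPolynomial (Fin k) A)) M := by
      refine IsScalarTower.of_algebraMap_smul fun r x => rfl
    have _ : IsScalarTower A (MvPolynomial (Fin k) A) M := by
      refine IsScalarTower.of_algebraMap_smul fun r x => ?_
      change e.symm (Polynomial.C (MvPolynomial.C r)) • x = r • x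
      have : e.symm (Polynomial.C (MvPolynomial.C r)) = MvPolynomial.C r := e.symm.commutes r
      rw [this, ← MvPolynomial.algebraMap_eq, algebraMap_smul]
    have h1 := HasTorDimLE.polynomial (ih h)
    let _ : Algebra (Polynomial (MvPolynomial (Fin k) A)) (MvPolynomial (Fin (k + 1)) A) := φ.toAlgebra
    have _ : IsScalarTower (Polynomial (MvPolynomial (Fin k) A)) (MvPolynomial (Fin (k + 1)) A) M := by
      refine IsScalarTower.of_algebraMap_smul fun r x => rfl
    exact (hasTorDimLE_iff_of_bijective (A := Polynomial (MvPolynomial (Fin k) A))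
      (A' := MvPolynomial (Fin (k + 1)) A) e.symm.bijective _).1 h1

theorem hasFiniteTorDim_mvPolynomial {A : Type u} [CommRing A] (k : ℕ) (M : Type u) [AddCommGroup M] [Module A M]
    [Module (MvPolynomial (Fin k) A) M] [IsScalarTower A (MvPolynomial (Fin k) A) M]
    (h : DRing.HasFiniteTorDim A M) : DRing.HasFiniteTorDim (MvPolynomial (Fin k) A) M := by
  obtain ⟨n, hn⟩ := h
  exact ⟨n + k, HasTorDimLE.mvPolynomial k hn⟩

/-- Finite tor dimension of a module over a polynomial ring is the same as over the base. -/
theorem hasFiniteTorDim_mvPolynomial_iff {A : Type u} [CommRing A] (k : ℕ) (M : Type u) [AddCommGroup M] [Module A M]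
    [Module (MvPolynomial (Fin k) A) M] [IsScalarTower A (MvPolynomial (Fin k) A) M] :
    DRing.HasFiniteTorDim (MvPolynomial (Fin k) A) M ↔ DRing.HasFiniteTorDim A M := by
  refine ⟨?_, hasFiniteTorDim_mvPolynomial k M⟩
  rintro ⟨n, hn⟩
  exact ⟨0 + n, HasTorDimLE.trans A (MvPolynomial (Fin k) A) (HasTorDimLE.of_flat 0) hn⟩

end MvPolynomial

section ProjectiveDimension

open CategoryTheory

variable {A : Type u} [CommRing A]

theorem hasProjectiveDimensionLE_succ_iff_ker {F M : Type u} [AddCommGroup F] [Module A F] [AddCommGroup M]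
    [Module A M] [Module.Projective A F] (f : F →ₗ[A] M) (hf : Function.Surjective f) (n : ℕ) :
    HasProjectiveDimensionLE (ModuleCat.of A M) (n + 1) ↔
      HasProjectiveDimensionLE (ModuleCat.of A (LinearMap.ker f)) n := by
  have hS := shortExact_mk (LinearMap.ker f).subtype f (Submodule.subtype_injective _) hf
    (LinearMap.exact_subtype_ker_map f)
  have hp : Projective (ModuleCat.of A F) := (IsProjective.iff_projective _).1 inferInstance
  exact hS.hasProjectiveDimensionLT_X₃_iff n hp

/-- Projective dimension bounds tor dimension. -/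
theorem hasTorDimLE_of_hasProjectiveDimensionLE {n : ℕ} {M : Type u} [AddCommGroup M] [Module A M]
    (h : HasProjectiveDimensionLE (ModuleCat.of A M) n) : DRing.HasTorDimLE A n M := by
  induction n generalizing M with
  | zero =>
    rw [← projective_iff_hasProjectiveDimensionLE_zero, ← IsProjective.iff_projective] at h
    exact HasTorDimLE.of_flat 0
  | succ n ih =>
    let f : (M →₀ A) →ₗ[A] M := Finsupp.linearCombination A id
    have hf : Function.Surjective f := Finsupp.linearCombination_id_surjective A M
    have h1 := (hasProjectiveDimensionLE_succ_iff_ker f hf n).1 h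
    exact (hasTorDimLE_succ_iff_ker f hf n).2 (ih h1)

/-- For finite modules over Noetherian rings tor dimension and projective dimension agree. -/
theorem hasProjectiveDimensionLE_of_hasTorDimLE [IsNoetherianRing A] {n : ℕ} {M : Type u} [AddCommGroup M]
    [Module A M] [Module.Finite A M] (h : DRing.HasTorDimLE A n M) :
    HasProjectiveDimensionLE (ModuleCat.of A M) n := by
  induction n generalizing M with
  | zero =>
    rw [hasTorDimLE_zero_iff] at h
    have : Module.FinitePresentation A M := Module.finitePresentation_of_finite A M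
    rw [← projective_iff_hasProjectiveDimensionLE_zero, ← IsProjective.iff_projective]
    exact Module.Flat.projective_of_finitePresentation
  | succ n ih =>
    obtain ⟨k, f, hf⟩ := Module.Finite.exists_fin' A M
    exact (hasProjectiveDimensionLE_succ_iff_ker f hf n).2 (ih ((hasTorDimLE_succ_iff_ker f hf n).1 h))

end ProjectiveDimension

end Groth.Agent.Flat2H.TorDimPoly
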